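import Groth.Agent.Surf15.Hodge

/-!
# Surf15: intersection numbers computed on inverse modules
-/

set_option autoImplicit false
set_option linter.style.haveILetI false
set_option backward.isDefEq.respectTransparency.types false

universe u

open CategoryTheory CategoryTheory.Limits AlgebraicGeometry Opposite TopologicalSpace
open Groth.Agent.Coherent Groth.Agent.PicLib Groth.Agent.AmpleLib Groth.Agent.EulerLib

namespace Groth.Agent.Surf15

variable {X : Scheme.{u}}

theorem isInvertible_inverse {N N' : X.Modules} (hN : PicF.IsInvertible N)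
    (h : Nonempty (CohB1.tensorMod N N' ≅ Coh.structureModule X)) : PicF.IsInvertible N' :=
  let ⟨e⟩ := h
  PicM.isInvertible_of_tensor hN (glocus_isInvertible_of_iso e.symm isInvertible_structureModule)

theorem mk_mul_inverse {N N' : X.Modules} (hN : PicF.IsInvertible N)
    (h : Nonempty (CohB1.tensorMod N N' ≅ Coh.structureModule X)) :
    InvCl.mk N hN * InvCl.mk N' (isInvertible_inverse hN h) = 1 :=
  let ⟨e⟩ := h
  InvCl.mk_eq _ _ e

variable (k : Type u) [Field k] [X.Over (Spec (CommRingCat.of k))]
  [IsProper (X ↘ Spec (CommRingCat.of k))]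

include k in
theorem intNum_inverse (hX : topologicalKrullDim X ≤ ((2 : ℕ) : WithBot ℕ∞)) {N N' H H' : X.Modules}
    (hN : PicF.IsInvertible N) (hNN' : Nonempty (CohB1.tensorMod N N' ≅ Coh.structureModule X))
    (hH : PicF.IsInvertible H) (hHH' : Nonempty (CohB1.tensorMod H H' ≅ Coh.structureModule X)) :
    FGA.intNum k X 2 ![N', H'] (Coh.structureModule X) = B k (InvCl.mk N hN) (InvCl.mk H hH) := by
  rw [intNum_eq_B k hX (isInvertible_inverse hN hNN') (isInvertible_inverse hH hHH'),
    B_inv_inv k hX (mk_mul_inverse hN hNN') (mk_mul_inverse hH hHH')]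

end Groth.Agent.Surf15
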