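import Groth.Agent.RefHullLib.Coh
import Groth.Agent.Coherent.InternalHom
import Groth.Agent.TwistLib.G.Basics

/-!
# Surf15: the stalkwise sheaf Hom agrees with the internal Hom
-/

set_option autoImplicit false
set_option linter.style.haveILetI false
set_option backward.isDefEq.respectTransparency.types false

universe u

open CategoryTheory AlgebraicGeometry Opposite TopologicalSpace
open Groth.Agent.Coherent Groth.Agent.AmpleLib Groth.Agent.RefHullLib

namespace Groth.Agent.Surf15

variable {X : Scheme.{u}} {F G : X.Modules}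

/-- The value of a section of the sheaf Hom at a section. -/
noncomputable def evalSec {U : X.Opens} (g : Γ(RefHull.homSh F G, U)) (a : Γ(F, U)) : Γ(G, U) :=
  (exists_evalSec g a).choose

theorem germ_evalSec {U : X.Opens} (g : Γ(RefHull.homSh F G, U)) (a : Γ(F, U)) (y : X) (hy : y ∈ U) :
    G.presheaf.germ U y hy (evalSec g a) = g.1 ⟨y, hy⟩ (F.presheaf.germ U y hy a) :=
  (exists_evalSec g a).choose_spec ⟨y, hy⟩

/-- Evaluation, as a bilinear map. -/
noncomputable def evalBilin : Bilin F (RefHull.homSh F G) G where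
  app U x g := evalSec g x
  add_left U x x' g := section_eq_of_germ _ _ fun y hy => by
    simp only [map_add, germ_evalSec]
  add_right U x g g' := section_eq_of_germ _ _ fun y hy => by
    simp only [map_add, germ_evalSec]
    rfl
  smul_left U r x g := section_eq_of_germ _ _ fun y hy => by
    rw [germ_evalSec, Mero.germ_smul, Mero.germ_smul, germ_evalSec, map_smul]
  smul_right U r x g := section_eq_of_germ _ _ fun y hy => by
    rw [germ_evalSec, Mero.germ_smul, germ_evalSec]
    rfl
  res U V h x g := section_eq_of_germ _ _ fun y hy => by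
    rw [TopCat.Presheaf.germ_res_apply, germ_evalSec, germ_evalSec, TopCat.Presheaf.germ_res_apply]
    rfl

theorem bijective_curry_eval (U : X.Opens) :
    Function.Bijective ((curry (evalBilin (F := F) (G := G))).app U) := by
  constructor
  · intro g g' h
    refine Subtype.ext (funext fun y => LinearMap.ext fun v => ?_)
    obtain ⟨W, hW, m, rfl⟩ := F.presheaf.exists_germ_eq v
    have h1 := congrArg (fun φ => ev (secHom φ) (W ⊓ U) inf_le_right (resM F inf_le_left m)) h
    rw [ev_curry, ev_curry] at h1
    have h2 := congr(G.presheaf.germ (W ⊓ U) y.1 ⟨hW, y.2⟩ $h1)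
    change G.presheaf.germ _ _ _ (evalSec _ _) = G.presheaf.germ _ _ _ (evalSec _ _) at h2
    rw [germ_evalSec, germ_evalSec, TopCat.Presheaf.germ_res_apply] at h2
    exact h2
  · intro ψ
    let φ : locHom F G U := secHom ψ
    let val : ∀ (W : X.Opens) (y : U), y.1 ∈ W → Γ(F, W) → G.presheaf.stalk y.1 := fun W y hy m =>
      G.presheaf.germ (W ⊓ U) y.1 ⟨hy, y.2⟩ (ev φ (W ⊓ U) inf_le_right (resM F inf_le_left m))
    have hval : ∀ (W W' : X.Opens) (y : U) (hy : y.1 ∈ W) (hy' : y.1 ∈ W') (m : Γ(F, W)) (m' : Γ(F, W')),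
        F.presheaf.germ W y.1 hy m = F.presheaf.germ W' y.1 hy' m' → val W y hy m = val W' y hy' m' := by
      intro W W' y hy hy' m m' e
      obtain ⟨V, hyV, i, j, e'⟩ := TopCat.Presheaf.germ_eq F.presheaf y.1 hy hy' m m' e
      change resM F i.le m = resM F j.le m' at e'
      have key : ∀ (A : X.Opens) (hyA : y.1 ∈ A) (hVA : V ≤ A) (a : Γ(F, A)),
          val A y hyA a = G.presheaf.germ (V ⊓ U) y.1 ⟨hyV, y.2⟩ (ev φ (V ⊓ U) inf_le_right
            (resM F inf_le_left (resM F hVA a))) := fun A hyA hVA a => by
        have h1 := ev_res φ (inf_le_right : A ⊓ U ≤ U) (inf_le_inf_right U hVA) (resM F inf_le_left a)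
        rw [resM_resM] at h1 ⊢
        rw [← h1, TopCat.Presheaf.germ_res_apply]
      rw [key W hy i.le m, key W' hy' j.le m', e']
    have hrep : ∀ (y : U) (v : F.presheaf.stalk y.1), ∃ (W : X.Opens) (hy : y.1 ∈ W) (m : Γ(F, W)),
        F.presheaf.germ W y.1 hy m = v := fun y v => F.presheaf.exists_germ_eq v
    choose W hWy m hm using hrep
    let f : ∀ y : U, RefHull.StalkHom F G y.1 := fun y =>
      { toFun := fun v => val (W y v) y (hWy y v) (m y v)
        map_add' := fun v w => by
          let A := W y v ⊓ W y w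
          let a := resM F (inf_le_left : A ≤ _) (m y v)
          let b := resM F (inf_le_right : A ≤ _) (m y w)
          have hA : y.1 ∈ A := ⟨hWy y v, hWy y w⟩
          have ha : F.presheaf.germ A y.1 hA a = v := by rw [TopCat.Presheaf.germ_res_apply, hm]
          have hb : F.presheaf.germ A y.1 hA b = w := by rw [TopCat.Presheaf.germ_res_apply, hm]
          rw [hval _ A y (hWy y v) hA _ a ((hm y v).trans ha.symm),
            hval _ A y (hWy y w) hA _ b ((hm y w).trans hb.symm),
            hval _ A y (hWy y (v + w)) hA _ (a + b) (by rw [hm, map_add, ha, hb])]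
          simp only [val]
          rw [← map_add, map_add (resM F (inf_le_left : A ⊓ U ≤ A))]
          exact congrArg _ (map_add (φ.1 (A ⊓ U) inf_le_right) _ _)
        map_smul' := fun r v => by
          obtain ⟨R, hR, r', rfl⟩ := X.presheaf.exists_germ_eq r
          let A := R ⊓ W y v
          have hA : y.1 ∈ A := ⟨hR, hWy y v⟩
          let a := resM F (inf_le_right : A ≤ _) (m y v)
          let c : Γ(X, A) := X.presheaf.map (homOfLE (inf_le_left : A ≤ R)).op r'
          have ha : F.presheaf.germ A y.1 hA a = v := by rw [TopCat.Presheaf.germ_res_apply, hm]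
          have hc : X.presheaf.germ A y.1 hA c = X.presheaf.germ R y.1 hR r' :=
            TopCat.Presheaf.germ_res_apply X.presheaf _ _ _ _
          rw [RingHom.id_apply, hval _ A y (hWy y v) hA _ a ((hm y v).trans ha.symm),
            hval _ A y (hWy y _) hA _ (c • a) (by rw [hm, Mero.germ_smul, ha, hc])]
          simp only [val]
          rw [resM_smul, ev_smul_arg, Mero.germ_smul, TopCat.Presheaf.germ_res_apply, hc] }
    have hf : RefHull.IsLocSect F G f := fun V i a x =>
      ⟨V, x.2, 𝟙 V, ev φ V i.le a, fun y => by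
        refine (hval _ V ⟨y.1, i.le y.2⟩ (hWy _ (F.presheaf.germ V y.1 y.2 a)) y.2 _ a (hm _ _)).trans ?_
        have h1 := ev_res φ i.le (inf_le_left : V ⊓ U ≤ V) a
        simp only [val]
        rw [← h1, TopCat.Presheaf.germ_res_apply]⟩
    refine ⟨(⟨f, hf⟩ : Γ(RefHull.homSh F G, U)), ?_⟩
    refine (locHom_ext fun V hV a => ?_ : secHom _ = φ)
    refine section_eq_of_germ _ _ fun y hy => ?_
    rw [ev_curry]
    change G.presheaf.germ V y hy (evalSec _ a) = _
    rw [germ_evalSec]
    refine (hval _ V ⟨y, hV hy⟩ (hWy _ (F.presheaf.germ V y hy a)) hy _ a (hm _ _)).trans ?_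
    have h1 := ev_res φ hV (inf_le_left : V ⊓ U ≤ V) a
    simp only [val]
    rw [← h1, TopCat.Presheaf.germ_res_apply]

/-- The stalkwise sheaf Hom is the internal Hom. -/
theorem nonempty_homSh_iso (F G : X.Modules) : Nonempty (RefHull.homSh F G ≅ internalHom F G) := by
  haveI := TwistLib.G.isIso_of_bijective_on_basis (curry (evalBilin (F := F) (G := G))) (fun _ => True)
    (fun V y hy => ⟨V, trivial, hy, le_rfl⟩) (fun B _ => bijective_curry_eval B)
  exact ⟨asIso (curry (evalBilin (F := F) (G := G)))⟩

end Groth.Agent.Surf15
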