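import Groth.Agent.Surf15.LMStableMain

/-!
# Surf15: Brill–Noether numbers on K3 surfaces with cyclic Picard group
-/

set_option autoImplicit false
set_option linter.style.haveILetI false
set_option linter.unusedSectionVars false
set_option maxHeartbeats 1000000
set_option synthInstance.maxHeartbeats 200000
set_option backward.isDefEq.respectTransparency.types false

universe u

open CategoryTheory CategoryTheory.Abelian CategoryTheory.Limits AlgebraicGeometry Opposite TopologicalSpace
open Groth.Agent.Coherent Groth.Agent.PicLib Groth.Agent.AmpleLib Groth.Agent.EulerLib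
open Groth.Agent.CurveRR24

namespace Groth.Agent.Surf15

/-- Comparison of `H⁰` with global sections is natural. -/
theorem hhZero_natural {X : Scheme.{u}} (k : Type u) [Field k] [X.Over (Spec (CommRingCat.of k))]
    {M N : X.Modules} (f : M ⟶ N) (x : Coh.HH X M 0) :
    hhZero k N (SerreDual.hmap k f 0 x) = mapGA (baseHom k X) f (hhZero k M x) := by
  unfold SerreDual.hmap hhZero
  simp only [LinearEquiv.trans_apply, LinearMap.coe_comp, LinearEquiv.coe_coe, Function.comp_apply]
  rw [← secA_natural]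
  exact congrArg (secA (baseHom k X) N) ((SerreDual.hBE k N 0).apply_symm_apply _)

section Curve

variable {C : Scheme.{u}} (k : Type u) [Field k] [C.Over (Spec (CommRingCat.of k))]
  [IsProper (C ↘ Spec (CommRingCat.of k))] [IsIntegral C] [Smooth (C ↘ Spec (CommRingCat.of k))]
  (hC : topologicalKrullDim C = 1)
include k hC

/-- The generated part of a line bundle. -/
theorem exists_generated_part {A : C.Modules} (hA : PicF.IsInvertible A)
    (h0 : 0 < Module.finrank k (Coh.HH C A 0)) :
    ∃ (A' : C.Modules) (p : Coherent.freeMod C (ULift.{u} (Fin (Module.finrank k (Coh.HH C A 0)))) ⟶ A'),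
      PicF.IsInvertible A' ∧ Epi p ∧
      Module.finrank k (Coh.HH C A' 0) = Module.finrank k (Coh.HH C A 0) ∧
      Module.finrank k (Coh.HH C A 1) ≤ Module.finrank k (Coh.HH C A' 1) ∧
      ∀ y : Γ(A', ⊤), ∃ c : ULift.{u} (Fin (Module.finrank k (Coh.HH C A 0))) → k,
        y = ∑ j, baseHom k C (c j) • unitVal (freeInj j ≫ p) ⊤ := by
  classical
  haveI := isNoetherian_of_proper (X := C) k
  haveI := isSeparated_of_proper (X := C) k
  have hAc := isCoh_of_isInvertible k hA
  haveI := finite_HH_of_isCoh k hAc 0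
  set e := Module.finrank k (Coh.HH C A 0)
  let b : Module.Basis (ULift.{u} (Fin e)) k (GA (baseHom k C) A) :=
    ((Module.finBasis k (Coh.HH C A 0)).map (hhZero k A)).reindex Equiv.ulift.symm
  let q : Coherent.freeMod C (ULift.{u} (Fin e)) ⟶ A :=
    freeDesc fun j => unitDesc A (show Γ(A, ⊤) from b j)
  let ι := Abelian.image.ι q
  let p := Abelian.factorThruImage q
  have hfc : Coh.IsCoh (Coherent.freeMod C (ULift.{u} (Fin e))) :=
    CohBC.isCoh_of_isFinLocFree (FlatMorAdm.isFinLocFree_of_iso (Props12.freeModIso C e).symm (isFinLocFree_freeMod' e))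
  have hc : Coh.IsCoh (Abelian.image q) := EulerLib.isCoh_image q hfc hAc
  have hval : ∀ j, ι.app ⊤ (unitVal (freeInj j ≫ p) ⊤) = (show Γ(A, ⊤) from b j) := fun j => by
    show ((freeInj j ≫ p) ≫ ι).app ⊤ (1 : Γ(C, ⊤)) = _
    rw [Category.assoc, Abelian.image.fac, freeInj_freeDesc]
    exact SerreDual.unitDesc_one_app _
  have hne : ¬ IsZero (Abelian.image q) := fun hz => by
    obtain ⟨j⟩ : Nonempty (ULift.{u} (Fin e)) := ⟨⟨⟨0, h0⟩⟩⟩
    refine b.ne_zero j ?_
    show (show Γ(A, ⊤) from b j) = 0
    rw [← hval j, hz.eq_of_src ι 0]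
    rfl
  have hspan : ∀ y : Γ(Abelian.image q, ⊤), ∃ c : ULift.{u} (Fin e) → k,
      y = ∑ j, baseHom k C (c j) • unitVal (freeInj j ≫ p) ⊤ := fun y => by
    refine ⟨fun j => b.repr (ι.app ⊤ y) j, app_injective_of_mono ι ⊤ ?_⟩
    rw [map_sum]
    refine Eq.trans (show (ι.app ⊤ y : GA (baseHom k C) A) = _ from (b.sum_repr (ι.app ⊤ y)).symm) ?_
    refine Finset.sum_congr rfl fun j _ => ?_
    rw [Scheme.Modules.Hom.app_smul, hval]
    rfl
  have hbij : Function.Bijective (mapGA (baseHom k C) ι) := by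
    refine ⟨app_injective_of_mono ι ⊤, fun y => ?_⟩
    let z : Γ(Abelian.image q, ⊤) := ∑ j, baseHom k C (b.repr y j) • unitVal (freeInj j ≫ p) ⊤
    refine ⟨z, ?_⟩
    show ι.app ⊤ z = _
    rw [map_sum]
    refine Eq.trans ?_ (b.sum_repr y)
    refine Finset.sum_congr rfl fun j _ => ?_
    rw [Scheme.Modules.Hom.app_smul, hval]
    rfl
  -- local freeness
  have hreg : ∀ x : C, IsRegularLocalRing (C.presheaf.stalk x) := fun x =>
    VarietyLib.isRegularLocalRing_stalk_of_smooth k _ (C ↘ Spec (CommRingCat.of k)) x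
  have hfree : FlatMod.IsFinLocFree (Abelian.image q) := by
    refine (RefHullLib.isTorsionFree_iff_isFinLocFree_of_dim_le_one hreg hC.le hc).1 fun x => ?_
    have hinj : Function.Injective ((DerSch.stalkFunctor C x).map ι).hom :=
      (ModuleCat.mono_iff_injective _).1 inferInstance
    haveI := isTorsionFree_stalk_of_isFinLocFree
      (VarietyLib.isFinLocFree_of_rank (isFinLocFreeOfRank_one hA)) x
    refine ⟨fun {r m} hrm => ?_⟩
    have h2 : r • ((DerSch.stalkFunctor C x).map ι).hom m = 0 :=
      ((((DerSch.stalkFunctor C x).map ι).hom).map_smul r m).symm.trans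
        ((congrArg _ hrm).trans (map_zero _))
    haveI : Module.IsTorsionFree (C.presheaf.stalk x) ((DerSch.stalkFunctor C x).obj A) :=
      inferInstanceAs (Module.IsTorsionFree (C.presheaf.stalk x) (A.presheaf.stalk x))
    rcases smul_eq_zero.1 h2 with h | h
    · exact Or.inl h
    · exact Or.inr (hinj (h.trans (map_zero _).symm))
  have hS : (ShortComplex.mk ι (cokernel.π ι) (cokernel.condition ι)).ShortExact :=
    { exact := ShortComplex.exact_cokernel ι }
  obtain ⟨r, hr⟩ := VB5.exists_rank hfree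
  have hadd := VB5.grk_additive hS hAc
  dsimp only at hadd
  rw [VB5.rank_one hA, VB5.grk_eq hr] at hadd
  have hr0 : r ≠ 0 := fun h => hne (Clifford24.isZero_of_rank_zero (h ▸ hr))
  have hr1 : r = 1 := by omega
  subst hr1
  have hT0 : VB5.grk (cokernel ι) = 0 := by omega
  have hA' : PicF.IsInvertible (Abelian.image q) := VB5.invertible_of_rank_one hr
  refine ⟨Abelian.image q, p, hA', inferInstance, ?_, ?_, hspan⟩
  · rw [(hhZero k (Abelian.image q)).finrank_eq, (LinearEquiv.ofBijective _ hbij).finrank_eq,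
      ← (hhZero k A).finrank_eq]
  -- `H¹`
  have hTc : Coh.IsCoh (cokernel ι) := isCoh_cokernel ι hc.1 hAc
  have hTs : IsClosed (CohB1.support (cokernel ι)) := isClosed_support _ (locallyFinGen_of_isFT _ hTc.2)
  have hη : genericPoint C ∉ CohB1.support (cokernel ι) := fun hs => by
    haveI := VB5.finite_generic (X := C) hTc
    exact hs (Module.finrank_zero_iff.1 hT0)
  have hlt : topologicalKrullDim (CohB1.support (cokernel ι)) < ((1 : ℕ) : WithBot ℕ∞) :=
    dim_lt_of_notMem (X := C) hTs (Set.subset_univ _) isClosed_univ (genericPoint_spec C) hη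
      ((Topology.IsInducing.subtypeVal.topologicalKrullDim_le).trans hC.le)
  haveI : Subsingleton (Coh.HH C (cokernel ι) 1) :=
    subsingleton_HH_of_support (X := C) ⟨_, hTs⟩ _ hTc.1 subset_rfl 1 hlt
  haveI := finite_HH_of_isCoh k hc 1
  have hsurj : Function.Surjective (SerreDual.hmap k ι 1) := fun y =>
    (SerreDual.exact_hmap k hS 1 y).1 (Subsingleton.elim _ _)
  have hle := LinearMap.finrank_range_le (SerreDual.hmap k ι 1)
  rwa [LinearMap.range_eq_top.2 hsurj, finrank_top] at hle

end Curve

section Push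

variable {X C : Scheme.{u}} (k : Type u) [Field k] [X.Over (Spec (CommRingCat.of k))]
  [IsProper (X ↘ Spec (CommRingCat.of k))] [C.Over (Spec (CommRingCat.of k))]
  (i : C ⟶ X) [IsClosedImmersion i]
  (hi : i ≫ (X ↘ Spec (CommRingCat.of k)) = C ↘ Spec (CommRingCat.of k))
include k hi

/-- The evaluation map on the surface. -/
theorem exists_lam {A' : C.Modules} (hA' : PicF.IsInvertible A') {e : ℕ}
    (p : Coherent.freeMod C (ULift.{u} (Fin e)) ⟶ A') [Epi p]
    (hO : Module.finrank k (Coh.HH X (Coh.structureModule X) 0) = 1)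
    (he : Module.finrank k (Coh.HH C A' 0) = e)
    (hspan : ∀ y : Γ(A', ⊤), ∃ c : ULift.{u} (Fin e) → k, y = ∑ j, baseHom k C (c j) • unitVal (freeInj j ≫ p) ⊤) :
    ∃ lam : FlatMod.freeMod X e ⟶ (Coh.push i).obj A', Epi lam ∧ Function.Bijective (SerreDual.hmap k lam 0) := by
  classical
  haveI := isNoetherian_of_proper (X := X) k
  haveI := isSeparated_of_proper (X := X) k
  haveI : IsProper (C ↘ Spec (CommRingCat.of k)) := hi ▸ inferInstance
  haveI := isNoetherian_of_proper (X := C) k
  haveI := isQCoh_of_isInvertible hA'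
  let P := (Coh.push i).obj A'
  let t : ULift.{u} (Fin e) → Γ(P, ⊤) := fun j => unitVal (freeInj j ≫ p) ⊤
  let lam₀ : Coherent.freeMod X (ULift.{u} (Fin e)) ⟶ P := freeDesc fun j => unitDesc P (t j)
  let lam : FlatMod.freeMod X e ⟶ P := (Props12.freeModIso X e).inv ≫ lam₀
  have hbv : ∀ j, lam₀.app ⊤ (freeBasisVec j ⊤) = t j := fun j => by
    show (freeInj j ≫ lam₀).app ⊤ (1 : Γ(X, ⊤)) = _
    rw [freeInj_freeDesc]
    exact SerreDual.unitDesc_one_app _
  refine ⟨lam, ?_, ?_⟩
  · haveI : Epi lam₀ := by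
      refine OmegaLib.epi_of_stalks_surjective lam₀ fun x => ?_
      intro v
      by_cases hx : x ∈ Set.range i
      swap
      · have hbij := CycLib28.pushGerm_bijective i i.isClosedMap A' Set.univ isClosed_univ
          (fun z hz => absurd (Set.mem_univ z) hz) x ∅
          (fun z => ⟨fun hz => absurd hz (Finset.notMem_empty z), fun hz => absurd ⟨z, hz.2⟩ hx⟩)
          (fun _ => ⊤) (fun _ _ => trivial) (fun a ha => absurd ha (Finset.notMem_empty a))
        haveI : Subsingleton ((DerSch.stalkFunctor X x).obj P) := hbij.1.subsingleton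
        exact ⟨0, Subsingleton.elim _ _⟩
      obtain ⟨c, rfl⟩ := hx
      obtain ⟨w, hw⟩ := (ModuleCat.epi_iff_surjective ((DerSch.stalkFunctor C c).map p)).1 inferInstance
        (CycLib28.pushGerm i A' (i c) c rfl v)
      obtain ⟨U, hU, a, rfl⟩ := TopCat.Presheaf.exists_germ_eq (Coherent.freeMod C (ULift.{u} (Fin e))).presheaf w
      have hst := (stalk_map_germ p hU a).symm.trans hw
      choose r hr using fun j => i.stalkMap_surjective c (C.presheaf.germ U c hU (freeCoord U j a))
      refine ⟨∑ j, r j • (show (DerSch.stalkFunctor X (i c)).obj _ from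
        (Coherent.freeMod X (ULift.{u} (Fin e))).presheaf.germ ⊤ (i c) trivial (freeBasisVec j ⊤)), ?_⟩
      refine (pushGerm_bijective_imm i A' c).1 (Eq.trans ?_ hst)
      rw [map_sum, freeMod_app p a]
      refine (map_sum (CycLib28.pushGerm i A' (i c) c rfl).hom _ _).trans ?_
      refine Eq.trans ?_ (map_sum (A'.presheaf.germ U c hU).hom _ _).symm
      refine Finset.sum_congr rfl fun j _ => ?_
      rw [map_smul]
      refine (CycLib28.pushGerm_smul i A' (i c) c rfl (r j) _).trans ?_
      rw [TopCat.Presheaf.stalkSpecializes_refl]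
      refine Eq.trans ?_ (PresheafOfModules.germ_smul A'.val c U hU _ _).symm
      refine congrArg₂ (· • ·) (hr j) ?_
      refine (congrArg (CycLib28.pushGerm i A' (i c) c rfl)
        ((stalk_map_germ lam₀ (W := (⊤ : X.Opens)) (y := i c) trivial (freeBasisVec j ⊤)).trans (congrArg _ (hbv j)))).trans ?_
      refine (CycLib28.pushGerm_germ i A' (i c) c rfl ⊤ trivial (t j)).trans ?_
      rw [← resM_unitVal (freeInj j ≫ p) (le_top : U ≤ ⊤)]
      exact (TopCat.Presheaf.germ_res_apply A'.presheaf (homOfLE le_top) c hU _).symm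
    exact epi_comp _ _
  -- sections
  have hPc : Coh.IsCoh P := Coherent.isCoh_push_finite i (isCoh_of_isInvertible k hA')
  haveI := finite_HH_of_isCoh k hPc 0
  haveI := finite_HH_of_isCoh k (CohBC.isCoh_of_isFinLocFree (isFinLocFree_freeMod' (X := X) e)) 0
  have hdim : Module.finrank k (Coh.HH X (FlatMod.freeMod X e) 0) = Module.finrank k (Coh.HH X P 0) := by
    rw [finrank_h0_free k hO, ← (SerreDual.hpush i k hi A' 0).finrank_eq, he]
  have hsurj : Function.Surjective (SerreDual.hmap k lam 0) := by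
    intro y
    obtain ⟨c, hc⟩ := hspan (show Γ(A', ⊤) from hhZero k P y)
    refine ⟨(hhZero k (FlatMod.freeMod X e)).symm ((Props12.freeModIso X e).hom.app ⊤
      (∑ j, baseHom k X (c j) • freeBasisVec j ⊤)), (hhZero k P).injective ?_⟩
    rw [hhZero_natural, LinearEquiv.apply_symm_apply]
    show lam.app ⊤ _ = _
    have h1 : lam.app ⊤ ((Props12.freeModIso X e).hom.app ⊤ (∑ j, baseHom k X (c j) • freeBasisVec j ⊤)) =
        lam₀.app ⊤ (∑ j, baseHom k X (c j) • freeBasisVec j ⊤) := by
      show ((Props12.freeModIso X e).hom ≫ lam).app ⊤ _ = _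
      rw [Iso.hom_inv_id_assoc]
    refine h1.trans (Eq.trans ?_ hc.symm)
    rw [map_sum]
    refine Finset.sum_congr rfl fun j _ => ?_
    rw [Scheme.Modules.Hom.app_smul, hbv]
    refine (AssSch12.push_smul i A' ⊤ (baseHom k X (c j)) (t j)).trans ?_
    have hbase : (i.app ⊤).hom (baseHom k X (c j)) = baseHom k C (c j) := by
      simp only [baseHom]
      rw [← hi]
      rfl
    exact congrArg (fun r : Γ(C, ⊤) => r • unitVal (freeInj j ≫ p) ⊤) hbase
  exact ⟨(LinearMap.injective_iff_surjective_of_finrank_eq_finrank hdim).2 hsurj, hsurj⟩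

end Push

end Groth.Agent.Surf15
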