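import Groth.Agent.Surf15.SerreDualMain
import Groth.Agent.SerreDual.ExtDuality

/-!
# Surf15: applications of Serre duality on surfaces
-/

set_option autoImplicit false
set_option linter.style.haveILetI false
set_option linter.unusedSectionVars false
set_option maxHeartbeats 1000000
set_option synthInstance.maxHeartbeats 200000
set_option backward.isDefEq.respectTransparency.types false

universe u

open CategoryTheory CategoryTheory.Limits AlgebraicGeometry Opposite TopologicalSpace
open Groth.Agent.Coherent Groth.Agent.PicLib Groth.Agent.AmpleLib Groth.Agent.EulerLib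
open Groth.Agent.CurveRR24

namespace Groth.Agent.Surf15

variable {X : Scheme.{u}} (k : Type u) [Field k] [X.Over (Spec (CommRingCat.of k))]

/-- The connecting map vanishes after a surjection. -/
theorem subsingleton_X₁_of_surjective [IsProper (X ↘ Spec (CommRingCat.of k))] {S : ShortComplex X.Modules}
    (hS : S.ShortExact) (q : ℕ) (hsurj : Function.Surjective (SerreDual.hmap k S.g q))
    (h : Subsingleton (Coh.HH X S.X₂ (q + 1))) : Subsingleton (Coh.HH X S.X₁ (q + 1)) := by
  haveI := isNoetherian_of_proper (X := X) k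
  refine subsingleton_of_forall_eq 0 fun x => ?_
  obtain ⟨y, rfl⟩ := (SerreDual.exact_hdelta_hmap (k := k) hS q x).1
    (@Subsingleton.elim _ h _ _)
  obtain ⟨z, rfl⟩ := hsurj y
  have hz : HHBaseEquiv k S.X₃ q (SerreDual.hmap k S.g q z) =
      postA (baseHom k X) S.g ⊤ q (HHBaseEquiv k S.X₂ q z) := by
    rw [SerreDual.hmap_eq]; exact SerreDual.hhBaseEquiv_natural k S.g q z
  simp only [SerreDual.hdelta, LinearMap.coe_comp, LinearEquiv.coe_coe, Function.comp_apply,
    LinearEquiv.map_eq_zero_iff, hz]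
  exact (exact_postA_deltaA (baseHom k X) hS ⊤ q _).2 ⟨_, rfl⟩

variable [IsAlgClosed k] [IsProper (X ↘ Spec (CommRingCat.of k))] [IsIntegral X]
  [Smooth (X ↘ Spec (CommRingCat.of k))] (hX : topologicalKrullDim X = ((2 : ℕ) : WithBot ℕ∞))
  {W : X.Modules} (hW : ExtPow.IsExtPow 2 (Omega.sheaf (X ↘ Spec (CommRingCat.of k))) W)
  (hWi : PicF.IsInvertible W)
include k hX hW hWi

/-- A module with a section and nonzero `H²` gives a section of the canonical module. -/
theorem nontrivial_h0_canonical {L : X.Modules} (hL : PicF.IsInvertible L)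
    (h0 : Nontrivial (Coh.HH X L 0)) (h2 : Nontrivial (Coh.HH X L 2)) : Nontrivial (Coh.HH X W 0) := by
  haveI := isNoetherian_of_proper (X := X) k
  obtain ⟨t, ht⟩ := exists_dualizing_canonical k hX hW hWi
  have hW' := isQCoh_of_isInvertible hWi
  have hh : Nontrivial (L ⟶ W) :=
    @Equiv.nontrivial _ _ (SerreDual.dualEquiv t (ht L (isQCoh_of_isInvertible hL))).toEquiv
      (nontrivial_dual (k := k) h2)
  obtain ⟨φ, hφ⟩ := exists_ne (0 : L ⟶ W)
  haveI := mono_of_ne_zero k hX.le ht hW' hL φ hφ
  obtain ⟨s, hs⟩ := @exists_ne _ (@Equiv.nontrivial _ _ (SerreDual.homUnitHH k L).toEquiv h0) 0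
  haveI : Nontrivial (Coh.structureModule X ⟶ W) :=
    ⟨⟨s ≫ φ, 0, fun h => hs ((cancel_mono φ).1 (h.trans zero_comp.symm))⟩⟩
  exact (SerreDual.homUnitHH k W).toEquiv.symm.nontrivial

/-- `H²` vanishes when a nef class is too large on the adjoint twist. -/
theorem subsingleton_h2_of_nef {a : InvCl X}
    (ha : ∀ y : X, topologicalKrullDim (closure {y} : Set X) = ((1 : ℕ) : WithBot ℕ∞) → 0 ≤ deg k (AssSch12.clM y) a)
    {L : X.Modules} (hL : PicF.IsInvertible L) (h : B k (InvCl.mk W hWi) a < B k (InvCl.mk L hL) a) :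
    Subsingleton (Coh.HH X L 2) := by
  haveI := isNoetherian_of_proper (X := X) k
  obtain ⟨N, ⟨e⟩⟩ := VarietyLib.exists_isInverseOf hL
  have hN : PicF.IsInvertible N :=
    PicM.isInvertible_of_tensor hL (glocus_isInvertible_of_iso e.symm isInvertible_structureModule)
  have hgN : InvCl.mk L hL * InvCl.mk N hN = 1 := by
    rw [InvCl.mk_mul hL hN]; exact InvCl.mk_eq _ _ e
  have h0 : Subsingleton (Coh.HH X (CohB1.tensorMod W N) 0) := by
    refine subsingleton_h0_of_nef k hX ha (isInvertible_tensorMod hWi hN) ?_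
    rw [← InvCl.mk_mul hWi hN, B_mul_left k hX.le, B_inv_left k hX.le hgN]
    omega
  haveI := finite_HH_of_isCoh k (isCoh_of_isInvertible k hL) 2
  refine (Module.finrank_zero_iff (R := k)).1 ?_
  rw [(serre_duality k hX hW hWi hL hN e).1]
  exact Module.finrank_zero_of_subsingleton

omit [IsAlgClosed k] hW hWi in
theorem euler_le_h0_add_h2 {L : X.Modules} (hL : PicF.IsInvertible L) :
    chiCl k (Coh.structureModule X) (InvCl.mk L hL) ≤
      (Module.finrank k (Coh.HH X L 0) : ℤ) + (Module.finrank k (Coh.HH X L 2) : ℤ) := by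
  rw [← euler_eq_chiCl k hX.le hL, euler_three k hX.le (isQCoh_of_isInvertible hL)]
  omega

end Groth.Agent.Surf15
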