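import Mathlib

/-!
# Surf15: Zariski's lemma for connected weighted graphs
-/

set_option autoImplicit false

namespace Groth.Agent.Surf15

theorem row_sum_zero_form {ι : Type*} [Fintype ι] (q : ι → ι → ℚ) (hsym : ∀ i j, q i j = q j i)
    (e a : ι → ℚ) (he : ∀ i, e i ≠ 0) (hker : ∀ j, ∑ i, e i * q i j = 0) :
    ∑ i, ∑ j, q i j * e i * e j * (a i / e i - a j / e j) ^ 2 = -2 * ∑ i, ∑ j, a i * a j * q i j := by
  have h1 : ∀ i j, q i j * e i * e j * (a i / e i - a j / e j) ^ 2 =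
      (a i ^ 2 / e i) * (e j * q j i) + (a j ^ 2 / e j) * (e i * q i j) - 2 * (a i * a j * q i j) := by
    intro i j
    rw [hsym j i]
    field_simp [he i, he j]
    ring
  simp only [h1, Finset.sum_add_distrib, Finset.sum_sub_distrib, ← Finset.mul_sum, hker, mul_zero,
    Finset.sum_const_zero]
  rw [Finset.sum_comm]
  simp only [← Finset.mul_sum, hker, mul_zero, Finset.sum_const_zero]
  rw [Finset.sum_comm]
  ring

/-- A connected configuration in the radical is one-connected: splitting a primitive radical vector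
gives a positive intersection. -/
theorem pos_of_connected {ι : Type*} [Fintype ι] [DecidableEq ι] (q : ι → ι → ℤ)
    (hsym : ∀ i j, q i j = q j i) (hoff : ∀ i j, i ≠ j → 0 ≤ q i j) (e a : ι → ℕ)
    (he : ∀ i, 0 < e i) (hker : ∀ j, ∑ i, (e i : ℤ) * q i j = 0)
    (hconn : ∀ S : Finset ι, S.Nonempty → Sᶜ.Nonempty → ∃ i ∈ S, ∃ j ∈ Sᶜ, 0 < q i j)
    (hle : ∀ i, a i ≤ e i) (hprim : ∀ n : ℕ, 2 ≤ n → ¬ ∀ i, n ∣ e i) (ha : a ≠ 0) (hae : a ≠ e) :
    0 < ∑ i, ∑ j, (a i : ℤ) * ((e j : ℤ) - a j) * q i j := by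
  have hexp : ∑ i, ∑ j, (a i : ℤ) * ((e j : ℤ) - a j) * q i j = - ∑ i, ∑ j, (a i : ℤ) * a j * q i j := by
    have h1 : ∀ i, ∑ j, (a i : ℤ) * ((e j : ℤ) - a j) * q i j =
        (a i : ℤ) * ∑ j, (e j : ℤ) * q j i - ∑ j, (a i : ℤ) * a j * q i j := fun i => by
      rw [Finset.mul_sum, ← Finset.sum_sub_distrib]
      exact Finset.sum_congr rfl fun j _ => by rw [hsym j i]; ring
    simp only [h1, hker, mul_zero, zero_sub, Finset.sum_neg_distrib]
  rw [hexp, neg_pos]
  by_contra hnn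
  push Not at hnn
  have he' : ∀ i, (e i : ℚ) ≠ 0 := fun i => by exact_mod_cast (he i).ne'
  have hform := row_sum_zero_form (fun i j => (q i j : ℚ)) (fun i j => by simp only [hsym i j])
    (fun i => (e i : ℚ)) (fun i => (a i : ℚ)) he' (fun j => by exact_mod_cast hker j)
  have hnn' : (0 : ℚ) ≤ ∑ i, ∑ j, (a i : ℚ) * a j * q i j := by exact_mod_cast hnn
  have hterm : ∀ i j, 0 ≤ (q i j : ℚ) * e i * e j * ((a i : ℚ) / e i - (a j : ℚ) / e j) ^ 2 := by
    intro i j
    by_cases h : i = j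
    · subst h; simp
    · have : (0 : ℚ) ≤ q i j := by exact_mod_cast hoff i j h
      positivity
  have hall : ∀ i j, (q i j : ℚ) * e i * e j * ((a i : ℚ) / e i - (a j : ℚ) / e j) ^ 2 = 0 := by
    intro i j
    have h0 : ∑ i, ∑ j, (q i j : ℚ) * e i * e j * ((a i : ℚ) / e i - (a j : ℚ) / e j) ^ 2 = 0 :=
      le_antisymm (by rw [hform]; linarith) (Finset.sum_nonneg fun i _ => Finset.sum_nonneg fun j _ => hterm i j)
    have h1 := (Finset.sum_eq_zero_iff_of_nonneg fun i _ => Finset.sum_nonneg fun j _ => hterm i j).1 h0 i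
      (Finset.mem_univ _)
    exact (Finset.sum_eq_zero_iff_of_nonneg fun j _ => hterm i j).1 h1 j (Finset.mem_univ _)
  obtain ⟨i₀, hi₀⟩ : ∃ i, a i ≠ 0 := Function.ne_iff.1 ha
  let S : Finset ι := Finset.univ.filter fun i => (a i : ℚ) / e i = (a i₀ : ℚ) / e i₀
  have hS : S = Finset.univ := by
    by_contra hne
    have hSc : Sᶜ.Nonempty := by
      rw [Finset.nonempty_iff_ne_empty]
      intro h
      exact hne (Finset.compl_eq_empty_iff S |>.1 h)
    obtain ⟨i, hi, j, hj, hq⟩ := hconn S ⟨i₀, by simp [S]⟩ hSc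
    have h := hall i j
    have hne0 : (q i j : ℚ) * e i * e j ≠ 0 :=
      mul_ne_zero (mul_ne_zero (by exact_mod_cast hq.ne') (he' i)) (he' j)
    have h2 : (a i : ℚ) / e i - (a j : ℚ) / e j = 0 := by
      simpa [hne0] using h
    have hi' : (a i : ℚ) / e i = (a i₀ : ℚ) / e i₀ := by simpa [S] using hi
    have hj' : ¬ (a j : ℚ) / e j = (a i₀ : ℚ) / e i₀ := by simpa [S] using hj
    exact hj' (by linarith)
  have hprop : ∀ j, a i₀ * e j = a j * e i₀ := fun j => by
    have hj : j ∈ S := hS ▸ Finset.mem_univ j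
    have h : (a j : ℚ) / e j = (a i₀ : ℚ) / e i₀ := by simpa [S] using hj
    rw [div_eq_div_iff (he' j) (he' i₀)] at h
    exact_mod_cast h.symm
  obtain ⟨g, p, n, hg, hco, hp, hn⟩ := Nat.exists_coprime' (Nat.gcd_pos_of_pos_right (a i₀) (he i₀))
  have hdiv : ∀ j, n ∣ e j := fun j => by
    have h := hprop j
    rw [hp, hn] at h
    have h' : p * e j = a j * n := Nat.eq_of_mul_eq_mul_right hg (by linarith)
    exact (Nat.Coprime.symm hco).dvd_of_dvd_mul_left ⟨a j, by rw [h', mul_comm]⟩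
  have hn0 : n ≠ 0 := fun h => (he i₀).ne' (by rw [hn, h, zero_mul])
  have hn1 : n = 1 := by
    by_contra h
    exact hprim n (by omega) hdiv
  refine hae (funext fun j => ?_)
  have hp1 : p = 1 := by
    have hlei := hle i₀
    rw [hp, hn, hn1, one_mul] at hlei
    have hp0 : p ≠ 0 := fun h => hi₀ (by rw [hp, h, zero_mul])
    have : p * g ≤ 1 * g := by rw [one_mul]; exact hlei
    have := Nat.le_of_mul_le_mul_right this hg
    omega
  have h := hprop j
  rw [hp, hn, hp1, hn1, one_mul] at h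
  exact (Nat.eq_of_mul_eq_mul_left hg (by linarith)).symm

end Groth.Agent.Surf15
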