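import Groth.Agent.Surf15.Fundamental
import Groth.Agent.Surf15.Graph
import Groth.Agent.SDiv28.FibreCartier
import Groth.Agent.VarietyLib.DivisorGlue
import Groth.Agent.Coherent.ConnectedFibre
import Groth.Agent.CAlgH3.RegularCore
import Groth.Agent.VarietyLib.SmoothStalk

/-!
# Surf15: fibres of fibred surfaces are multiples of one-connected cycles
-/

set_option autoImplicit false
set_option linter.style.haveILetI false
set_option backward.isDefEq.respectTransparency.types false

universe u

open CategoryTheory CategoryTheory.Limits AlgebraicGeometry Opposite TopologicalSpace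
open Groth.Agent.Coherent Groth.Agent.PicLib Groth.Agent.AmpleLib Groth.Agent.EulerLib
open Groth.Agent.CurveRR24 Groth.Agent.DimLib Groth.Agent.AssSch12

namespace Groth.Agent.Surf15

variable {X : Scheme.{u}}

/-- A locally principal ideal on an integral scheme, nonzero at the generic point, is effective Cartier. -/
theorem isEffCartier_of_locPrincipal [IsIntegral X] {E : X.IdealSheafData} (hE : Curv2.IsLocPrincipal E)
    (hη : genericPoint X ∉ (E.support : Set X)) : BlowUp.IsEffCartierIdeal E := fun x => by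
  obtain ⟨U, hxU, f, hf⟩ := SDiv28.FibreCartier.exists_principal E hE x
  haveI : Nonempty U.1 := ⟨⟨x, hxU⟩⟩
  refine ⟨U, hxU, f, mem_nonZeroDivisors_of_ne_zero fun h0 => hη ?_, hf⟩
  have hηU : genericPoint X ∈ U.1 :=
    (genericPoint_spec X).mem_open_set_iff U.1.2 |>.2 ⟨x, trivial, hxU⟩
  rw [SetLike.mem_coe, Scheme.IdealSheafData.mem_support_iff_of_mem hηU, Scheme.mem_zeroLocus_iff]
  intro a ha
  rw [hf, h0, Ideal.span_singleton_eq_bot.2 rfl] at ha
  rw [Ideal.mem_bot.1 ha, Scheme.basicOpen_zero]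
  exact id

variable (k : Type u) [Field k] [X.Over (Spec (CommRingCat.of k))]
  [IsProper (X ↘ Spec (CommRingCat.of k))] [IsIntegral X]
variable (hX : topologicalKrullDim X = ((2 : ℕ) : WithBot ℕ∞))
  (hreg : ∀ x : X, IsRegularLocalRing (X.presheaf.stalk x))

include k hX hreg

/-- A divisor has finitely many curves. -/
theorem exists_crv_finset {Z : X.IdealSheafData} (hZ : BlowUp.IsEffCartierIdeal Z) (hZ0 : Z ≠ ⊤) :
    ∃ s : Finset X.IdealSheafData, (∀ C ∈ s, IsCrv C ∧ Z ≤ C) ∧ ∀ C, IsCrv C → Z ≤ C → C ∈ s := by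
  classical
  refine cycle_rec k hX hreg (P := fun Z _ => ∃ s : Finset X.IdealSheafData,
    (∀ C ∈ s, IsCrv C ∧ Z ≤ C) ∧ ∀ C, IsCrv C → Z ≤ C → C ∈ s)
    (fun W C hW hC _ hCc ⟨s, hs, hs'⟩ _ => ⟨insert C s, fun D hD => ?_, fun D hD hle => ?_⟩) hZ hZ0
    fun C hC hCc _ => ⟨{C}, fun D hD => by rw [Finset.mem_singleton.1 hD]; exact ⟨hCc, le_rfl⟩,
      fun D hD hle => Finset.mem_singleton.2 (by
        obtain ⟨_, h⟩ := exists_eq_of_crv k (fun _ : Unit => C) (fun _ => hCc) hD hle
          fun x hx => Set.mem_iUnion.2 ⟨(), hx⟩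
        exact h)⟩
  · rcases Finset.mem_insert.1 hD with rfl | hDs
    · exact ⟨hCc, mul_le_snd W _⟩
    · exact ⟨(hs D hDs).1, (mul_le_fst W C).trans (hs D hDs).2⟩
  · haveI := hD.1
    have hg : SDiv28.CartierPart.gen D ∈ ((W * C).support : Set X) :=
      Scheme.IdealSheafData.support_antitone hle (SDiv28.CartierPart.isGenericPoint_gen D).mem
    rw [Scheme.IdealSheafData.support_mul] at hg
    have key : ∀ Y : X.IdealSheafData, SDiv28.CartierPart.gen D ∈ (Y.support : Set X) → Y ≤ D := fun Y h =>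
      le_of_support_subset (by
        rw [support_eq_closure_gen D]
        exact Y.support.isClosed.closure_subset_iff.2 (Set.singleton_subset_iff.2 h))
    rcases hg with h | h
    · exact Finset.mem_insert_of_mem (hs' D hD (key W h))
    · obtain ⟨_, he⟩ := exists_eq_of_crv k (fun _ : Unit => C) (fun _ => hCc) hD (key C h)
        fun x hx => Set.mem_iUnion.2 ⟨(), hx⟩
      rw [he]
      exact Finset.mem_insert_self _ _

/-- A supported divisor is a product of the curves of the configuration. -/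
theorem exists_prod_eq {ι : Type*} [Fintype ι] (D : ι → X.IdealSheafData)
    (hE : ∀ i, BlowUp.IsEffCartierIdeal (D i)) {Z : X.IdealSheafData}
    (hZ : BlowUp.IsEffCartierIdeal Z) (hZ0 : Z ≠ ⊤)
    (hc : ∀ C, IsCrv C → Z ≤ C → ∃ i, C = D i) :
    ∃ a : ι → ℕ, Z = ∏ i, D i ^ a i ∧ clI' Z hZ = ∏ i, clI' (D i) (hE i) ^ a i := by
  classical
  refine cycle_rec k hX hreg (P := fun Z hZ => ∃ a : ι → ℕ,
    Z = ∏ i, D i ^ a i ∧ clI' Z hZ = ∏ i, clI' (D i) (hE i) ^ a i)
    (fun W C hW hC _ _ ⟨a, ha, ha'⟩ ⟨b, hb, hb'⟩ => ⟨a + b, ?_, ?_⟩) hZ hZ0 fun C hC hCc hle => ?_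
  · rw [ha, hb, ← Finset.prod_mul_distrib]
    exact Finset.prod_congr rfl fun i _ => (pow_add _ _ _).symm
  · rw [clI'_mul W C hW hC, ha', hb', ← Finset.prod_mul_distrib]
    exact Finset.prod_congr rfl fun i _ => (pow_add _ _ _).symm
  · obtain ⟨i, rfl⟩ := hc C hCc hle
    refine ⟨Pi.single i 1, ?_, ?_⟩
    · rw [Finset.prod_eq_single i (fun j _ hj => by rw [Pi.single_eq_of_ne hj, pow_zero]) (by simp),
        Pi.single_eq_same, pow_one]
    · rw [Finset.prod_eq_single i (fun j _ hj => by rw [Pi.single_eq_of_ne hj, pow_zero]) (by simp),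
        Pi.single_eq_same, pow_one]

/-- Distinct curves which meet have positive intersection. -/
theorem B_pos_of_meet {C D : X.IdealSheafData} (hC : IsCrv C) (hD : IsCrv D) (hne : C ≠ D) {x : X}
    (hxC : x ∈ (C.support : Set X)) (hxD : x ∈ (D.support : Set X)) :
    0 < B k (clI' C (hC.isEffCartier k hX hreg)) (clI' D (hD.isEffCartier k hX hreg)) := by
  haveI := isNoetherian_of_proper (X := X) k
  haveI := hC.1
  haveI := hD.1
  have hdim : ∀ T ∈ irreducibleComponents (X : Type u), topologicalKrullDim T = 2 := by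
    intro T hT
    rw [irreducibleComponents_eq_singleton, Set.mem_singleton_iff] at hT
    subst hT
    rw [(Homeomorph.Set.univ X).isHomeomorph.topologicalKrullDim_eq, hX]
    rfl
  let p := X ↘ Spec (CommRingCat.of k)
  have hfin : ((C ⊔ D).support : Set X).Finite := by
    refine VarietyLib.finite_of_forall_isClosed (C ⊔ D).support.isClosed fun y hy => ?_
    have hyC : y ∈ (C.support : Set X) := Scheme.IdealSheafData.support_antitone le_sup_left hy
    have hyD : y ∈ (D.support : Set X) := Scheme.IdealSheafData.support_antitone le_sup_right hy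
    have h1 : ptDim p (SDiv28.CartierPart.gen C) = 1 := ptDim_gen k hC.2
    have h2 : ptDim p (SDiv28.CartierPart.gen D) = 1 := ptDim_gen k hD.2
    have sC := (SDiv28.CartierPart.isGenericPoint_gen C).specializes hyC
    have sD := (SDiv28.CartierPart.isGenericPoint_gen D).specializes hyD
    refine (ptDim_eq_zero_iff p y).1 ?_
    by_contra h0
    have h3 := ptDim_le_of_specializes p sC
    have eC := DimLib.eq_of_specializes_of_ptDim_le p sC (by omega)
    have eD := DimLib.eq_of_specializes_of_ptDim_le p sD (by omega)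
    refine hne ?_
    rw [VarietyLib.eq_clI_of_isIntegral C, VarietyLib.eq_clI_of_isIntegral D]
    exact congrArg AssSch12.clI (eC.trans eD.symm)
  rw [B_eq_length k hdim (fun y => haveI := hreg y; CAlgH3.isCohenMacaulayLocalRing_of_regular _)
    (hC.isEffCartier k hX hreg) (hD.isEffCartier k hX hreg) hfin]
  have hne' : C ⊔ D ≠ ⊤ := fun h => by
    have : x ∈ ((C ⊔ D).support : Set X) := by
      rw [Scheme.IdealSheafData.support_sup]
      exact ⟨hxC, hxD⟩
    rw [h, Scheme.IdealSheafData.support_top] at this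
    exact this
  exact_mod_cast one_le_h0_quotMod k hne'

omit hreg in
/-- The pullback of a point has degree zero on the curves over it. -/
theorem B_comap_eq_zero {B' : Scheme.{u}} (f : X ⟶ B') {P : B'.IdealSheafData}
    (hP : BlowUp.IsEffCartierIdeal P) (hF : BlowUp.IsEffCartierIdeal (P.comap f)) {p : B'}
    {C : X.IdealSheafData} (hC : BlowUp.IsEffCartierIdeal C)
    (hCp : (C.support : Set X) ⊆ f ⁻¹' {p}) :
    B k (clI' C hC) (clI' (P.comap f) hF) = 0 := by
  have hI := FlatMor12.IdealModGen.isInvertible_idealMod (P.comap f) hF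
  have hIP := FlatMor12.IdealModGen.isInvertible_idealMod P hP
  obtain ⟨e⟩ := exists_restrict_iso C hI
  obtain ⟨e₁⟩ := Inters29.nonempty_pullback_idealMod_iso f P hP hF
  let j := C.subschemeι
  let N := (Scheme.Modules.pullback (j ≫ f)).obj (ClSub.idealMod P)
  have e₂ : (Scheme.Modules.pullback j).obj (ClSub.idealMod (P.comap f)) ≅ N :=
    (Scheme.Modules.pullback j).mapIso e₁.symm ≪≫
      (Scheme.Modules.pullbackComp j f).app (ClSub.idealMod P)
  obtain ⟨V, hpV, g, hg⟩ := exists_isGen hIP p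
  have htop : (j ≫ f) ⁻¹ᵁ V = ⊤ := eq_top_iff.2 fun z _ => by
    have h : f (j z) = p := hCp (C.range_subschemeι.le ⟨z, rfl⟩)
    show f (j z) ∈ V
    rw [h]
    exact hpV
  have hgen : IsGen N ((j ≫ f) ⁻¹ᵁ V) (pullSec (j ≫ f) g) := isGen_pullSec (j ≫ f) hg hIP
  have hglo : glocus N (resM N htop.ge (pullSec (j ≫ f) g)) = ⊤ := by
    rw [eq_top_iff, le_glocus_iff, resM_self]
    exact hgen.restrict htop.ge
  obtain ⟨e₃⟩ := nonempty_iso_of_glocus_eq_top hglo
  have h := deg_quotMod k hC (clI' (P.comap f) hF)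
  rw [show clI' (P.comap f) hF = InvCl.mk _ hI from rfl, deg_mk,
    euler_congr k X (e ≪≫ (Coh.push j).mapIso (e₂ ≪≫ e₃) : CohB1.tensorMod (ClSub.quotMod C) _ ≅ ClSub.quotMod C),
    sub_self] at h
  rw [show clI' (P.comap f) hF = InvCl.mk _ hI from rfl]
  omega

/-- A fibre is a multiple of a one-connected cycle: a decomposition of a primitive root of the fibre
has positive intersection. -/
theorem B_pos_of_fibre {B' : Scheme.{u}} (f : X ⟶ B') {p : B'} {P : B'.IdealSheafData}
    (hP : BlowUp.IsEffCartierIdeal P) (hPs : (P.support : Set B') = {p})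
    (hpre : _root_.IsPreconnected (f ⁻¹' {p} : Set X))
    {E : X.IdealSheafData} (hEc : BlowUp.IsEffCartierIdeal E) {m : ℕ} (hm : 1 ≤ m)
    (hpow : E ^ m = P.comap f)
    (hprim : ∀ n : ℕ, 2 ≤ n → ∀ J : X.IdealSheafData, BlowUp.IsEffCartierIdeal J → J ^ n ≠ E)
    {A R : X.IdealSheafData} (hA : BlowUp.IsEffCartierIdeal A) (hR : BlowUp.IsEffCartierIdeal R)
    (hA0 : A ≠ ⊤) (hR0 : R ≠ ⊤) (hAR : A * R = E) :
    0 < B k (clI' A hA) (clI' R hR) := by
  classical
  haveI := isNoetherian_of_proper (X := X) k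
  have hE0 : E ≠ ⊤ := fun h => hA0 (top_le_iff.1 (h ▸ hAR ▸ mul_le_fst A R))
  obtain ⟨s, hs, hs'⟩ := exists_crv_finset k hX hreg hEc hE0
  let D : s → X.IdealSheafData := fun i => i.1
  have hD : ∀ i : s, IsCrv (D i) := fun i => (hs i.1 i.2).1
  have hDc : ∀ i : s, BlowUp.IsEffCartierIdeal (D i) := fun i => (hD i).isEffCartier k hX hreg
  have hcov : ∀ Z : X.IdealSheafData, E ≤ Z → ∀ C, IsCrv C → Z ≤ C → ∃ i : s, C = D i :=
    fun Z hle C hC hZC => ⟨⟨C, hs' C hC (hle.trans hZC)⟩, rfl⟩
  obtain ⟨a, haI, haC⟩ := exists_prod_eq k hX hreg D hDc hA hA0 (hcov A (hAR ▸ mul_le_fst A R))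
  obtain ⟨b, hbI, hbC⟩ := exists_prod_eq k hX hreg D hDc hR hR0 (hcov R (hAR ▸ mul_le_snd A R))
  have heI : E = ∏ i, D i ^ (a i + b i) := by
    rw [← hAR, haI, hbI, ← Finset.prod_mul_distrib]
    exact Finset.prod_congr rfl fun i _ => (pow_add _ _ _).symm
  have heC : clI' E hEc = ∏ i, clI' (D i) (hDc i) ^ (a i + b i) := by
    rw [clI'_congr hAR.symm hEc (ModPairLib.isEffCartier_mul hA hR), clI'_mul A R hA hR, haC, hbC,
      ← Finset.prod_mul_distrib]
    exact Finset.prod_congr rfl fun i _ => (pow_add _ _ _).symm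
  have hEm := Inters29.isEffCartier_pow hEc m
  have hF : BlowUp.IsEffCartierIdeal (P.comap f) := hpow ▸ hEm
  have hclpow : ∀ n : ℕ, clI' (E ^ (n + 1)) (Inters29.isEffCartier_pow hEc (n + 1)) = clI' E hEc ^ (n + 1) := by
    intro n
    induction n with
    | zero => exact ((clI'_congr (pow_one E) _ hEc).trans (pow_one _).symm)
    | succ n ih =>
      rw [clI'_congr (pow_succ E (n + 1)) _
        (ModPairLib.isEffCartier_mul (Inters29.isEffCartier_pow hEc (n + 1)) hEc),
        clI'_mul _ _ (Inters29.isEffCartier_pow hEc (n + 1)) hEc, ih, ← pow_succ]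
  have hsuppE : (E.support : Set X) = f ⁻¹' {p} := by
    have h1 : ∀ n : ℕ, ((E ^ (n + 1)).support : Set X) = (E.support : Set X) := by
      intro n
      induction n with
      | zero => rw [pow_one]
      | succ n ih =>
        rw [pow_succ, Scheme.IdealSheafData.support_mul, Closeds.coe_sup, ih, Set.union_self]
    obtain ⟨n, rfl⟩ := Nat.exists_eq_add_of_le hm
    rw [← h1 n, ← add_comm 1 n, hpow, Scheme.IdealSheafData.support_comap]
    show f ⁻¹' (P.support : Set B') = f ⁻¹' {p}
    rw [hPs]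
  have hker : ∀ j : s, ∑ i, ((a i + b i : ℕ) : ℤ) * B k (clI' (D i) (hDc i)) (clI' (D j) (hDc j)) = 0 := by
    intro j
    have hsub : ((D j).support : Set X) ⊆ f ⁻¹' {p} := hsuppE ▸
      fun x hx => Scheme.IdealSheafData.support_antitone (hs j.1 j.2).2 hx
    have h := B_comap_eq_zero k hX f hP hF (hDc j) hsub
    obtain ⟨n, rfl⟩ := Nat.exists_eq_add_of_le hm
    rw [clI'_congr (hpow.symm.trans (by rw [add_comm 1 n])) hF (Inters29.isEffCartier_pow hEc (n + 1)),
      hclpow, B_pow_right k hX.le] at h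
    have h2 : B k (clI' (D j) (hDc j)) (clI' E hEc) = 0 := by
      rcases mul_eq_zero.1 h with h0 | h0
      · exact absurd (by exact_mod_cast h0 : n + 1 = 0) (Nat.succ_ne_zero n)
      · rw [B_comm k] at h0; rw [B_comm k]; exact h0
    rw [heC] at h2
    have h3 : ∏ i, clI' (D i) (hDc i) ^ (Pi.single j 1 : s → ℕ) i = clI' (D j) (hDc j) := by
      rw [Finset.prod_eq_single j (fun i _ hi => by rw [Pi.single_eq_of_ne hi, pow_zero]) (by simp),
        Pi.single_eq_same, pow_one]
    rw [← h3, B_comm k, B_prod_pow k hX] at h2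
    rw [← h2]
    refine Finset.sum_congr rfl fun i _ => ?_
    rw [Finset.sum_eq_single j (fun t _ ht => by rw [Pi.single_eq_of_ne ht]; simp) (by simp),
      Pi.single_eq_same, Nat.cast_one, mul_one]
  have hoff : ∀ i j : s, i ≠ j → 0 ≤ B k (clI' (D i) (hDc i)) (clI' (D j) (hDc j)) := fun i j hij => by
    haveI := (hD i).1
    refine B_clI'_nonneg k hX.le (hDc j) (hDc i) (hD i).2 fun hsub => ?_
    obtain ⟨_, h⟩ := exists_eq_of_crv k (fun _ : Unit => D j) (fun _ => hD j) (hD i)
      (le_of_support_subset hsub) fun x hx => Set.mem_iUnion.2 ⟨(), hx⟩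
    exact hij (Subtype.ext h)
  have hepos : ∀ i : s, 0 < a i + b i := fun i => by
    by_contra h0
    have h0' : a i + b i = 0 := by omega
    haveI := (hD i).1
    have hg : SDiv28.CartierPart.gen (D i) ∈ (E.support : Set X) :=
      Scheme.IdealSheafData.support_antitone (hs i.1 i.2).2 (SDiv28.CartierPart.isGenericPoint_gen (D i)).mem
    have key : ∀ t : Finset s, SDiv28.CartierPart.gen (D i) ∈ ((∏ j ∈ t, D j ^ (a j + b j)).support : Set X) →
        ∃ j ∈ t, a j + b j ≠ 0 ∧ SDiv28.CartierPart.gen (D i) ∈ ((D j).support : Set X) := by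
      intro t
      induction t using Finset.induction_on with
      | empty =>
        intro h
        rw [Finset.prod_empty, Scheme.IdealSheafData.one_eq_top, Scheme.IdealSheafData.support_top] at h
        exact h.elim
      | insert j t hjt ih =>
        intro h
        rw [Finset.prod_insert hjt, Scheme.IdealSheafData.support_mul] at h
        rcases h with h | h
        · refine ⟨j, Finset.mem_insert_self _ _, ?_⟩
          generalize a j + b j = n at h ⊢
          induction n with
          | zero =>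
            rw [pow_zero, Scheme.IdealSheafData.one_eq_top, Scheme.IdealSheafData.support_top] at h
            exact h.elim
          | succ n ihn =>
            refine ⟨Nat.succ_ne_zero n, ?_⟩
            rw [pow_succ, Scheme.IdealSheafData.support_mul] at h
            rcases h with h | h
            · exact (ihn h).2
            · exact h
        · obtain ⟨j', hj', h1, h2⟩ := ih h
          exact ⟨j', Finset.mem_insert_of_mem hj', h1, h2⟩
    obtain ⟨j, -, hj0, hjmem⟩ := key Finset.univ (heI ▸ hg)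
    obtain ⟨_, h⟩ := exists_eq_of_crv k (fun _ : Unit => D j) (fun _ => hD j) (hD i)
      (le_of_support_subset (Z := D j) (by
        rw [support_eq_closure_gen (D i)]
        exact (D j).support.isClosed.closure_subset_iff.2 (Set.singleton_subset_iff.2 hjmem)))
      fun x hx => Set.mem_iUnion.2 ⟨(), hx⟩
    exact hj0 (Subtype.ext h ▸ h0')
  have hcon : ∀ S : Finset s, S.Nonempty → Sᶜ.Nonempty →
      ∃ i ∈ S, ∃ j ∈ Sᶜ, 0 < B k (clI' (D i) (hDc i)) (clI' (D j) (hDc j)) := by
    intro S hS hSc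
    let U : Finset s → Set X := fun T => ⋃ i ∈ T, ((D i).support : Set X)
    have hUcl : ∀ T, IsClosed (U T) := fun T => isClosed_biUnion_finset fun i _ => (D i).support.isClosed
    have hne : ∀ T : Finset s, T.Nonempty → ((f ⁻¹' {p}) ∩ U T).Nonempty := by
      rintro T ⟨i, hi⟩
      haveI := (hD i).1
      refine ⟨SDiv28.CartierPart.gen (D i), ?_, Set.mem_biUnion hi (SDiv28.CartierPart.isGenericPoint_gen (D i)).mem⟩
      rw [← hsuppE]
      exact Scheme.IdealSheafData.support_antitone (hs i.1 i.2).2 (SDiv28.CartierPart.isGenericPoint_gen (D i)).mem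
    have hsub : f ⁻¹' {p} ⊆ U S ∪ U Sᶜ := fun x hx => by
      rw [← hsuppE] at hx
      obtain ⟨C, hC, hEC, hxC⟩ := exists_crv_through k hX hreg hEc hx
      by_cases hCS : (⟨C, hs' C hC hEC⟩ : s) ∈ S
      · exact Or.inl (Set.mem_biUnion hCS hxC)
      · exact Or.inr (Set.mem_biUnion (Finset.mem_compl.2 hCS) hxC)
    obtain ⟨x, -, hxS, hxSc⟩ := isPreconnected_closed_iff.1 hpre (U S) (U Sᶜ) (hUcl _) (hUcl _) hsub
      (hne S hS) (hne Sᶜ hSc)
    obtain ⟨i, hi, hxi⟩ := Set.mem_iUnion₂.1 hxS
    obtain ⟨j, hj, hxj⟩ := Set.mem_iUnion₂.1 hxSc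
    exact ⟨i, hi, j, hj, B_pos_of_meet k hX hreg (hD i) (hD j)
      (fun h => Finset.mem_compl.1 hj (Subtype.ext h ▸ hi)) hxi hxj⟩
  have hne0 : a ≠ 0 := fun h => hA0 (by
    rw [haI, h]
    simp only [Pi.zero_apply, pow_zero, Finset.prod_const_one]
    exact Scheme.IdealSheafData.one_eq_top)
  have hneE : a ≠ fun i => a i + b i := fun h => hR0 (by
    have hb : ∀ i, b i = 0 := fun i => by have := congrFun h i; omega
    rw [hbI]
    simp only [hb, pow_zero, Finset.prod_const_one]
    exact Scheme.IdealSheafData.one_eq_top)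
  have hpos := pos_of_connected (fun i j : s => B k (clI' (D i) (hDc i)) (clI' (D j) (hDc j)))
    (fun i j => B_comm k _ _) hoff (fun i => a i + b i) a hepos hker hcon (fun i => Nat.le_add_right _ _)
    (fun n hn hdvd => by
      choose c hc using hdvd
      refine hprim n hn (∏ i, D i ^ c i) (Inters29.isEffCartier_prod _ _ fun i => Inters29.isEffCartier_pow (hDc i) _) ?_
      rw [heI, ← Finset.prod_pow]
      exact Finset.prod_congr rfl fun i _ => by rw [hc i, ← pow_mul, mul_comm]) hne0 hneE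
  rw [haC, hbC, B_prod_pow k hX]
  refine hpos.trans_le (le_of_eq (Finset.sum_congr rfl fun i _ => Finset.sum_congr rfl fun j _ => ?_))
  push_cast
  ring

end Groth.Agent.Surf15
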