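import Mathlib

/-!
# Surf15: positive vectors for connected symmetric integer matrices with nonnegative off-diagonal

If no positive vector is sent into the nonpositive cone, some positive vector is sent into the positive cone.
-/

set_option autoImplicit false

namespace Groth.Agent.Surf15

open Finset

variable {ι : Type*} [DecidableEq ι]

/-- Connectedness on a finset. -/
def MConn (M : ι → ι → ℤ) (s : Finset ι) : Prop :=
  ∀ S ⊆ s, S.Nonempty → (s \ S).Nonempty → ∃ i ∈ S, ∃ j ∈ s \ S, 0 < M i j

theorem sum_smul_add_single (M : ι → ι → ℤ) {s : Finset ι} {j : ι} (hj : j ∈ s) (i : ι) (K : ℤ)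
    (d : ι → ℤ) :
    ∑ t ∈ s, M i t * (K * d t + if t = j then 1 else 0) = K * (∑ t ∈ s, M i t * d t) + M i j := by
  simp only [mul_add, Finset.sum_add_distrib, mul_ite, mul_one, mul_zero, Finset.sum_ite_eq', hj, if_true]
  rw [Finset.mul_sum]
  congr 1
  exact Finset.sum_congr rfl fun t _ => by ring

/-- From one nonzero semipositive vector to a full one. -/
theorem exists_full_semipos (M : ι → ι → ℤ) (hsym : ∀ i j, M i j = M j i) {s : Finset ι}
    (hoff : ∀ i ∈ s, ∀ j ∈ s, i ≠ j → 0 ≤ M i j) (hc : MConn M s) :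
    ∀ (n : ℕ) (S : Finset ι) (d : ι → ℤ), (s \ S).card ≤ n → S ⊆ s → S.Nonempty →
      (∀ i ∈ S, 0 < d i) → (∀ i ∈ s, i ∉ S → d i = 0) → (∀ i ∈ s, 0 ≤ ∑ t ∈ s, M i t * d t) →
      ((s \ S).Nonempty ∨ ∃ i ∈ s, 0 < ∑ t ∈ s, M i t * d t) →
      ∃ e : ι → ℤ, (∀ i ∈ s, 0 < e i) ∧ (∀ i ∈ s, 0 ≤ ∑ t ∈ s, M i t * e t) ∧
        ∃ i ∈ s, 0 < ∑ t ∈ s, M i t * e t := by
  intro n
  induction n with
  | zero =>
    intro S d hn hS _ hpos _ hM hor
    have hSs : s \ S = ∅ := Finset.card_eq_zero.1 (Nat.le_zero.1 hn)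
    rcases hor with h | h
    · exact absurd hSs h.ne_empty
    · exact ⟨d, fun i hi => hpos i (Finset.sdiff_eq_empty_iff_subset.1 hSs hi), hM, h⟩
  | succ n ih =>
    intro S d hn hS hSne hpos hzero hM hor
    by_cases hSs : (s \ S).Nonempty
    swap
    · rw [Finset.not_nonempty_iff_eq_empty] at hSs
      rcases hor with h | h
      · exact absurd hSs h.ne_empty
      · exact ⟨d, fun i hi => hpos i (Finset.sdiff_eq_empty_iff_subset.1 hSs hi), hM, h⟩
    obtain ⟨i, hi, j, hj, hij⟩ := hc S hS hSne hSs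
    obtain ⟨hjs, hjS⟩ := Finset.mem_sdiff.1 hj
    have hgain : 1 ≤ ∑ t ∈ s, M j t * d t := by
      have hnn : ∀ t ∈ s, 0 ≤ M j t * d t := fun t ht => by
        by_cases htS : t ∈ S
        · exact mul_nonneg (hoff j hjs t ht fun e => hjS (e ▸ htS)) (hpos t htS).le
        · rw [hzero t ht htS, mul_zero]
      refine le_trans ?_ (Finset.single_le_sum hnn (hS hi))
      rw [hsym j i]
      have := mul_pos hij (hpos i hi)
      omega
    obtain ⟨K, hK1, hK2⟩ : ∃ K : ℤ, 1 ≤ K ∧ - M j j < K := ⟨max 1 (- M j j + 1), le_max_left _ _,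
      lt_of_lt_of_le (lt_add_one _) (le_max_right _ _)⟩
    have hj' : ∀ t ∈ s, t ≠ j → 0 ≤ M t j := fun t ht hne => hoff t ht j hjs hne
    refine ih (insert j S) (fun t => K * d t + if t = j then 1 else 0) ?_ (Finset.insert_subset hjs hS)
      (Finset.insert_nonempty _ _) (fun t ht => ?_) (fun t ht htn => ?_) (fun t ht => ?_) (Or.inr ⟨j, hjs, ?_⟩)
    · have h1 : (s \ insert j S).card < (s \ S).card := Finset.card_lt_card
        (Finset.ssubset_iff_of_subset (Finset.sdiff_subset_sdiff le_rfl (Finset.subset_insert _ _)) |>.2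
          ⟨j, hj, fun h => (Finset.mem_sdiff.1 h).2 (Finset.mem_insert_self _ _)⟩)
      omega
    · rcases Finset.mem_insert.1 ht with rfl | htS
      · simp [hzero t hjs hjS]
      · have := hpos t htS
        split <;> nlinarith
    · have h1 : t ≠ j := fun e => htn (e ▸ Finset.mem_insert_self _ _)
      simp [h1, hzero t ht fun h => htn (Finset.mem_insert_of_mem h)]
    · rw [sum_smul_add_single M hjs]
      by_cases htj : t = j
      · subst htj
        nlinarith
      · nlinarith [hM t ht, hj' t ht htj]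
    · rw [sum_smul_add_single M hjs]
      nlinarith

/-- From a full semipositive vector to a positive one. -/
theorem exists_pos_of_semipos (M : ι → ι → ℤ) (hsym : ∀ i j, M i j = M j i) {s : Finset ι}
    (hoff : ∀ i ∈ s, ∀ j ∈ s, i ≠ j → 0 ≤ M i j) (hc : MConn M s) :
    ∀ (n : ℕ) (d : ι → ℤ), (s.filter fun i => ∑ t ∈ s, M i t * d t = 0).card ≤ n → (∀ i ∈ s, 0 < d i) →
      (∀ i ∈ s, 0 ≤ ∑ t ∈ s, M i t * d t) → (∃ i ∈ s, 0 < ∑ t ∈ s, M i t * d t) →
      ∃ e : ι → ℤ, (∀ i ∈ s, 0 < e i) ∧ ∀ i ∈ s, 0 < ∑ t ∈ s, M i t * e t := by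
  intro n
  induction n with
  | zero =>
    intro d hn hpos hM _
    refine ⟨d, hpos, fun i hi => lt_of_le_of_ne (hM i hi) fun h => ?_⟩
    exact (Finset.card_eq_zero.1 (Nat.le_zero.1 hn)).le (Finset.mem_filter.2 ⟨hi, h.symm⟩) |> Finset.notMem_empty _
  | succ n ih =>
    intro d hn hpos hM hex
    let P := s.filter fun i => 0 < ∑ t ∈ s, M i t * d t
    by_cases hsP : (s \ P).Nonempty
    swap
    · rw [Finset.not_nonempty_iff_eq_empty, Finset.sdiff_eq_empty_iff_subset] at hsP
      exact ⟨d, hpos, fun i hi => (Finset.mem_filter.1 (hsP hi)).2⟩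
    have hPne : P.Nonempty := let ⟨i, hi, h⟩ := hex; ⟨i, Finset.mem_filter.2 ⟨hi, h⟩⟩
    obtain ⟨i, hi, j, hj, hij⟩ := hc P (Finset.filter_subset _ _) hPne hsP
    obtain ⟨his, hipos⟩ := Finset.mem_filter.1 hi
    obtain ⟨hjs, hjP⟩ := Finset.mem_sdiff.1 hj
    have hj0 : ∑ t ∈ s, M j t * d t = 0 :=
      le_antisymm (not_lt.1 fun h => hjP (Finset.mem_filter.2 ⟨hjs, h⟩)) (hM j hjs)
    -- push the vertex `i`
    obtain ⟨K, hK1, hK2⟩ : ∃ K : ℤ, 1 ≤ K ∧ - M i i < K := ⟨max 1 (- M i i + 1), le_max_left _ _,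
      lt_of_lt_of_le (lt_add_one _) (le_max_right _ _)⟩
    have hne : j ≠ i := fun e => hjP (e ▸ hi)
    have hi' : ∀ t ∈ s, t ≠ i → 0 ≤ M t i := fun t ht h => hoff t ht i his h
    let d' := fun t => K * d t + if t = i then 1 else 0
    have hd' : ∀ t, ∑ x ∈ s, M t x * d' x = K * (∑ x ∈ s, M t x * d x) + M t i :=
      fun t => sum_smul_add_single M his t K d
    by_cases hji : 0 < M j i
    · refine ih d' ?_ (fun t ht => ?_) (fun t ht => ?_) ⟨i, his, ?_⟩
      · have h1 : (s.filter fun t => ∑ x ∈ s, M t x * d' x = 0) ⊂ s.filter fun t => ∑ x ∈ s, M t x * d x = 0 := by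
          refine (Finset.ssubset_iff_of_subset fun t ht => ?_).2 ⟨j, Finset.mem_filter.2 ⟨hjs, hj0⟩, fun h => ?_⟩
          · obtain ⟨hts, ht0⟩ := Finset.mem_filter.1 ht
            rw [hd'] at ht0
            refine Finset.mem_filter.2 ⟨hts, ?_⟩
            by_cases hti : t = i
            · subst hti
              nlinarith
            · nlinarith [hM t hts, hi' t hts hti]
          · have h2 := (Finset.mem_filter.1 h).2
            rw [hd', hj0] at h2
            omega
        have := Finset.card_lt_card h1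
        omega
      · have := hpos t ht
        simp only [d']
        split <;> nlinarith
      · rw [hd']
        by_cases hti : t = i
        · subst hti
          nlinarith
        · nlinarith [hM t ht, hi' t ht hti]
      · rw [hd']
        nlinarith
    · exact absurd (hsym i j ▸ hij) hji

/-- If no positive vector goes to the nonpositive cone, some positive vector goes to the positive cone. -/
theorem exists_pos_vector (M : ι → ι → ℤ) (hsym : ∀ i j, M i j = M j i) :
    ∀ (n : ℕ) (s : Finset ι), s.card ≤ n → s.Nonempty →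
      (∀ i ∈ s, ∀ j ∈ s, i ≠ j → 0 ≤ M i j) → MConn M s →
      (∀ d : ι → ℤ, (∀ i ∈ s, 0 < d i) → ∃ i ∈ s, 0 < ∑ t ∈ s, M i t * d t) →
      ∃ d : ι → ℤ, (∀ i ∈ s, 0 < d i) ∧ ∀ i ∈ s, 0 < ∑ t ∈ s, M i t * d t := by
  intro n
  induction n generalizing M with
  | zero => intro s hn hne; exact absurd (Finset.card_eq_zero.1 (Nat.le_zero.1 hn)) hne.ne_empty
  | succ n ih =>
    intro s hn hne hoff hc hno
    by_cases hdiag : ∃ v ∈ s, 0 ≤ M v v
    · obtain ⟨v, hv, hvv⟩ := hdiag
      have hsum : ∀ i, ∑ t ∈ s, M i t * (if t = v then (1 : ℤ) else 0) = M i v := fun i => by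
        simp [hv]
      have hor : (s \ {v}).Nonempty ∨ ∃ i ∈ s, 0 < ∑ t ∈ s, M i t * (if t = v then (1 : ℤ) else 0) := by
        by_cases hs : (s \ {v}).Nonempty
        · exact Or.inl hs
        · right
          rw [Finset.not_nonempty_iff_eq_empty, Finset.sdiff_eq_empty_iff_subset] at hs
          have hsv : s = {v} := Finset.Subset.antisymm hs (Finset.singleton_subset_iff.2 hv)
          obtain ⟨i, hi, h⟩ := hno (fun _ => 1) (fun _ _ => one_pos)
          refine ⟨i, hi, ?_⟩
          subst hsv
          rw [Finset.mem_singleton.1 hi] at h ⊢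
          simpa using h
      obtain ⟨e, he, heM, hex⟩ := exists_full_semipos M hsym hoff hc s.card {v}
        (fun t => if t = v then 1 else 0) (Finset.card_le_card Finset.sdiff_subset)
        (Finset.singleton_subset_iff.2 hv) (Finset.singleton_nonempty v)
        (fun i hi => by simp [Finset.mem_singleton.1 hi])
        (fun i _ hi => by simp [show i ≠ v from fun h => hi (Finset.mem_singleton.2 h)])
        (fun i hi => by
          rw [hsum]
          by_cases hiv : i = v
          · exact hiv ▸ hvv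
          · exact hoff i hi v hv hiv) hor
      exact exists_pos_of_semipos M hsym hoff hc s.card e (Finset.card_filter_le _ _) he heM hex
    · push Not at hdiag
      obtain ⟨v, hv⟩ := hne
      have hvv := hdiag v hv
      let s' := s.erase v
      by_cases hs' : s'.Nonempty
      swap
      · obtain ⟨i, hi, h⟩ := hno (fun _ => 1) (fun _ _ => one_pos)
        have hsv : s = {v} := by
          rw [Finset.not_nonempty_iff_eq_empty] at hs'
          exact Finset.eq_singleton_iff_unique_mem.2 ⟨hv, fun x hx => by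
            by_contra hxv
            exact Finset.notMem_empty x (hs' ▸ Finset.mem_erase.2 ⟨hxv, hx⟩)⟩
        subst hsv
        rw [Finset.mem_singleton.1 hi] at h
        simp at h
        omega
      let M' : ι → ι → ℤ := fun i j => - M v v * M i j + M i v * M v j
      have hmem : ∀ {i}, i ∈ s' → i ∈ s ∧ i ≠ v := fun hi => ⟨Finset.mem_of_mem_erase hi, Finset.ne_of_mem_erase hi⟩
      have hlift : ∀ (d : ι → ℤ) (i : ι),
          ∑ t ∈ s, M i t * (if t = v then ∑ x ∈ s', M v x * d x else - M v v * d t) =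
            ∑ t ∈ s', M' i t * d t := fun d i => by
        rw [← Finset.add_sum_erase s _ hv, if_pos rfl, Finset.mul_sum, ← Finset.sum_add_distrib]
        refine Finset.sum_congr rfl fun t ht => ?_
        rw [if_neg (hmem ht).2]
        simp only [M']
        ring
      have hv0 : ∀ t, M' v t = 0 := fun t => by simp only [M']; ring
      have hdv : ∀ d : ι → ℤ, (∀ i ∈ s', 0 < d i) → 0 < ∑ x ∈ s', M v x * d x := fun d hd => by
        obtain ⟨i, hi, j, hj, hij⟩ := hc {v} (Finset.singleton_subset_iff.2 hv) (Finset.singleton_nonempty v)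
          (by rw [Finset.sdiff_singleton_eq_erase]; exact hs')
        rw [Finset.mem_singleton.1 hi] at hij
        rw [Finset.sdiff_singleton_eq_erase] at hj
        refine lt_of_lt_of_le (mul_pos hij (hd j hj)) (Finset.single_le_sum (f := fun x => M v x * d x)
          (fun x hx => mul_nonneg (hoff v hv x (hmem hx).1 (hmem hx).2.symm) (hd x hx).le) hj)
      obtain ⟨d, hd, hdM⟩ := ih M' (fun i j => by simp only [M']; rw [hsym i j, hsym i v, hsym v j]; ring) s'
        (by rw [Finset.card_erase_of_mem hv]; omega) hs'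
        (fun i hi j hj hij => by
          have h1 := mul_nonneg (neg_nonneg.2 hvv.le) (hoff i (hmem hi).1 j (hmem hj).1 hij)
          have h2 := mul_nonneg (hoff i (hmem hi).1 v hv (hmem hi).2) (hoff v hv j (hmem hj).1 (hmem hj).2.symm)
          exact add_nonneg h1 h2)
        (fun S hS hSne hSc => by
          have hSs : S ⊆ s := hS.trans (Finset.erase_subset _ _)
          obtain ⟨a, ha⟩ := hSc
          obtain ⟨has', haS⟩ := Finset.mem_sdiff.1 ha
          have step : ∀ i ∈ S, ∀ j ∈ s' \ S, (0 < M i j ∨ (0 < M i v ∧ 0 < M v j)) →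
              0 < M' i j := fun i hi j hj h => by
            obtain ⟨hj', hjS⟩ := Finset.mem_sdiff.1 hj
            have hij : i ≠ j := fun e => hjS (e ▸ hi)
            have h1 := mul_nonneg (neg_nonneg.2 hvv.le) (hoff i (hSs hi) j (hmem hj').1 hij)
            have h2 := mul_nonneg (hoff i (hSs hi) v hv (hmem (hS hi)).2)
              (hoff v hv j (hmem hj').1 (hmem hj').2.symm)
            show 0 < - M v v * M i j + M i v * M v j
            rcases h with h | ⟨h, h'⟩
            · have := mul_pos (neg_pos.2 hvv) h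
              omega
            · have := mul_pos h h'
              omega
          obtain ⟨i₁, hi₁, j₁, hj₁, h₁⟩ := hc S hSs hSne
            ⟨v, Finset.mem_sdiff.2 ⟨hv, fun h => (hmem (hS h)).2 rfl⟩⟩
          obtain ⟨hj₁s, hj₁S⟩ := Finset.mem_sdiff.1 hj₁
          by_cases hj₁v : j₁ = v
          · obtain ⟨i₂, hi₂, j₂, hj₂, h₂⟩ := hc (insert v S) (Finset.insert_subset hv hSs)
              (Finset.insert_nonempty _ _) ⟨a, Finset.mem_sdiff.2 ⟨(hmem has').1, fun h => by
                rcases Finset.mem_insert.1 h with h | h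
                · exact (hmem has').2 h
                · exact haS h⟩⟩
            obtain ⟨hj₂s, hj₂n⟩ := Finset.mem_sdiff.1 hj₂
            have hj₂' : j₂ ∈ s' \ S := Finset.mem_sdiff.2 ⟨Finset.mem_erase.2
              ⟨fun e => hj₂n (e ▸ Finset.mem_insert_self _ _), hj₂s⟩, fun h => hj₂n (Finset.mem_insert_of_mem h)⟩
            rcases Finset.mem_insert.1 hi₂ with e | hi₂S
            · exact ⟨i₁, hi₁, j₂, hj₂', step i₁ hi₁ j₂ hj₂' (Or.inr ⟨hj₁v ▸ h₁, e ▸ h₂⟩)⟩
            · exact ⟨i₂, hi₂S, j₂, hj₂', step i₂ hi₂S j₂ hj₂' (Or.inl h₂)⟩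
          · have hj₁' : j₁ ∈ s' \ S := Finset.mem_sdiff.2 ⟨Finset.mem_erase.2 ⟨hj₁v, hj₁s⟩, hj₁S⟩
            exact ⟨i₁, hi₁, j₁, hj₁', step i₁ hi₁ j₁ hj₁' (Or.inl h₁)⟩)
        (fun d hd => by
          obtain ⟨i, hi, h⟩ := hno (fun t => if t = v then ∑ x ∈ s', M v x * d x else - M v v * d t)
            (fun t ht => by
              by_cases htv : t = v
              · rw [if_pos htv]; exact hdv d hd
              · rw [if_neg htv]; exact mul_pos (neg_pos.2 hvv) (hd t (Finset.mem_erase.2 ⟨htv, ht⟩)))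
          rw [hlift] at h
          by_cases hiv : i = v
          · subst hiv
            simp [hv0] at h
          · exact ⟨i, Finset.mem_erase.2 ⟨hiv, hi⟩, h⟩)
      obtain ⟨K, hK1, hK2⟩ : ∃ K : ℤ, 1 ≤ K ∧ ∀ i ∈ s', M i v < K := by
        refine ⟨1 + ∑ i ∈ s', max (M i v) 0, le_add_of_nonneg_right (Finset.sum_nonneg fun _ _ => le_max_right _ _),
          fun i hi => ?_⟩
        have := Finset.single_le_sum (f := fun x => max (M x v) 0) (fun _ _ => le_max_right _ _) hi
        have := le_max_left (M i v) 0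
        omega
      let d₀ := fun t => if t = v then ∑ x ∈ s', M v x * d x else - M v v * d t
      refine ⟨fun t => (K + 1) * d₀ t - if t = v then 1 else 0, fun t ht => ?_, fun i hi => ?_⟩
      · by_cases htv : t = v
        · simp only [d₀, htv, if_true]
          have := hdv d hd
          nlinarith
        · simp only [d₀, htv, if_false, sub_zero]
          exact mul_pos (by omega) (mul_pos (neg_pos.2 hvv) (hd t (Finset.mem_erase.2 ⟨htv, ht⟩)))
      · have e1 : ∑ t ∈ s, M i t * ((K + 1) * d₀ t - if t = v then 1 else 0) =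
            (K + 1) * (∑ t ∈ s', M' i t * d t) - M i v := by
          rw [← hlift d i]
          simp only [mul_sub, Finset.sum_sub_distrib, mul_ite, mul_one, mul_zero, Finset.sum_ite_eq', hv, if_true]
          rw [Finset.mul_sum]
          congr 1
          exact Finset.sum_congr rfl fun t _ => by simp only [d₀]; split <;> ring
        rw [e1]
        by_cases hiv : i = v
        · subst hiv
          simp only [hv0, zero_mul, Finset.sum_const_zero, mul_zero, zero_sub]
          omega
        · have hi' : i ∈ s' := Finset.mem_erase.2 ⟨hiv, hi⟩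
          have h1 := hdM i hi'
          have h2 := hK2 i hi'
          nlinarith

end Groth.Agent.Surf15
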