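import Groth.Agent.Surf15.Growth
import Groth.Agent.Surf15.Metzler
import Groth.Agent.Surf15.Fibre
import Groth.Agent.AbCubeLib.EffCartierCompl
import Groth.Agent.CommAlg4.ComplAffineIrred
import Groth.Agent.CAlgH3.Factorial
import Groth.Agent.AbCubeLib.GenericRank
import Groth.Agent.VarietyLib.Nakai

/-!
# Surf15: the theorem of Zariski and Goodman

The complement of an affine open in a regular proper surface is the support of an ample effective divisor.
-/

set_option autoImplicit false
set_option linter.style.haveILetI false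
set_option backward.isDefEq.respectTransparency.types false

universe u

open CategoryTheory CategoryTheory.Limits AlgebraicGeometry Opposite TopologicalSpace
open Groth.Agent.Coherent Groth.Agent.PicLib Groth.Agent.AmpleLib Groth.Agent.EulerLib
open Groth.Agent.CurveRR24 Groth.Agent.DimLib Groth.Agent.AssSch12

namespace Groth.Agent.Surf15

variable {X : Scheme.{u}} (k : Type u) [Field k] [X.Over (Spec (CommRingCat.of k))]
  [IsProper (X ↘ Spec (CommRingCat.of k))] [IsIntegral X]
variable (hX : topologicalKrullDim X = ((2 : ℕ) : WithBot ℕ∞))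
  (hreg : ∀ x : X, IsRegularLocalRing (X.presheaf.stalk x))

omit [IsIntegral X] in
include k in
/-- An inverse of the ideal of an effective divisor, with its section. -/
theorem exists_sheaf_of_effCartier {Z : X.IdealSheafData} (hZ : BlowUp.IsEffCartierIdeal Z) :
    ∃ (L : X.Modules) (_ : PicF.IsInvertible L), ClSub.IsInverseOf L (ClSub.idealMod Z) ∧
      ∃ a : Γ(L, ⊤), (glocus L a : Set X) = (Z.support : Set X)ᶜ := by
  have hI := FlatMor12.IdealModGen.isInvertible_idealMod Z hZ
  obtain ⟨L, ⟨e⟩⟩ := VarietyLib.exists_isInverseOf hI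
  have hL : PicF.IsInvertible L :=
    PicM.isInvertible_of_tensor hI (glocus_isInvertible_of_iso e.symm isInvertible_structureModule)
  have hinv : ClSub.IsInverseOf L (ClSub.idealMod Z) := ⟨AmpleLib.tensorComm _ _ ≪≫ e⟩
  exact ⟨L, hL, hinv, AbCubeLib.exists_section_of_effCartier Z hZ hL hinv⟩

include k hX hreg

/-- An integral curve is not contained in an affine open. -/
theorem crv_not_subset_affine {U : X.Opens} (hU : IsAffineOpen U) {C : X.IdealSheafData} (hC : IsCrv C) :
    ∃ x ∈ (C.support : Set X), x ∉ U := by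
  haveI := hC.1
  let j := C.subschemeι
  haveI : IsProper (j ≫ (X ↘ Spec (CommRingCat.of k))) := inferInstance
  have hd : 0 < topologicalKrullDim C.subscheme := by
    rw [j.isClosedEmbedding.isEmbedding.toHomeomorph.isHomeomorph.topologicalKrullDim_eq,
      show Set.range j = (C.support : Set X) from C.range_subschemeι, hC.2]
    exact_mod_cast Nat.one_pos
  obtain ⟨c, hc⟩ := CommAlg4.compl_affine_nonempty (j ≫ (X ↘ Spec (CommRingCat.of k)))
    (hU.preimage j) hd
  exact ⟨j c, C.range_subschemeι.le ⟨c, rfl⟩, hc⟩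

/-- **Zariski–Goodman.** -/
theorem exists_ample_boundary {U : X.Opens} (hU : IsAffineOpen U) (hne : (U : Set X).Nonempty) :
    ∃ Z : X.IdealSheafData, BlowUp.IsEffCartierIdeal Z ∧ (Z.support : Set X) = (U : Set X)ᶜ ∧
      ∀ L : X.Modules, PicF.IsInvertible L → ClSub.IsInverseOf L (ClSub.idealMod Z) → CohB1.IsAmple L := by
  classical
  haveI := isNoetherian_of_proper (X := X) k
  haveI := isSeparated_of_proper (X := X) k
  let p := X ↘ Spec (CommRingCat.of k)
  have hdom : ∀ x : X, IsDomain (X.presheaf.stalk x) := fun x =>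
    haveI := hreg x
    CAlgH3.isDomain_of_isRegularLocalRing _
  obtain ⟨D₀, hD₀, hD₀s⟩ := AbCubeLib.exists_effCartier_compl (fun _ _ hV hW => hV.inf hW) hU
    (U.isOpen.dense hne) fun x _ => by
      haveI := hreg x
      haveI := hdom x
      exact ⟨hdom x, CAlgH3.ufm_of_regular _⟩
  have hcne : ((U : Set X)ᶜ).Nonempty := CommAlg4.compl_affine_nonempty p hU (by
    rw [hX]; exact_mod_cast Nat.two_pos)
  have hD₀0 : D₀ ≠ ⊤ := fun h => by
    rw [h, Scheme.IdealSheafData.support_top] at hD₀s
    rw [← hD₀s] at hcne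
    exact hcne.ne_empty rfl
  obtain ⟨s, hs, hs'⟩ := exists_crv_finset k hX hreg hD₀ hD₀0
  let D : s → X.IdealSheafData := fun i => i.1
  have hD : ∀ i : s, IsCrv (D i) := fun i => (hs i.1 i.2).1
  have hDc : ∀ i : s, BlowUp.IsEffCartierIdeal (D i) := fun i => (hD i).isEffCartier k hX hreg
  have hDsub : ∀ i : s, ((D i).support : Set X) ⊆ (U : Set X)ᶜ := fun i =>
    hD₀s ▸ fun x hx => Scheme.IdealSheafData.support_antitone (hs i.1 i.2).2 hx
  have hcov : (U : Set X)ᶜ ⊆ ⋃ i : s, ((D i).support : Set X) := fun x hx => by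
    obtain ⟨C, hC, hle, hxC⟩ := exists_crv_through k hX hreg hD₀ (hD₀s.ge hx)
    exact Set.mem_iUnion.2 ⟨⟨C, hs' C hC hle⟩, hxC⟩
  let M : s → s → ℤ := fun i j => B k (clI' (D i) (hDc i)) (clI' (D j) (hDc j))
  have hoff : ∀ i j : s, i ≠ j → 0 ≤ M i j := fun i j hij => by
    haveI := (hD i).1
    refine B_clI'_nonneg k hX.le (hDc j) (hDc i) (hD i).2 fun hsub => ?_
    obtain ⟨_, h⟩ := exists_eq_of_crv k (fun _ : Unit => D j) (fun _ => hD j) (hD i)
      (le_of_support_subset hsub) fun x hx => Set.mem_iUnion.2 ⟨(), hx⟩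
    exact hij (Subtype.ext h)
  have hconn : MConn M Finset.univ := by
    intro S _ hS hSc
    let V : Finset s → Set X := fun T => ⋃ i ∈ T, ((D i).support : Set X)
    have hVcl : ∀ T, IsClosed (V T) := fun T => isClosed_biUnion_finset fun i _ => (D i).support.isClosed
    have hne' : ∀ T : Finset s, T.Nonempty → ((U : Set X)ᶜ ∩ V T).Nonempty := by
      rintro T ⟨i, hi⟩
      haveI := (hD i).1
      exact ⟨_, hDsub i (SDiv28.CartierPart.isGenericPoint_gen (D i)).mem,
        Set.mem_biUnion hi (SDiv28.CartierPart.isGenericPoint_gen (D i)).mem⟩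
    have hsub : (U : Set X)ᶜ ⊆ V S ∪ V (Finset.univ \ S) := fun x hx => by
      obtain ⟨i, hxi⟩ := Set.mem_iUnion.1 (hcov hx)
      by_cases hiS : i ∈ S
      · exact Or.inl (Set.mem_biUnion hiS hxi)
      · exact Or.inr (Set.mem_biUnion (Finset.mem_sdiff.2 ⟨Finset.mem_univ _, hiS⟩) hxi)
    obtain ⟨x, -, hxS, hxSc⟩ := isPreconnected_closed_iff.1
      (CommAlg4.isConnected_compl_affine p hU hne (le_of_eq hX.symm)).isPreconnected (V S) (V (Finset.univ \ S))
      (hVcl _) (hVcl _) hsub (hne' S hS) (hne' _ hSc)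
    obtain ⟨i, hi, hxi⟩ := Set.mem_iUnion₂.1 hxS
    obtain ⟨j, hj, hxj⟩ := Set.mem_iUnion₂.1 hxSc
    exact ⟨i, hi, j, hj, B_pos_of_meet k hX hreg (hD i) (hD j)
      (fun h => (Finset.mem_sdiff.1 hj).2 (Subtype.ext h ▸ hi)) hxi hxj⟩
  -- the divisor of a positive vector
  have hdiv : ∀ d : s → ℤ, (∀ i, 0 < d i) → ∃ (Z : X.IdealSheafData) (hZ : BlowUp.IsEffCartierIdeal Z),
      (Z.support : Set X) = (U : Set X)ᶜ ∧ (∀ i, Z ≤ D i) ∧
      (∀ i, B k (clI' (D i) (hDc i)) (clI' Z hZ) = ∑ j, M i j * d j) ∧
      B k (clI' Z hZ) (clI' Z hZ) = ∑ i, d i * ∑ j, M i j * d j := by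
    intro d hd
    let e : s → ℕ := fun i => (d i).toNat
    have he : ∀ i, (e i : ℤ) = d i := fun i => Int.toNat_of_nonneg (hd i).le
    have hpowc : ∀ (i : s) (n : ℕ), clI' (D i ^ n) (Inters29.isEffCartier_pow (hDc i) n) = clI' (D i) (hDc i) ^ n := by
      intro i n
      induction n with
      | zero =>
        rw [clI'_congr (pow_zero (D i)) _ Inters29.isEffCartier_one, pow_zero]
        have h2 := (clI'_congr (mul_one (1 : X.IdealSheafData)).symm Inters29.isEffCartier_one
          (ModPairLib.isEffCartier_mul Inters29.isEffCartier_one Inters29.isEffCartier_one)).trans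
          (clI'_mul 1 1 Inters29.isEffCartier_one Inters29.isEffCartier_one)
        obtain ⟨b, hb⟩ := exists_inv (clI' (1 : X.IdealSheafData) Inters29.isEffCartier_one)
        rw [← hb]
        conv_rhs => rw [h2]
        rw [mul_assoc, hb, mul_one]
      | succ n ih =>
        rw [clI'_congr (pow_succ (D i) n) _ (ModPairLib.isEffCartier_mul (Inters29.isEffCartier_pow (hDc i) n) (hDc i)),
          clI'_mul _ _ (Inters29.isEffCartier_pow (hDc i) n) (hDc i), ih, ← pow_succ]
    have hZ := Inters29.isEffCartier_prod (Finset.univ : Finset s) (fun i => D i ^ e i)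
      fun i => Inters29.isEffCartier_pow (hDc i) _
    refine ⟨_, hZ, ?_⟩
    have hcl : ∀ T : Finset s, clI' (∏ i ∈ T, D i ^ e i)
        (Inters29.isEffCartier_prod T _ fun i => Inters29.isEffCartier_pow (hDc i) _) =
        ∏ i ∈ T, clI' (D i) (hDc i) ^ e i := by
      intro T
      induction T using Finset.induction_on with
      | empty =>
        rw [clI'_congr Finset.prod_empty _ Inters29.isEffCartier_one, Finset.prod_empty]
        have h2 := (clI'_congr (mul_one (1 : X.IdealSheafData)).symm Inters29.isEffCartier_one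
          (ModPairLib.isEffCartier_mul Inters29.isEffCartier_one Inters29.isEffCartier_one)).trans
          (clI'_mul 1 1 Inters29.isEffCartier_one Inters29.isEffCartier_one)
        obtain ⟨b, hb⟩ := exists_inv (clI' (1 : X.IdealSheafData) Inters29.isEffCartier_one)
        rw [← hb]
        conv_rhs => rw [h2]
        rw [mul_assoc, hb, mul_one]
      | insert i T hiT ih =>
        rw [clI'_congr (Finset.prod_insert hiT) _ (ModPairLib.isEffCartier_mul (Inters29.isEffCartier_pow (hDc i) _)
          (Inters29.isEffCartier_prod T _ fun i => Inters29.isEffCartier_pow (hDc i) _)),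
          clI'_mul _ _ (Inters29.isEffCartier_pow (hDc i) _)
            (Inters29.isEffCartier_prod T _ fun i => Inters29.isEffCartier_pow (hDc i) _),
          ih, hpowc, Finset.prod_insert hiT]
    have hle : ∀ i, (∏ j, D j ^ e j) ≤ D i := fun i => by
      rw [← Finset.mul_prod_erase _ _ (Finset.mem_univ i)]
      refine (mul_le_fst _ _).trans ?_
      obtain ⟨n, hn⟩ := Nat.exists_eq_add_of_le (show 1 ≤ e i by have := he i; have := hd i; omega)
      rw [hn, add_comm, pow_succ]
      exact mul_le_snd _ _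
    have hsubT : ∀ T : Finset s, ((∏ i ∈ T, D i ^ e i).support : Set X) ⊆ (U : Set X)ᶜ := by
      intro T
      induction T using Finset.induction_on with
      | empty =>
        rw [Finset.prod_empty, Scheme.IdealSheafData.one_eq_top, Scheme.IdealSheafData.support_top]
        exact fun x hx => hx.elim
      | insert i T hiT ih =>
        rw [Finset.prod_insert hiT, Scheme.IdealSheafData.support_mul]
        rintro x (hx | hx)
        · refine hDsub i ?_
          generalize e i = n at hx
          induction n with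
          | zero =>
            rw [pow_zero, Scheme.IdealSheafData.one_eq_top, Scheme.IdealSheafData.support_top] at hx
            exact hx.elim
          | succ n ihn =>
            rw [pow_succ, Scheme.IdealSheafData.support_mul] at hx
            exact hx.elim ihn id
        · exact ih hx
    refine ⟨Set.Subset.antisymm (hsubT _) fun x hx => ?_, hle, fun i => ?_, ?_⟩
    · obtain ⟨i, hxi⟩ := Set.mem_iUnion.1 (hcov hx)
      exact Scheme.IdealSheafData.support_antitone (hle i) hxi
    · rw [hcl]
      have h3 : ∏ t, clI' (D t) (hDc t) ^ (Pi.single i 1 : s → ℕ) t = clI' (D i) (hDc i) := by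
        rw [Finset.prod_eq_single i (fun t _ ht => by rw [Pi.single_eq_of_ne ht, pow_zero]) (by simp),
          Pi.single_eq_same, pow_one]
      conv_lhs => rw [← h3]
      rw [B_prod_pow k hX, Finset.sum_eq_single i (fun t _ ht => by rw [Pi.single_eq_of_ne ht]; simp) (by simp)]
      refine Finset.sum_congr rfl fun t _ => ?_
      rw [Pi.single_eq_same, Nat.cast_one, one_mul, he, mul_comm]
    · rw [hcl, B_prod_pow k hX]
      refine Finset.sum_congr rfl fun i _ => ?_
      rw [Finset.mul_sum]
      refine Finset.sum_congr rfl fun t _ => ?_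
      rw [he, he]
      ring
  -- some boundary curve is met positively
  have hno : ∀ d : s → ℤ, (∀ i ∈ (Finset.univ : Finset s), 0 < d i) →
      ∃ i ∈ (Finset.univ : Finset s), 0 < ∑ t, M i t * d t := by
    intro d hd
    by_contra hcon
    push Not at hcon
    obtain ⟨Z, hZ, hZs, -, hB, -⟩ := hdiv d fun i => hd i (Finset.mem_univ i)
    obtain ⟨L, hL, hLI, a, ha⟩ := exists_sheaf_of_effCartier k hZ
    have haU : glocus L a = U := Opens.ext (by rw [ha, hZs, compl_compl])
    haveI : Nonempty (glocus L a) := by rw [haU]; exact hne.to_subtype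
    obtain ⟨m, hm⟩ := exists_lower_bound k hX hL (a := a) (by rw [haU]; exact hU) inferInstance
    obtain ⟨h, C, hup⟩ := exists_upper_bound k hX hZ hL hLI fun y hy hy1 => by
      haveI := VarietyLib.isIntegral_clI y
      have hyc : IsCrv (clI y) := ⟨VarietyLib.isIntegral_clI y, by rw [VarietyLib.support_clI]; exact hy1⟩
      have hle : D₀ ≤ clI y := le_of_support_subset (by
        rw [VarietyLib.support_clI, hD₀s, ← hZs]
        exact Z.support.isClosed.closure_subset_iff.2 (Set.singleton_subset_iff.2 hy))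
      have hyd : clI y = D ⟨clI y, hs' _ hyc hle⟩ := rfl
      have h := hcon ⟨clI y, hs' _ hyc hle⟩ (Finset.mem_univ _)
      rw [← hB] at h
      rw [show clM y = ClSub.quotMod (D ⟨clI y, hs' _ hyc hle⟩) from rfl, deg_quotMod k (hDc _),
        B_inv_right k hX.le (mk_inverse_clI' hZ hL hLI)]
      omega
    let N := h + 2 * m * C + 1
    have hL1 := AmpleLib.isInvertible_tensorPow hL m
    have hcl : InvCl.mk (CohB1.tensorPow (CohB1.tensorPow L m) (2 * N))
        (AmpleLib.isInvertible_tensorPow hL1 (2 * N)) = InvCl.mk L hL ^ (m * (2 * N)) := by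
      rw [InvCl.mk_tensorPow hL1, InvCl.mk_tensorPow hL, ← pow_mul]
    have h1 := (hm N).trans (hup (m * (2 * N)) _ (AmpleLib.isInvertible_tensorPow hL1 (2 * N)) hcl)
    have hb : 2 * m * C ≤ N := by show 2 * m * C ≤ h + 2 * m * C + 1; omega
    have hh : h ≤ N := by show h ≤ h + 2 * m * C + 1; omega
    have e : m * (2 * N) * C = N * (2 * m * C) := by ring
    have e2 := Nat.mul_le_mul_left N hb
    rw [e] at h1
    nlinarith
  haveI : Nonempty s := by
    obtain ⟨x, hx⟩ := hcne
    obtain ⟨i, -⟩ := Set.mem_iUnion.1 (hcov hx)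
    exact ⟨i⟩
  obtain ⟨d, hd, hdM⟩ := exists_pos_vector M (fun i j => B_comm k _ _) (Fintype.card s) Finset.univ le_rfl
    Finset.univ_nonempty (fun i _ j _ => hoff i j) hconn hno
  obtain ⟨Z, hZ, hZs, hle, hB, hBB⟩ := hdiv d fun i => hd i (Finset.mem_univ i)
  refine ⟨Z, hZ, hZs, fun L hL hLI => VarietyLib.isAmple_of_posInt k hL fun z r hr hz => ?_⟩
  have hr2 : r ≤ 2 := by
    have := (dim_mono (Set.subset_univ (closure ({z} : Set X)))).trans
      ((IsHomeomorph.topologicalKrullDim_eq _ (Homeomorph.Set.univ X).isHomeomorph).le.trans hX.le)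
    rw [hz] at this
    exact_mod_cast this
  have hinv := mk_inverse_clI' hZ hL hLI
  obtain rfl | rfl : r = 1 ∨ r = 2 := by omega
  · haveI := VarietyLib.isIntegral_clI z
    have hcd : IsCrv (clI z) := ⟨VarietyLib.isIntegral_clI z, by rw [VarietyLib.support_clI]; exact hz⟩
    have hc := hcd.isEffCartier k hX hreg
    rw [interDeg_one_class, show clM z = ClSub.quotMod (clI z) from rfl, deg_quotMod k hc,
      B_inv_right k hX.le hinv, neg_neg]
    by_cases hzs : ((clI z).support : Set X) ⊆ (Z.support : Set X)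
    · have hle0 : D₀ ≤ clI z := le_of_support_subset (by rw [hD₀s, ← hZs]; exact hzs)
      have h := hdM ⟨clI z, hs' _ hcd hle0⟩ (Finset.mem_univ _)
      rw [← hB] at h
      exact h
    · obtain ⟨x, hxC, hxU⟩ := crv_not_subset_affine k hX hreg hU hcd
      obtain ⟨i, hxi⟩ := Set.mem_iUnion.1 (hcov hxU)
      obtain ⟨W, hW⟩ := ModPairLib.exists_mul_eq (hDc i) (hle i)
      subst hW
      have hWc : BlowUp.IsEffCartierIdeal W := ModPairLib.isEffCartier_of_mul hZ (hDc i)
      have h1 := B_clI'_nonneg k hX.le hWc hc hcd.2 fun hsub => hzs fun y hy =>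
        Scheme.IdealSheafData.support_antitone (mul_le_fst W (D i)) (hsub hy)
      have h2 := B_pos_of_meet k hX hreg hcd (hD i) (fun he => hzs fun y hy =>
        Scheme.IdealSheafData.support_antitone (mul_le_snd W (D i)) (show y ∈ ((D i).support : Set X) by rw [← he]; exact hy)) hxC hxi
      rw [clI'_congr rfl hZ (ModPairLib.isEffCartier_mul hWc (hDc i)), clI'_mul W (D i) hWc (hDc i),
        B_mul_right k hX.le]
      omega
  · obtain rfl : z = genericPoint X := by
      refine (DimLib.eq_of_specializes_of_ptDim_le p (genericPoint_specializes z) ?_).symm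
      rw [VarietyLib.dim_closure_eq_ptDim k] at hz
      rw [ptDim_genericPoint k hX]
      exact le_of_eq (by exact_mod_cast hz.symm)
    set a := InvCl.mk L hL
    have e := AbCubeLib.interDeg_eq_genRank k (X := X) (r := 2) hX.le (fun _ => a) (Coh.structureModule X) (isCoh_O k)
    have hpos : 0 < interDeg (fun _ : Fin 2 => a) (chiCl k (Coh.structureModule X)) := by
      have e2 : (fun _ : Fin 2 => a) = (Fin.cons a (Fin.cons a Fin.elim0) : Fin 2 → InvCl X) := by
        funext i; fin_cases i <;> rfl
      rw [e2, ← B_eq_interDeg, B_inv_inv k hX.le hinv hinv, hBB]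
      exact Finset.sum_pos (fun i hi => mul_pos (hd i hi) (hdM i hi)) Finset.univ_nonempty
    rw [e] at hpos
    exact pos_of_mul_pos_right hpos (Int.natCast_nonneg _)

/-- Regular proper surfaces are projective: they carry an ample module. -/
theorem exists_ample : ∃ H : X.Modules, CohB1.IsAmple H := by
  haveI := isNoetherian_of_proper (X := X) k
  obtain ⟨V, hV, hηV, -⟩ := exists_isAffineOpen_mem_and_subset (x := genericPoint X) (U := ⊤) trivial
  obtain ⟨Z, hZ, -, hamp⟩ := exists_ample_boundary k hX hreg hV ⟨_, hηV⟩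
  obtain ⟨L, hL, hLI, -⟩ := exists_sheaf_of_effCartier k hZ
  exact ⟨L, hamp L hL hLI⟩

end Groth.Agent.Surf15
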