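import Groth.Agent.Surf15.Positivity
import Groth.Agent.Surf15.Goodman

/-!
# Surf15: null classes and numerical connectedness
-/

set_option autoImplicit false
set_option linter.style.haveILetI false
set_option backward.isDefEq.respectTransparency.types false

universe u

open CategoryTheory CategoryTheory.Limits AlgebraicGeometry Opposite TopologicalSpace
open Groth.Agent.Coherent Groth.Agent.PicLib Groth.Agent.AmpleLib Groth.Agent.EulerLib
open Groth.Agent.CurveRR24 Groth.Agent.DimLib Groth.Agent.AssSch12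

namespace Groth.Agent.Surf15

variable {X : Scheme.{u}} (k : Type u) [Field k] [X.Over (Spec (CommRingCat.of k))]
  [IsProper (X ↘ Spec (CommRingCat.of k))] [IsIntegral X]

include k in
/-- A class of square zero orthogonal to a class of positive square is numerically trivial. -/
theorem B_eq_zero_of_null (hX : topologicalKrullDim X = ((2 : ℕ) : WithBot ℕ∞)) {H : X.Modules}
    (hH : CohB1.IsAmple H) {d a : InvCl X} (hd : 0 < B k d d) (hda : B k d a = 0) (haa : B k a a = 0)
    (c : InvCl X) : B k a c = 0 := by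
  obtain ⟨c₁, hc₁⟩ := exists_zcomb k hX.le c (B k d d)
  obtain ⟨c₂, hc₂⟩ := exists_zcomb k hX.le d (-B k d c)
  have hdc : B k d (c₁ * c₂) = 0 := by
    rw [B_mul_right k hX.le, B_comm k d c₁, B_comm k d c₂, hc₁, hc₂, B_comm k c d]; ring
  have hac : B k a (c₁ * c₂) = B k d d * B k a c := by
    rw [B_mul_right k hX.le, B_comm k a c₁, B_comm k a c₂, hc₁, hc₂, hda, B_comm k c a]; ring
  have key : ∀ m : ℤ, 2 * m * (B k d d * B k a c) + B k (c₁ * c₂) (c₁ * c₂) ≤ 0 := by
    intro m
    obtain ⟨am, hm⟩ := exists_zcomb k hX.le a m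
    have := B_index k hX hH hd (b := am * (c₁ * c₂)) (by
      rw [B_mul_right k hX.le, hdc, B_comm k d am, hm, B_comm k a d, hda]; ring)
    rw [B_mul_left k hX.le, B_mul_right k hX.le am am, B_mul_right k hX.le (c₁ * c₂) am, hm, hm,
      B_comm k a am, hm, B_comm k (c₁ * c₂) am, hm, haa, hac] at this
    linarith
  by_contra hne
  have hz : B k d d * B k a c ≠ 0 := mul_ne_zero hd.ne' hne
  have := key ((B k d d * B k a c) * (1 + (B k (c₁ * c₂) (c₁ * c₂)).natAbs))
  have h1 : (1 : ℤ) ≤ (B k d d * B k a c) * (B k d d * B k a c) := Int.add_one_le_iff.2 (mul_self_pos.2 hz)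
  nlinarith [abs_nonneg (B k (c₁ * c₂) (c₁ * c₂)), neg_abs_le (B k (c₁ * c₂) (c₁ * c₂)),
    Int.natCast_natAbs (B k (c₁ * c₂) (c₁ * c₂))]

end Groth.Agent.Surf15
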