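import Groth.Agent.Surf15.Goodman
import Groth.Agent.Surf15.NumConn
import Groth.Agent.FlatCx12.RelPCOps

/-!
# Surf15: intersection numbers with pushed-forward structure sheaves
-/

set_option autoImplicit false
set_option linter.style.haveILetI false
set_option backward.isDefEq.respectTransparency.types false

universe u

open CategoryTheory CategoryTheory.Limits AlgebraicGeometry Opposite TopologicalSpace
open Groth.Agent.Coherent Groth.Agent.PicLib Groth.Agent.AmpleLib Groth.Agent.EulerLib
open Groth.Agent.CurveRR24

namespace Groth.Agent.Surf15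

variable {X Z : Scheme.{u}}

/-- The pushed-forward structure sheaf of a closed subscheme is the quotient by its ideal. -/
theorem nonempty_push_iso_quotMod (ι : Z ⟶ X) [IsClosedImmersion ι] :
    Nonempty ((Coh.push ι).obj (Coh.structureModule Z) ≅ ClSub.quotMod ι.ker) := by
  haveI : IsIso ι.toImage := inferInstance
  let t : Z ≅ ι.ker.subscheme := asIso ι.toImage
  have ht : t.hom ≫ ι.ker.subschemeι = ι := ι.toImage_imageι
  exact ⟨(Scheme.Modules.pushforwardCongr ht.symm ≪≫
    (Scheme.Modules.pushforwardComp t.hom ι.ker.subschemeι).symm).app _ ≪≫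
    (Scheme.Modules.pushforward ι.ker.subschemeι).mapIso (FlatCx12.RelPCOps.pushStructureIso t)⟩

/-- The image of a closed immersion is the support of its kernel. -/
theorem range_eq_support (ι : Z ⟶ X) [IsClosedImmersion ι] : Set.range ι = (ι.ker.support : Set X) := by
  haveI : IsIso ι.toImage := inferInstance
  rw [← ι.ker.range_subschemeι]
  conv_lhs => rw [← ι.toImage_imageι]
  rw [Scheme.Hom.comp_base, TopCat.coe_comp, Set.range_comp]
  rw [show Set.range ι.toImage = Set.univ from ι.toImage.surjective.range_eq, Set.image_univ]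

/-- The kernel of an integral closed curve is a curve. -/
theorem isCrv_ker (ι : Z ⟶ X) [IsClosedImmersion ι] [IsIntegral Z]
    (h : topologicalKrullDim Z = 1) : IsCrv ι.ker := by
  haveI : IsIso ι.toImage := inferInstance
  haveI : Nonempty ι.ker.subscheme := ⟨ι.toImage (genericPoint Z)⟩
  refine ⟨isIntegral_of_isOpenImmersion (inv ι.toImage), ?_⟩
  have e := ι.isClosedEmbedding.isEmbedding.toHomeomorph
  have hr : (Set.range ι) = (ι.ker.support : Set X) := range_eq_support ι
  rw [← hr, ← IsHomeomorph.topologicalKrullDim_eq _ e.isHomeomorph, h]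
  rfl

variable (k : Type u) [Field k] [X.Over (Spec (CommRingCat.of k))]
  [IsProper (X ↘ Spec (CommRingCat.of k))]

/-- The intersection number of one invertible module with a coherent module is minus its degree. -/
theorem intNum_one_eq (hX : topologicalKrullDim X ≤ ((2 : ℕ) : WithBot ℕ∞)) {L : X.Modules}
    (hL : PicF.IsInvertible L) {F : X.Modules} (hF : Coh.IsCoh F) :
    FGA.intNum k X 2 ![L] F = - deg k F (InvCl.mk L hL) := by
  rw [intNum_eq k ![L] (fun i => by fin_cases i; exact hL) hF hX]
  unfold altSum deg
  rw [show (Finset.univ : Finset (Finset (Fin 1))) = {∅, {0}} by decide]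
  rw [Finset.sum_insert (by decide), Finset.sum_singleton]
  simp
  ring

/-- The intersection number with a closed subscheme. -/
theorem intNum_push_eq (hX : topologicalKrullDim X ≤ ((2 : ℕ) : WithBot ℕ∞)) {L : X.Modules}
    (hL : PicF.IsInvertible L) (ι : Z ⟶ X) [IsClosedImmersion ι] :
    FGA.intNum k X 2 ![L] ((Coh.push ι).obj (Coh.structureModule Z)) =
      - deg k (ClSub.quotMod ι.ker) (InvCl.mk L hL) := by
  haveI := isNoetherian_of_proper (X := X) k
  obtain ⟨e⟩ := nonempty_push_iso_quotMod ι
  have hF : Coh.IsCoh ((Coh.push ι).obj (Coh.structureModule Z)) := isCoh_of_iso e.symm (isCoh_quotMod _)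
  rw [intNum_one_eq k hX hL hF, deg_congr k e]

end Groth.Agent.Surf15
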