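import Groth.Agent.Surf15.Fibre
import Groth.Agent.Surf15.IntPush
import Groth.Agent.Canon15.ExtPowPull
import Groth.Agent.VarietyLib.DetDeg
import Groth.Agent.VarietyLib.CurveDegree
import Groth.Agent.OmegaDual24.Main
import Groth.Agent.Omega15.ConormalDiffExist
import Groth.Agent.Omega15.Compat
import Groth.Agent.Omega15.ConormalSmooth
import Groth.Agent.OmegaLib.DOmega
import Groth.Agent.S5976
import Groth.Agent.S5020

/-!
# Surf15: adjunction for smooth curves on a smooth surface
-/

set_option autoImplicit false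
set_option linter.style.haveILetI false
set_option linter.unusedSectionVars false
set_option backward.isDefEq.respectTransparency.types false

universe u

open CategoryTheory CategoryTheory.Limits AlgebraicGeometry Opposite TopologicalSpace
open Groth.Agent.Coherent Groth.Agent.PicLib Groth.Agent.AmpleLib Groth.Agent.EulerLib
open Groth.Agent.CurveRR24

namespace Groth.Agent.Surf15

variable {X : Scheme.{u}} (k : Type u) [Field k] [X.Over (Spec (CommRingCat.of k))]
  [IsProper (X ↘ Spec (CommRingCat.of k))] [IsIntegral X]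

omit [IsIntegral X] [IsProper (X ↘ Spec (CommRingCat.of k))] in
/-- The conormal sequence of a smooth subscheme, for any universal derivations. -/
theorem exists_conormal_ses {Y S : Scheme.{u}} (f : Y ⟶ S) {C : Scheme.{u}} (i : C ⟶ Y) [IsClosedImmersion i]
    (hfs : MoreMor.IsFormallySmoothHom (i ≫ f)) {ΩY : Y.Modules} (d : OmegaSh.Der f ΩY)
    (hd : OmegaSh.IsUniversal d) (q : C ⟶ S) (hq : i ≫ f = q) {ΩC : C.Modules} (d' : OmegaSh.Der q ΩC)
    (hd' : OmegaSh.IsUniversal d') :
    ∃ (a : Omega.conormal i ⟶ (Scheme.Modules.pullback i).obj ΩY) (c : (Scheme.Modules.pullback i).obj ΩY ⟶ ΩC)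
      (w : a ≫ c = 0), (ShortComplex.mk a c w).ShortExact := by
  subst hq
  obtain ⟨φ, hφ⟩ := Omega15.exists_conormalDiff i d
  obtain ⟨c, hc, -⟩ := Omega15.existsUnique_compat (f' := i ≫ f) i (𝟙 _) (Category.comp_id _) hd d'
  haveI : Mono φ := S5020.result i f hfs _ _ hd φ hφ
  obtain ⟨h1, h2⟩ := S5976.result f i _ _ hd _ d' hd' φ hφ c hc
  have w : φ ≫ c = 0 := by
    rw [← imageSubobject_arrow_comp φ, Category.assoc]
    have : (imageSubobject φ).arrow ≫ c = 0 := by
      rw [← Subobject.ofLE_arrow h2.le, Category.assoc, kernelSubobject_arrow_comp, comp_zero]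
    rw [this, comp_zero]
  haveI := h1
  exact ⟨φ, c, w, { exact := (ShortComplex.exact_iff_image_eq_kernel _).2 h2 }⟩

theorem euler_ses {C : Scheme.{u}} [C.Over (Spec (CommRingCat.of k))] [IsProper (C ↘ Spec (CommRingCat.of k))]
    (S : ShortComplex C.Modules) (hS : S.ShortExact) {A B' D' : C.Modules} (hA : S.X₁ = A) (hB : S.X₂ = B') (hD : S.X₃ = D')
    (h1 : Coh.IsCoh A) (h2 : Coh.IsCoh B') (h3 : Coh.IsCoh D') :
    Curv2.euler k C B' = Curv2.euler k C A + Curv2.euler k C D' := by
  subst hA hB hD
  exact euler_additive k C S hS h1 h2 h3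

include k in
/-- The conormal sequence of a smooth subscheme gives additivity of Euler characteristics. -/
theorem euler_pullback_omega [Smooth (X ↘ Spec (CommRingCat.of k))] {C : Scheme.{u}} (i : C ⟶ X)
    [IsClosedImmersion i] [C.Over (Spec (CommRingCat.of k))]
    (hi : i ≫ (X ↘ Spec (CommRingCat.of k)) = C ↘ Spec (CommRingCat.of k))
    [IsProper (C ↘ Spec (CommRingCat.of k))] [Smooth (C ↘ Spec (CommRingCat.of k))]
    (hN : Coh.IsCoh (Omega.conormal i)) (hΩ : Coh.IsCoh ((Scheme.Modules.pullback i).obj (Omega.sheaf (X ↘ Spec (CommRingCat.of k)))))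
    (hΩC : Coh.IsCoh (Omega.sheaf (C ↘ Spec (CommRingCat.of k)))) :
    Curv2.euler k C ((Scheme.Modules.pullback i).obj (Omega.sheaf (X ↘ Spec (CommRingCat.of k)))) =
      Curv2.euler k C (Omega.conormal i) + Curv2.euler k C (Omega.sheaf (C ↘ Spec (CommRingCat.of k))) := by
  haveI := isNoetherian_of_proper (X := C) k
  obtain ⟨a, c, w, hS⟩ := exists_conormal_ses (X ↘ Spec (CommRingCat.of k)) i
    (by rw [hi]; exact Omega15.isFormallySmoothHom_of_smooth _) (OmegaSh.dOmega (X ↘ Spec (CommRingCat.of k)))
    (OmegaLib.isUniversal_dOmega (X ↘ Spec (CommRingCat.of k))) (C ↘ Spec (CommRingCat.of k)) hi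
    (OmegaSh.dOmega (C ↘ Spec (CommRingCat.of k))) (OmegaLib.isUniversal_dOmega (C ↘ Spec (CommRingCat.of k)))
  exact euler_ses k _ hS rfl rfl rfl hN hΩ hΩC

variable (hX : topologicalKrullDim X = ((2 : ℕ) : WithBot ℕ∞))
include k hX

/-- **Adjunction** for a smooth geometrically integral curve on a smooth surface. -/
theorem two_euler_curve [Smooth (X ↘ Spec (CommRingCat.of k))] {W : X.Modules}
    (hW : ExtPow.IsExtPow 2 (Omega.sheaf (X ↘ Spec (CommRingCat.of k))) W) (hWi : PicF.IsInvertible W)
    {D : X.IdealSheafData} (hD : BlowUp.IsEffCartierIdeal D) [IsIntegral D.subscheme]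
    (hDd : topologicalKrullDim D.subscheme = 1)
    (hsm : Smooth (D.subschemeι ≫ (X ↘ Spec (CommRingCat.of k))))
    (hgi : GeometricallyIntegral (D.subschemeι ≫ (X ↘ Spec (CommRingCat.of k)))) :
    2 * Curv2.euler k X (ClSub.quotMod D) =
      B k (clI' D hD) (InvCl.mk W hWi) - B k (clI' D hD) (clI' D hD) := by
  haveI := isNoetherian_of_proper (X := X) k
  haveI := isSeparated_of_proper (X := X) k
  let f := X ↘ Spec (CommRingCat.of k)
  let C := D.subscheme
  let i := D.subschemeι
  letI : C.Over (Spec (CommRingCat.of k)) := ⟨i ≫ f⟩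
  haveI : IsProper (C ↘ Spec (CommRingCat.of k)) := inferInstanceAs (IsProper (i ≫ f))
  haveI : Smooth (C ↘ Spec (CommRingCat.of k)) := hsm
  haveI : GeometricallyIntegral (C ↘ Spec (CommRingCat.of k)) := hgi
  haveI := isNoetherian_of_proper (X := C) k
  haveI := isSeparated_of_proper (X := C) k
  haveI : SmoothOfRelativeDimension 2 f := GenSmoothLib.smoothOfRelativeDimension_toField f hX
  have hE := Canon15.isFinLocFreeOfRank_omega f 2
  have hE' := VarietyLib.isFinLocFreeOfRank_pullback i hE
  have hW' := Canon15.isExtPow_pullback i hE hW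
  have hdet : Curv2.deg k C ((Scheme.Modules.pullback i).obj (Omega.sheaf f)) 2 =
      Curv2.deg k C ((Scheme.Modules.pullback i).obj W) 1 := VarietyLib.deg_eq_deg_det k hDd.le hE' hW'
  have hI := FlatMor12.IdealModGen.isInvertible_idealMod D hD
  have hker : i.ker = D := D.ker_subschemeι
  have hN : Omega.conormal i = (Scheme.Modules.pullback i).obj (ClSub.idealMod D) := by
    show (Scheme.Modules.pullback i).obj (ClSub.idealMod i.ker) = _
    rw [hker]
  have hNi : PicF.IsInvertible (Omega.conormal i) := hN ▸ PicLoc.isInvertible_pullback i hI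
  have hΩi := OmegaDual24.isInvertible_omega (k := k) (X := C) hDd
  have hadd := euler_pullback_omega k i rfl (isCoh_of_isInvertible k hNi)
    (CohBC.isCoh_of_isFinLocFree (VarietyLib.isFinLocFree_of_rank hE'))
    (isCoh_of_isInvertible k hΩi)
  have hΩ := OmegaDual24.deg_omega k (X := C) hDd
  haveI : Coh.IsQCoh (Coh.structureModule C) := isQCoh_structureModule
  -- degrees on the curve are degrees on the surface
  have htr : ∀ {M : X.Modules} (hM : PicF.IsInvertible M),
      Curv2.euler k C ((Scheme.Modules.pullback i).obj M) - Curv2.euler k C (Coh.structureModule C) =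
        - B k (clI' D hD) (InvCl.mk M hM) := fun {M} hM => by
    rw [← deg_quotMod k hD, deg_mk]
    obtain ⟨e⟩ := exists_restrict_iso D hM
    haveI := isQCoh_of_isInvertible (PicLoc.isInvertible_pullback i hM)
    rw [euler_congr k X e, ← AbCubeLib.euler_push k i rfl _,
      ← AbCubeLib.euler_push k i rfl (Coh.structureModule C)]
  have hO := OmegaDual24.finrank_omega k (X := C) hDd
  have hg : Curv2.euler k C (Coh.structureModule C) = 1 - (Curv2.genus k C : ℤ) := by
    rw [euler_eq_h0_sub_h1 k hDd.le (Coh.structureModule C) Coherent.isQCoh_structureModule,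
      CurveRR24.h0_structure_of_geomIntegral k (X := C)]
    rfl
  have hIdeal := htr hI
  rw [← hN] at hIdeal
  have hWd := htr hWi
  haveI : Coh.IsQCoh (Coh.structureModule C) := isQCoh_structureModule
  have hq : Curv2.euler k X (ClSub.quotMod D) = Curv2.euler k C (Coh.structureModule C) :=
    (AbCubeLib.euler_push k i rfl (Coh.structureModule C)).symm
  simp only [Curv2.deg, Nat.cast_one, one_mul, Nat.cast_ofNat] at hdet hΩ
  rw [hadd] at hdet
  rw [hq]
  change _ = - B k (clI' D hD) (clI' D hD) at hIdeal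
  linarith [hdet, hΩ, hg, hWd, hIdeal]

end Groth.Agent.Surf15
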