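import Groth.Agent.Surf15.CycleInduct

/-!
# Surf15: sections of line bundles of nonpositive degree on numerically connected cycles
-/

set_option autoImplicit false
set_option linter.style.haveILetI false
set_option backward.isDefEq.respectTransparency.types false

universe u

open CategoryTheory CategoryTheory.Limits AlgebraicGeometry Opposite TopologicalSpace
open Groth.Agent.Coherent Groth.Agent.PicLib Groth.Agent.AmpleLib Groth.Agent.EulerLib
open Groth.Agent.CurveRR24 Groth.Agent.DimLib Groth.Agent.AssSch12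

namespace Groth.Agent.Surf15

variable {X : Scheme.{u}}

/-- A module with a nowhere vanishing section is trivial. -/
theorem nonempty_iso_of_glocus_eq_top {L : X.Modules} {s : Γ(L, ⊤)} (h : glocus L s = ⊤) :
    Nonempty (L ≅ Coh.structureModule X) := by
  have hg := isGen_glocus (L := L) s
  have hg' : IsGen L ⊤ s := by
    have := (le_glocus_iff (L := L) s ⊤).1 h.ge
    rwa [resM_self] at this
  obtain ⟨e, -⟩ := AmpleLib.exists_iso_of_gens (fun _ : PUnit.{u+1} => (⊤ : X.Opens)) (iSup_const)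
    (fun _ => s) (fun _ => hg') (fun _ => oneSec ⊤) (fun _ => isGen_oneSec ⊤) (fun a b W ha hb c hc => by
      have h1 : c = 1 := ((hg' W hb).1 (by simp only [one_smul]; exact hc.symm))
      rw [h1, one_smul])
  exact ⟨e⟩

variable (k : Type u) [Field k] [X.Over (Spec (CommRingCat.of k))]
  [IsProper (X ↘ Spec (CommRingCat.of k))]

include k in
/-- The sections on the empty divisor vanish. -/
theorem h0_quotMod_top_twist {M : X.Modules} (hM : PicF.IsInvertible M) :
    Module.finrank k (Coh.HH X (CohB1.tensorMod (ClSub.quotMod (⊤ : X.IdealSheafData)) M) 0) = 0 := by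
  haveI := isNoetherian_of_proper (X := X) k
  haveI := isSeparated_of_proper (X := X) k
  haveI := subsingleton_HH_of_support (⊥ : Closeds X)
    (CohB1.tensorMod (ClSub.quotMod (⊤ : X.IdealSheafData)) M) (isCoh_twist hM (isCoh_quotMod _)).1
    (by
      rw [EulerLib.support_twist hM]
      refine (support_quotMod_subset _).trans ?_
      rw [Scheme.IdealSheafData.support_top]) 0 (by
      haveI : IsEmpty ((⊥ : Closeds X) : Set X) := ⟨fun x => x.2⟩
      rw [topologicalKrullDim]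
      haveI : IsEmpty (TopologicalSpace.IrreducibleCloseds ((⊥ : Closeds X) : Set X)) :=
        ⟨fun Z => let ⟨z, _⟩ := Z.isIrreducible'.1; z.2⟩
      rw [Order.krullDim_eq_bot]
      exact WithBot.bot_lt_coe _)
  exact Module.finrank_zero_of_subsingleton

variable [IsIntegral X]
variable (hX : topologicalKrullDim X = ((2 : ℕ) : WithBot ℕ∞))
  (hreg : ∀ x : X, IsRegularLocalRing (X.presheaf.stalk x))

include k hX hreg

/-- The curves of a divisor cover it. -/
theorem exists_crv_through {Z : X.IdealSheafData} (hZ : BlowUp.IsEffCartierIdeal Z) {x : X}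
    (hx : x ∈ (Z.support : Set X)) :
    ∃ C : X.IdealSheafData, IsCrv C ∧ Z ≤ C ∧ x ∈ (C.support : Set X) := by
  have hZ0 : Z ≠ ⊤ := fun e => by
    rw [e, Scheme.IdealSheafData.support_top] at hx
    exact hx
  refine cycle_rec k hX hreg (P := fun W _ => x ∈ (W.support : Set X) →
    ∃ C : X.IdealSheafData, IsCrv C ∧ W ≤ C ∧ x ∈ (C.support : Set X))
    (fun W C hW hC _ _ h1 h2 hxW => ?_) hZ hZ0 (fun C hC hCc _ hxC => ⟨C, hCc, le_rfl, hxC⟩) hx
  rw [Scheme.IdealSheafData.support_mul] at hxW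
  rcases hxW with h | h
  · obtain ⟨D, hD, hle, hxD⟩ := h1 h
    exact ⟨D, hD, (mul_le_fst W C).trans hle, hxD⟩
  · obtain ⟨D, hD, hle, hxD⟩ := h2 h
    exact ⟨D, hD, (mul_le_snd W C).trans hle, hxD⟩

/-- A positive intersection comes from a curve. -/
theorem exists_crv_pos (a : InvCl X) {R : X.IdealSheafData} (hR : BlowUp.IsEffCartierIdeal R)
    (hR0 : R ≠ ⊤) (hpos : 0 < B k a (clI' R hR)) :
    ∃ (C : X.IdealSheafData) (hC : BlowUp.IsEffCartierIdeal C), IsCrv C ∧ R ≤ C ∧
      0 < B k a (clI' C hC) := by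
  by_contra hcon
  push Not at hcon
  have h := cycle_rec k hX hreg (P := fun W hW => B k a (clI' W hW) ≤ 0)
    (fun W C hW hC _ _ h1 h2 => by rw [clI'_mul W C hW hC, B_mul_right k hX.le]; omega) hR hR0
    (fun C hC hCc hle => hcon C hC hCc hle)
  omega

variable [IsAlgClosed k]

/-- No sections of the twist of the complement of a subdivisor of a numerically connected cycle. -/
theorem h0_complement_eq_zero {Z : X.IdealSheafData} {l : InvCl X}
    (hstep : ∀ A R (hA : BlowUp.IsEffCartierIdeal A), BlowUp.IsEffCartierIdeal R → A ≠ ⊤ → R ≠ ⊤ →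
      Z = A * R → ∃ (C : X.IdealSheafData) (hC : BlowUp.IsEffCartierIdeal C), IsCrv C ∧ R ≤ C ∧
        0 < B k (clI' A hA) (clI' C hC))
    (hdeg : ∀ C, IsCrv C → Z ≤ C → deg k (ClSub.quotMod C) l ≤ 0)
    {R : X.IdealSheafData} (hR : BlowUp.IsEffCartierIdeal R) :
    ∀ (A : X.IdealSheafData) (hA : BlowUp.IsEffCartierIdeal A), A ≠ ⊤ → Z = A * R →
      ∀ (M : X.Modules) (hM : PicF.IsInvertible M), InvCl.mk M hM = clI' A hA * l →
        Module.finrank k (Coh.HH X (CohB1.tensorMod (ClSub.quotMod R) M) 0) = 0 := by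
  haveI := isNoetherian_of_proper (X := X) k
  haveI := H8Top.wellFoundedGT_idealSheafData X
  induction R using WellFoundedGT.induction with
  | ind R ih =>
    intro A hA hA0 e M hM hMl
    by_cases hR0 : R = ⊤
    · subst hR0
      exact h0_quotMod_top_twist k hM
    obtain ⟨C, hC, hCc, hle, hpos⟩ := hstep A R hA hR hA0 hR0 e
    obtain ⟨R', hR'⟩ := ModPairLib.exists_mul_eq hC hle
    have hR'c : BlowUp.IsEffCartierIdeal R' := ModPairLib.isEffCartier_of_mul (hR'.symm ▸ hR) hC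
    have hlt : R < R' := lt_of_le_of_ne (hR' ▸ mul_le_fst R' C) fun h =>
      hCc.ne_top (ModPairLib.eq_top_of_mul_eq hR'c (by rw [mul_comm, hR', h]))
    have hAC := ModPairLib.isEffCartier_mul hA hC
    have hIC := FlatMor12.IdealModGen.isInvertible_idealMod C hC
    have hM' := isInvertible_tensorMod hIC hM
    have hAC0 : A * C ≠ ⊤ := fun h => hCc.ne_top (top_le_iff.1 (h ▸ mul_le_snd A C))
    have h1 := ih R' hlt hR'c (A * C) hAC hAC0 (by rw [e, ← hR', mul_comm R' C, mul_assoc])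
      (CohB1.tensorMod (ClSub.idealMod C) M) hM'
      (by rw [← InvCl.mk_mul hIC hM, hMl, clI'_mul A C hA hC, mul_comm (clI' A hA) (clI' C hC), mul_assoc]; rfl)
    haveI := hCc.1
    have h2 := (curve_facts k C hCc.2 hM).2.2.1 (by
      rw [hMl, deg_quotMod k hC, B_mul_right k hX.le, B_comm k]
      have := hdeg C hCc ((e ▸ mul_le_snd A R).trans hle)
      rw [deg_quotMod k hC] at this
      omega)
    have h := (h0_ses_twist k hC hR'c hM).2
    rw [mul_comm C R', hR', h1, h2] at h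
    omega

/-- On a numerically connected cycle a line bundle of nonpositive degrees has at most one section, and
such a section vanishes nowhere. -/
theorem h0_le_one_and_iso {Z : X.IdealSheafData} (hZ : BlowUp.IsEffCartierIdeal Z) (hZ0 : Z ≠ ⊤)
    {L : X.Modules} (hL : PicF.IsInvertible L)
    (hstep : ∀ A R (hA : BlowUp.IsEffCartierIdeal A), BlowUp.IsEffCartierIdeal R → A ≠ ⊤ → R ≠ ⊤ →
      Z = A * R → ∃ (C : X.IdealSheafData) (hC : BlowUp.IsEffCartierIdeal C), IsCrv C ∧ R ≤ C ∧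
        0 < B k (clI' A hA) (clI' C hC))
    (hdeg : ∀ C, IsCrv C → Z ≤ C → deg k (ClSub.quotMod C) (InvCl.mk L hL) ≤ 0) :
    Module.finrank k (Coh.HH X (CohB1.tensorMod (ClSub.quotMod Z) L) 0) ≤ 1 ∧
      (Module.finrank k (Coh.HH X (CohB1.tensorMod (ClSub.quotMod Z) L) 0) = 1 →
        Nonempty (CohB1.tensorMod (ClSub.quotMod Z) L ≅ ClSub.quotMod Z)) := by
  haveI := isNoetherian_of_proper (X := X) k
  have split : ∀ C, IsCrv C → Z ≤ C → ∃ (S : ShortComplex X.Modules), S.ShortExact ∧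
      Module.finrank k (Coh.HH X S.X₁ 0) = 0 ∧ Coh.IsCoh S.X₁ ∧
      Nonempty (S.X₂ ≅ CohB1.tensorMod (ClSub.quotMod Z) L) ∧
      Nonempty (S.X₃ ≅ CohB1.tensorMod (ClSub.quotMod C) L) ∧
      Module.finrank k (Coh.HH X S.X₂ 0) ≤ Module.finrank k (Coh.HH X S.X₃ 0) := by
    intro C hCc hle
    have hC := hCc.isEffCartier k hX hreg
    obtain ⟨R, hR⟩ := ModPairLib.exists_mul_eq hC hle
    have hRc : BlowUp.IsEffCartierIdeal R := ModPairLib.isEffCartier_of_mul (hR.symm ▸ hZ) hC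
    have hIC := FlatMor12.IdealModGen.isInvertible_idealMod C hC
    obtain ⟨S, hS, h1, h2, h3, ⟨e1⟩, ⟨e2⟩, ⟨e3⟩⟩ := exists_ses_twist k hC hRc hL
    have hz := h0_complement_eq_zero k hX hreg hstep hdeg hRc C hC hCc.ne_top (by rw [mul_comm, hR])
      (CohB1.tensorMod (ClSub.idealMod C) L) (isInvertible_tensorMod hIC hL)
      ((InvCl.mk_mul hIC hL).symm)
    rw [← finrank_HH_congr k e1 0] at hz
    refine ⟨S, hS, hz, h1, ⟨e2 ≪≫ eqToIso (by rw [mul_comm, hR])⟩, ⟨e3⟩, ?_⟩
    have := (h0_le k hS h1 h2 h3).2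
    omega
  refine ⟨?_, fun h1 => ?_⟩
  · obtain ⟨x, hx⟩ := support_nonempty hZ0
    obtain ⟨C, hCc, hle, -⟩ := exists_crv_through k hX hreg hZ hx
    obtain ⟨S, -, -, -, ⟨e2⟩, ⟨e3⟩, h⟩ := split C hCc hle
    rw [finrank_HH_congr k e2 0, finrank_HH_congr k e3 0] at h
    haveI := hCc.1
    exact h.trans ((curve_facts k C hCc.2 hL).2.2.2.1 (hdeg C hCc hle)).1
  obtain ⟨eZ⟩ := exists_restrict_iso Z hL
  let i := Z.subschemeι
  let L' := (Scheme.Modules.pullback i).obj L
  have hL' : PicF.IsInvertible L' := PicLoc.isInvertible_pullback i hL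
  haveI hntZ : Nontrivial (Coh.HH X (CohB1.tensorMod (ClSub.quotMod Z) L) 0) :=
    Module.nontrivial_of_finrank_pos (R := k) (by omega)
  obtain ⟨s, hs⟩ := exists_ne_zero_of_nontrivial k (L := CohB1.tensorMod (ClSub.quotMod Z) L) hntZ
  let s' : Γ(L', i ⁻¹ᵁ ⊤) := eZ.hom.app ⊤ s
  have hglo : glocus L' s' = ⊤ := by
    refine eq_top_iff.2 fun d _ => ?_
    obtain ⟨C, hCc, hle, hdC⟩ := exists_crv_through k hX hreg hZ (x := i d)
      (Z.range_subschemeι.le ⟨d, rfl⟩)
    obtain ⟨S, hS, hz, h1S, ⟨e2⟩, ⟨e3⟩, hle2⟩ := split C hCc hle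
    haveI := hCc.1
    have hne3 : Module.finrank k (Coh.HH X (CohB1.tensorMod (ClSub.quotMod C) L) 0) ≠ 0 := by
      rw [finrank_HH_congr k e2 0, finrank_HH_congr k e3 0, h1] at hle2
      omega
    obtain ⟨u⟩ := ((curve_facts k C hCc.2 hL).2.2.2.1 (hdeg C hCc hle)).2 hne3
    let q : (Coh.push i).obj L' ⟶ ClSub.quotMod C := eZ.inv ≫ e2.inv ≫ S.g ≫ e3.hom ≫ u.hom
    let s₂ : Γ(S.X₂, ⊤) := e2.inv.app ⊤ s
    have hs₂ : s₂ ≠ 0 := fun h => hs (by
      have h' : e2.hom.app ⊤ s₂ = s := congrArg (fun φ => φ.app ⊤ s) e2.inv_hom_id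
      rw [← h', h, map_zero])
    have hσ : S.g.app ⊤ s₂ ≠ 0 := by
      intro h0
      have hz0 : unitDesc S.X₂ s₂ ≫ S.g = 0 := by
        rw [← unitDesc_unitVal (unitDesc S.X₂ s₂ ≫ S.g),
          ← unitDesc_unitVal (0 : Coh.structureModule X ⟶ S.X₃)]
        refine congrArg (unitDesc S.X₃) ?_
        show S.g.app ⊤ (unitVal (unitDesc S.X₂ s₂) ⊤) = _
        rw [unitVal_unitDesc, resM_self, h0]
        rfl
      haveI := hS.mono_f
      have hl := hS.exact.lift_f (unitDesc S.X₂ s₂) hz0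
      haveI hsub : Subsingleton Γ(S.X₁, ⊤) := by
        haveI : Subsingleton (Coh.HH X S.X₁ 0) := by
          haveI := finite_HH_of_isCoh k h1S 0
          exact Module.finrank_zero_iff.1 hz
        haveI := (hhZero k S.X₁).symm.toEquiv.subsingleton
        exact ‹Subsingleton (GA (baseHom k X) S.X₁)›
      refine hs₂ ?_
      have hv := congrArg (fun φ => unitVal φ (⊤ : X.Opens)) hl
      simp only [unitVal_unitDesc, resM_self] at hv
      rw [← hv]
      show S.f.app ⊤ (unitVal (hS.exact.lift (unitDesc S.X₂ s₂) hz0) ⊤) = 0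
      rw [Subsingleton.elim (α := Γ(S.X₁, ⊤)) (unitVal _ _) 0, map_zero]
    let σ : Γ(C.subscheme, C.subschemeι ⁻¹ᵁ ⊤) := q.app ⊤ s'
    have hσ0 : σ ≠ 0 := by
      intro h0
      refine hσ ?_
      have h2 : eZ.inv.app ⊤ (eZ.hom.app ⊤ s) = s := congrArg (fun φ => φ.app ⊤ s) eZ.hom_inv_id
      have h3 : (e3 ≪≫ u).hom.app ⊤ (S.g.app ⊤ s₂) = 0 := by
        rw [← show σ = (e3 ≪≫ u).hom.app ⊤ (S.g.app ⊤ s₂) from
          congrArg (fun z => (e3 ≪≫ u).hom.app ⊤ (S.g.app ⊤ (e2.inv.app ⊤ z))) h2, h0]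
        rfl
      have h4 : (e3 ≪≫ u).inv.app ⊤ ((e3 ≪≫ u).hom.app ⊤ (S.g.app ⊤ s₂)) = S.g.app ⊤ s₂ :=
        congrArg (fun φ => φ.app ⊤ (S.g.app ⊤ s₂)) (e3 ≪≫ u).hom_inv_id
      rw [← h4, h3, map_zero]
    have hσu : IsUnit σ := by
      letI : C.subscheme.Over (Spec (CommRingCat.of k)) := ⟨C.subschemeι ≫ (X ↘ Spec (CommRingCat.of k))⟩
      haveI : IsProper (C.subscheme ↘ Spec (CommRingCat.of k)) :=
        inferInstanceAs (IsProper (C.subschemeι ≫ (X ↘ Spec (CommRingCat.of k))))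
      obtain ⟨z, hz'⟩ := AbSchLib.surjective_appTop_of_isAlgClosed k (C.subscheme ↘ Spec (CommRingCat.of k))
        (show Γ(C.subscheme, ⊤) from σ)
      obtain ⟨c, rfl⟩ := (ConcreteCategory.bijective_of_isIso (Scheme.ΓSpecIso (CommRingCat.of k)).inv).2 z
      have hc : c ≠ 0 := fun h => hσ0 (by
        rw [h, map_zero, map_zero] at hz'
        exact hz'.symm)
      exact hz' ▸ ((isUnit_iff_ne_zero.2 hc).map _).map _
    -- a zero of the section would be a zero of the unit `σ`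
    obtain ⟨W, hdW, g, hg⟩ := exists_isGen hL' d
    obtain ⟨O, hO, hOW⟩ := i.isClosedEmbedding.isInducing.isOpen_iff.1 W.isOpen
    obtain ⟨_, ⟨V, hV, rfl⟩, hdV, hVO⟩ := X.isBasis_affineOpens.exists_subset_of_mem_open
      (show i d ∈ O by rw [← Set.mem_preimage, hOW]; exact hdW) hO
    have hVW : i ⁻¹ᵁ V ≤ W := fun y hy => by
      have : y ∈ i ⁻¹' O := hVO hy
      rw [hOW] at this
      exact this
    have hgV := hg.restrict hVW
    obtain ⟨a, ha⟩ := Z.subschemeι_app_surjective ⟨V, hV⟩ (hgV.coef le_rfl (resM L' le_top s'))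
    have hloc := glocus_inf (L := L') s' hgV
    by_contra hd
    have hda : i d ∉ X.basicOpen a := fun h => hd (by
      have h' : d ∈ i ⁻¹ᵁ X.basicOpen a := h
      rw [Scheme.preimage_basicOpen, ha] at h'
      exact (hloc.ge h').1)
    obtain ⟨c, hc⟩ := C.range_subschemeι.ge hdC
    let j := C.subschemeι
    let gV : Γ((Coh.push i).obj L', V) := resM L' hVW g
    have hspec : resM ((Coh.push i).obj L') le_top (show Γ((Coh.push i).obj L', ⊤) from s') = a • gV := by
      have h5 := hgV.coef_spec le_rfl (resM L' le_top s')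
      rw [resM_self, ← ha] at h5
      exact h5.symm
    have h6 : resM (ClSub.quotMod C) (le_top : V ≤ ⊤) (show Γ(ClSub.quotMod C, ⊤) from σ) = a • q.app V gV := by
      rw [← Scheme.Modules.Hom.app_smul, ← hspec, app_resM]
    have h7 : C.subscheme.presheaf.map (homOfLE (show j ⁻¹ᵁ V ≤ j ⁻¹ᵁ ⊤ from le_top)).op σ =
        j.app V a * (show Γ(C.subscheme, j ⁻¹ᵁ V) from q.app V gV) := h6
    have hau : IsUnit (j.app V a) :=
      isUnit_of_mul_isUnit_left (h7 ▸ (hσu.map (C.subscheme.presheaf.map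
        (homOfLE (show j ⁻¹ᵁ V ≤ j ⁻¹ᵁ ⊤ from le_top)).op).hom))
    have hcV : c ∈ j ⁻¹ᵁ V := by
      show j c ∈ V
      rw [hc]
      exact hdV
    have hcb : c ∈ C.subscheme.basicOpen (j.app V a) :=
      (C.subscheme.basicOpen_of_isUnit hau).ge hcV
    rw [← Scheme.preimage_basicOpen] at hcb
    exact hda (hc ▸ hcb)
  obtain ⟨v⟩ := nonempty_iso_of_glocus_eq_top (L := L') hglo
  exact ⟨eZ ≪≫ (Coh.push i).mapIso v⟩

end Groth.Agent.Surf15
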