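import Groth.Agent.Surf15.Config
import Groth.Agent.Surf15.Inverse

/-!
# Surf15: integral positivity on surfaces: growth of sections, nef classes, orthogonal classes
-/

set_option autoImplicit false
set_option linter.style.haveILetI false
set_option backward.isDefEq.respectTransparency.types false

universe u

open CategoryTheory CategoryTheory.Limits AlgebraicGeometry Opposite TopologicalSpace
open Groth.Agent.Coherent Groth.Agent.PicLib Groth.Agent.AmpleLib Groth.Agent.EulerLib
open Groth.Agent.DimLib Groth.Agent.AssSch12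

namespace Groth.Agent.Surf15

variable {X : Scheme.{u}} (k : Type u) [Field k] [X.Over (Spec (CommRingCat.of k))]
  [IsProper (X ↘ Spec (CommRingCat.of k))] [IsIntegral X]

include k in
/-- Quadratic growth of sections of classes of positive square on the ample side. -/
theorem exists_growth (hX : topologicalKrullDim X = ((2 : ℕ) : WithBot ℕ∞)) {H : X.Modules}
    (hH : CohB1.IsAmple H) {L : X.Modules} (hL : PicF.IsInvertible L)
    (hLL : 0 < B k (InvCl.mk L hL) (InvCl.mk L hL))
    (hLH : 0 < B k (InvCl.mk H hH.1) (InvCl.mk L hL)) :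
    ∃ c : ℚ, 0 < c ∧ ∃ m₀ : ℕ, ∀ m : ℕ, m₀ ≤ m →
      c * (m : ℚ) ^ 2 < (Module.finrank k (Coh.HH X (CohB1.tensorPow L m) 0) : ℚ) := by
  haveI := isNoetherian_of_proper (X := X) k
  haveI := isSeparated_of_proper (X := X) k
  obtain ⟨n₀, hn₀⟩ := exists_h2_bound k hX hH
  set a := InvCl.mk L hL
  set χ := chiCl k (Coh.structureModule X)
  let c := 2 * (χ a - χ 1) - B k a a
  refine ⟨(B k a a : ℚ) / 4, div_pos (by exact_mod_cast hLL) (by norm_num),
    n₀.toNat + 2 * c.natAbs + 4 * (χ 1).natAbs + 3, fun m hm => ?_⟩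
  have hP := isInvertible_tensorPow hL m
  have h2 : Subsingleton (Coh.HH X (CohB1.tensorPow L m) 2) := hn₀ _ hP (by
    rw [InvCl.mk_tensorPow hL, B_pow_right k hX.le]
    have : (n₀ : ℤ) < m := by omega
    nlinarith)
  haveI := isQCoh_of_isInvertible hP
  have hv : ∀ q, 2 < q → Subsingleton (Coh.HH X (CohB1.tensorPow L m) q) := fun q hq =>
    subsingleton_HH_of_dim (CohB1.tensorPow L m) hX.le hq
  have he : χ (a ^ m) ≤ (Module.finrank k (Coh.HH X (CohB1.tensorPow L m) 0) : ℤ) := by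
    show chiCl k (Coh.structureModule X) (a ^ m) ≤ _
    rw [← InvCl.mk_tensorPow hL, ← euler_eq_chiCl k hX.le hP, euler_eq_sum k X _ 2 hv]
    haveI := h2
    simp [Finset.sum_range_succ, Module.finrank_zero_of_subsingleton (M := Coh.HH X (CohB1.tensorPow L m) 2)]
  have hcm : -(c.natAbs : ℤ) ≤ c := by omega
  have h1 : -((χ 1).natAbs : ℤ) ≤ χ 1 := by omega
  have hmm : (2 : ℤ) * c.natAbs + 4 * (χ 1).natAbs + 3 ≤ m := by omega
  have hp := chi_pow k hX.le a m
  have key : (m * m : ℤ) * B k a a < 4 * χ (a ^ m) := by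
    nlinarith [mul_le_mul_of_nonneg_left (show (1 : ℤ) ≤ B k a a by omega) (show (0 : ℤ) ≤ m * m by positivity)]
  rw [div_mul_eq_mul_div, div_lt_iff₀ (by norm_num : (0 : ℚ) < 4)]
  have key' : ((m * m : ℤ) * B k a a : ℚ) <
      (4 * (Module.finrank k (Coh.HH X (CohB1.tensorPow L m) 0) : ℤ) : ℚ) := by
    have h4 : (m * m : ℤ) * B k a a < 4 * (Module.finrank k (Coh.HH X (CohB1.tensorPow L m) 0) : ℤ) := by linarith
    exact_mod_cast h4
  push_cast at key'
  linarith

include k in
/-- Nonnegative on curves implies nonnegative on effective classes. -/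
theorem deg_eff_nonneg (hX : topologicalKrullDim X = ((2 : ℕ) : WithBot ℕ∞)) {a : InvCl X}
    (ha : ∀ y : X, topologicalKrullDim (closure {y} : Set X) = ((1 : ℕ) : WithBot ℕ∞) → 0 ≤ deg k (clM y) a)
    {L : X.Modules} (hL : PicF.IsInvertible L) {s : Γ(L, ⊤)} (hs : s ≠ 0) :
    0 ≤ B k (InvCl.mk L hL) a := by
  obtain ⟨S, -, -, -, hQ, -, hd, hdeg⟩ := exists_cut k hX.le hL hs
  rw [← hdeg]
  exact deg_nonneg_of_components k hQ hd a fun y _ => ha y

include k in
/-- **Nef classes have nonnegative square**, integral form. -/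
theorem B_nef_self_nonneg (hX : topologicalKrullDim X = ((2 : ℕ) : WithBot ℕ∞)) {H : X.Modules}
    (hH : CohB1.IsAmple H) {a : InvCl X}
    (ha : ∀ y : X, topologicalKrullDim (closure {y} : Set X) = ((1 : ℕ) : WithBot ℕ∞) → 0 ≤ deg k (clM y) a) :
    0 ≤ B k a a := by
  haveI := isNoetherian_of_proper (X := X) k
  set h := InvCl.mk H hH.1
  have hc : 0 < B k h h := B_ample_pos k hX hH hH
  -- nef classes are nonnegative on classes of positive square
  have hpos : ∀ e : InvCl X, 0 < B k e e → 0 < B k e h → 0 ≤ B k e a := by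
    intro e he heh
    obtain ⟨L, hL, rfl⟩ := InvCl.exists_rep e
    obtain ⟨N, hN⟩ := exists_sec_pow k hX hH hL he (by rwa [B_comm k])
    obtain ⟨s, hs⟩ := CurveRR24.exists_ne_zero_of_nontrivial k (hN _ N.le_succ)
    have := deg_eff_nonneg k hX ha (isInvertible_tensorPow hL (N + 1)) hs
    rw [InvCl.mk_tensorPow hL, B_pow_left k hX.le] at this
    exact nonneg_of_mul_nonneg_right this (by positivity)
  have hah : 0 ≤ B k a h := by rw [B_comm k]; exact hpos h hc hc
  by_contra hneg
  push Not at hneg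
  obtain ⟨p, q, hp, hq, h1, h2⟩ : ∃ p q : ℕ, 0 < p ∧ 0 < q ∧
      (p : ℤ) * B k a a + q * B k a h < 0 ∧
      0 < (p * p : ℤ) * B k a a + 2 * (p * q) * B k a h + (q * q) * B k h h := by
    obtain ⟨u, hu⟩ : ∃ u : ℕ, (u : ℤ) = - B k a a := ⟨_, Int.toNat_of_nonneg (by omega)⟩
    rcases hah.eq_or_lt with h0 | h0
    · refine ⟨1, u + 1, one_pos, Nat.succ_pos u, ?_, ?_⟩ <;> push_cast <;> rw [← h0] <;> nlinarith
    · obtain ⟨v, hv⟩ : ∃ v : ℕ, (v : ℤ) = B k a h := ⟨_, Int.toNat_of_nonneg hah⟩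
      refine ⟨4 * v, 3 * u, by omega, by omega, ?_, ?_⟩ <;> push_cast
      · nlinarith
      · rw [← hv, show B k a a = -(u : ℤ) by omega]
        nlinarith [mul_pos (mul_pos (show (0 : ℤ) < v by omega) (show (0 : ℤ) < v by omega)) (show (0 : ℤ) < u by omega),
          mul_nonneg (mul_self_nonneg (u : ℤ)) hc.le]
  have hee : 0 < B k (a ^ p * h ^ q) (a ^ p * h ^ q) := by
    simp only [B_mul_left k hX.le, B_mul_right k hX.le, B_pow_left k hX.le, B_pow_right k hX.le, B_comm k h a]
    linarith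
  have heh : 0 < B k (a ^ p * h ^ q) h := by
    simp only [B_mul_left k hX.le, B_pow_left k hX.le]
    have := mul_pos (show (0 : ℤ) < q by omega) hc
    have := mul_nonneg (show (0 : ℤ) ≤ p by omega) hah
    linarith
  have := hpos _ hee heh
  simp only [B_mul_left k hX.le, B_pow_left k hX.le, B_comm k h a] at this
  linarith

include k in
/-- A nef class orthogonal to a class of positive square is numerically trivial. -/
theorem B_eq_zero_of_nef_orth (hX : topologicalKrullDim X = ((2 : ℕ) : WithBot ℕ∞)) {H : X.Modules}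
    (hH : CohB1.IsAmple H) {d a : InvCl X} (hd : 0 < B k d d) (hda : B k d a = 0)
    (ha : ∀ y : X, topologicalKrullDim (closure {y} : Set X) = ((1 : ℕ) : WithBot ℕ∞) → 0 ≤ deg k (clM y) a)
    (c : InvCl X) : B k a c = 0 := by
  have haa : B k a a = 0 := le_antisymm (B_index k hX hH hd hda) (B_nef_self_nonneg k hX hH ha)
  obtain ⟨c₁, hc₁⟩ := exists_zcomb k hX.le c (B k d d)
  obtain ⟨c₂, hc₂⟩ := exists_zcomb k hX.le d (-B k d c)
  have hdc : B k d (c₁ * c₂) = 0 := by
    rw [B_mul_right k hX.le, B_comm k d c₁, B_comm k d c₂, hc₁, hc₂, B_comm k c d]; ring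
  have hac : B k a (c₁ * c₂) = B k d d * B k a c := by
    rw [B_mul_right k hX.le, B_comm k a c₁, B_comm k a c₂, hc₁, hc₂, hda, B_comm k c a]; ring
  have key : ∀ m : ℤ, 2 * m * (B k d d * B k a c) + B k (c₁ * c₂) (c₁ * c₂) ≤ 0 := by
    intro m
    obtain ⟨am, hm⟩ := exists_zcomb k hX.le a m
    have := B_index k hX hH hd (b := am * (c₁ * c₂)) (by
      rw [B_mul_right k hX.le, hdc, B_comm k d am, hm, B_comm k a d, hda]; ring)
    rw [B_mul_left k hX.le, B_mul_right k hX.le am am, B_mul_right k hX.le (c₁ * c₂) am, hm, hm,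
      B_comm k a am, hm, B_comm k (c₁ * c₂) am, hm, haa, hac] at this
    linarith
  by_contra hne
  have hz : B k d d * B k a c ≠ 0 := mul_ne_zero hd.ne' hne
  have := key ((B k d d * B k a c) * (1 + (B k (c₁ * c₂) (c₁ * c₂)).natAbs))
  have h1 : (1 : ℤ) ≤ (B k d d * B k a c) * (B k d d * B k a c) := Int.add_one_le_iff.2 (mul_self_pos.2 hz)
  nlinarith [abs_nonneg (B k (c₁ * c₂) (c₁ * c₂)), neg_abs_le (B k (c₁ * c₂) (c₁ * c₂)),
    Int.natCast_natAbs (B k (c₁ * c₂) (c₁ * c₂))]

include k in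
/-- A nef and big class orthogonal to exactly a negative definite configuration of curves. -/
theorem exists_orth_exactly (hX : topologicalKrullDim X = ((2 : ℕ) : WithBot ℕ∞)) {H : X.Modules}
    (hH : CohB1.IsAmple H) {r : ℕ} (C : Fin r → X.IdealSheafData) (hC : Function.Injective C)
    (hCi : ∀ i, IsIntegral (C i).subscheme)
    (hCd : ∀ i, topologicalKrullDim ((C i).support : Set X) = ((1 : ℕ) : WithBot ℕ∞))
    (hCe : ∀ i, BlowUp.IsEffCartierIdeal (C i))
    (hneg : ∀ a : Fin r → ℤ, a ≠ 0 →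
      ∑ i, ∑ j, a i * a j * B k (clI' (C i) (hCe i)) (clI' (C j) (hCe j)) < 0) :
    ∃ x : InvCl X, 0 < B k x x ∧ ∀ (D : X.IdealSheafData) (hDi : IsIntegral D.subscheme)
      (hDd : topologicalKrullDim (D.support : Set X) = ((1 : ℕ) : WithBot ℕ∞))
      (hDe : BlowUp.IsEffCartierIdeal D),
        B k x (clI' D hDe) ≤ 0 ∧ (B k x (clI' D hDe) = 0 ↔ ∃ i, D = C i) := by
  classical
  let G : Matrix (Fin r) (Fin r) ℤ := fun i j => B k (clI' (C i) (hCe i)) (clI' (C j) (hCe j))
  have hdet : G.det ≠ 0 := by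
    intro h0
    obtain ⟨v, hv, hv0⟩ := Matrix.exists_vecMul_eq_zero_iff.2 h0
    refine (hneg v hv).ne ?_
    rw [Finset.sum_comm]
    refine Finset.sum_eq_zero fun j _ => ?_
    have : ∑ i, v i * G i j = 0 := congrFun hv0 j
    calc ∑ i, v i * v j * G i j = v j * ∑ i, v i * G i j := by
          rw [Finset.mul_sum]; exact Finset.sum_congr rfl fun i _ => by ring
      _ = 0 := by rw [this, mul_zero]
  set h := InvCl.mk H hH.1
  let b : Fin r → ℤ := fun j => B k h (clI' (C j) (hCe j))
  have hb : ∀ j, b j < 0 := fun j => by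
    haveI := hCi j
    show B k _ _ < 0
    rw [B_comm k]
    exact B_curve_ample_neg k (C j) (hCd j) (hCe j) hH
  let D₀ : ℤ := G.det * G.det
  have hD : 0 < D₀ := mul_self_pos.2 hdet
  let s : Fin r → ℤ := G.det • Matrix.vecMul b G.adjugate
  have hs : ∀ j, ∑ i, s i * G i j = D₀ * b j := by
    intro j
    have e : Matrix.vecMul s G = D₀ • b := by
      rw [show s = G.det • Matrix.vecMul b G.adjugate from rfl, Matrix.smul_vecMul, Matrix.vecMul_vecMul,
        Matrix.adjugate_mul, Matrix.vecMul_smul, Matrix.vecMul_one, smul_smul]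
    exact congrFun e j
  have hs0 : ∀ i, 0 ≤ s i := by
    refine neg_part_spec k hX.le C hC hCi hCd hCe hneg s (Finset.sum_nonpos fun j _ => ?_)
    show max (-s j) 0 * ∑ i, s i * G i j ≤ 0
    rw [hs]
    exact mul_nonpos_of_nonneg_of_nonpos (le_max_right _ _) (mul_nonpos_of_nonneg_of_nonpos hD.le (hb j).le)
  obtain ⟨e, he⟩ := exists_comb k hX.le (fun i => clI' (C i) (hCe i)) (fun i => -s i)
  obtain ⟨g, hg⟩ := exists_zcomb k hX.le h D₀
  have hx : ∀ d, B k (g * e) d = D₀ * B k h d - ∑ i, s i * B k (clI' (C i) (hCe i)) d := fun d => by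
    rw [B_mul_left k hX.le, hg, he, sub_eq_add_neg, ← Finset.sum_neg_distrib]
    simp only [neg_mul]
  have hxC : ∀ j, B k (g * e) (clI' (C j) (hCe j)) = 0 := fun j => by
    rw [hx]; exact sub_eq_zero.2 (hs j).symm
  have hxh : 0 < B k (g * e) h := by
    rw [hx]
    have h1 : 0 < D₀ * B k h h := mul_pos hD (B_ample_pos k hX hH hH)
    have h2 : ∑ i, s i * B k (clI' (C i) (hCe i)) h ≤ 0 := Finset.sum_nonpos fun i _ => by
      haveI := hCi i
      exact mul_nonpos_of_nonneg_of_nonpos (hs0 i) (B_curve_ample_neg k (C i) (hCd i) (hCe i) hH).le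
    linarith
  refine ⟨g * e, ?_, fun D hDi hDd hDe => ?_⟩
  · rw [B_mul_right k hX.le, B_comm k _ g, hg, B_comm k _ e, he, B_comm k h]
    have : ∑ i, -s i * B k (clI' (C i) (hCe i)) (g * e) = 0 := Finset.sum_eq_zero fun i _ => by
      rw [B_comm k, hxC, mul_zero]
    rw [this, add_zero]
    exact mul_pos hD hxh
  · haveI := hDi
    by_cases hmem : ∃ i, D = C i
    · obtain ⟨i, rfl⟩ := hmem
      exact ⟨(hxC i).le, iff_of_true (hxC i) ⟨i, rfl⟩⟩
    · have hlt : B k (g * e) (clI' D hDe) < 0 := by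
        rw [hx]
        have h1 : D₀ * B k h (clI' D hDe) < 0 := by
          rw [B_comm k]
          exact mul_neg_of_pos_of_neg hD (B_curve_ample_neg k D hDd hDe hH)
        have h2 : 0 ≤ ∑ i, s i * B k (clI' (C i) (hCe i)) (clI' D hDe) := Finset.sum_nonneg fun i _ => by
          haveI := hCi i
          refine mul_nonneg (hs0 i) (B_clI'_nonneg k hX.le hDe (hCe i) (hCd i) fun hsub => hmem ⟨i, ?_⟩)
          rw [support_eq_closure_gen (C i), support_eq_closure_gen D] at hsub
          have hsp : SDiv28.CartierPart.gen D ⤳ SDiv28.CartierPart.gen (C i) :=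
            specializes_iff_mem_closure.2 (hsub (subset_closure rfl))
          have hp1 := ptDim_gen k (hCd i)
          have hp2 := ptDim_gen k hDd
          have heq := DimLib.eq_of_specializes_of_ptDim_le (X ↘ Spec (CommRingCat.of k)) hsp (by omega)
          rw [VarietyLib.eq_clI_of_isIntegral (C i), VarietyLib.eq_clI_of_isIntegral D]
          exact congrArg (AssSch12.clI) heq
        linarith
      exact ⟨hlt.le, iff_of_false hlt.ne hmem⟩

end Groth.Agent.Surf15
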