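import Groth.Agent.Surf15.Fibre
import Groth.Agent.Surf15.CycleSections
import Groth.Agent.Surf15.Positivity
import Groth.Agent.Surf15.Goodman
import Groth.Agent.Clifford24.IdealInv
import Groth.Agent.HTop16.PairSquare
import Groth.Agent.AbVarLib.HomFlat
import Groth.Agent.CAlgH3.RegularCore
import Groth.Agent.VarietyLib.SmoothStalk

/-!
# Surf15: fibres of a surface over a curve
-/

set_option autoImplicit false
set_option linter.style.haveILetI false
set_option backward.isDefEq.respectTransparency.types false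

universe u

open CategoryTheory CategoryTheory.Limits AlgebraicGeometry Opposite TopologicalSpace
open Groth.Agent.Coherent Groth.Agent.PicLib Groth.Agent.AmpleLib Groth.Agent.EulerLib
open Groth.Agent.CurveRR24 Groth.Agent.DimLib

namespace Groth.Agent.Surf15

variable (k : Type u) [Field k] {X : Scheme.{u}} [X.Over (Spec (CommRingCat.of k))]
  [IsProper (X ↘ Spec (CommRingCat.of k))] [IsIntegral X]
variable (hX : topologicalKrullDim X = ((2 : ℕ) : WithBot ℕ∞))
  (hreg : ∀ x : X, IsRegularLocalRing (X.presheaf.stalk x))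
variable {C : Scheme.{u}} [C.Over (Spec (CommRingCat.of k))] [IsProper (C ↘ Spec (CommRingCat.of k))]
  [Smooth (C ↘ Spec (CommRingCat.of k))] [IsIntegral C] (hdimC : topologicalKrullDim C = 1)
  (f : X ⟶ C) [Surjective f] {p : C} (hp : IsClosed ({p} : Set C))

include k hdimC hp in
omit [X.Over (Spec (CommRingCat.of k))] [IsProper (X ↘ Spec (CommRingCat.of k))] in
/-- A fibre over a closed point of a smooth curve is an effective Cartier divisor, the pull back of one. -/
theorem exists_fibreDiv : ∃ I : C.IdealSheafData, BlowUp.IsEffCartierIdeal I ∧ (f.fiberι p).ker = I.comap f ∧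
    BlowUp.IsEffCartierIdeal (f.fiberι p).ker ∧ ((f.fiberι p).ker.support : Set X) = f ⁻¹' {p} := by
  haveI := isNoetherian_of_proper (X := C) k
  haveI : IsClosedImmersion (C.fromSpecResidueField p) := isClosed_singleton_iff_isClosedImmersion.1 hp
  set I := (C.fromSpecResidueField p).ker
  have hIs : (I.support : Set C) = {p} := by
    rw [Scheme.Hom.support_ker, Scheme.range_fromSpecResidueField, hp.closure_eq]
  have hηp : genericPoint C ≠ p := fun h => CurvesLib24.not_isClosed_genericPoint hdimC (h ▸ hp)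
  have hn : ∀ x : C, IsIntegrallyClosed (C.presheaf.stalk x) := fun x => by
    haveI := VarietyLib.isRegularLocalRing_stalk_of_smooth k C (C ↘ Spec (CommRingCat.of k)) x
    exact CAlgH3.isIntegrallyClosed_of_regular _
  have hI : BlowUp.IsEffCartierIdeal I := Clifford24.isEffCartierIdeal_of_normal hdimC.le hn I (by
    rw [hIs]; exact hηp)
  have he : (f.fiberι p).ker = I.comap f := Scheme.IdealSheafData.ker_fst_of_isClosedImmersion _ f
  have hs : ((I.comap f).support : Set X) = f ⁻¹' {p} := by
    rw [Scheme.IdealSheafData.support_comap, TopologicalSpace.Closeds.coe_preimage, hIs]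
  refine ⟨I, hI, he, he ▸ isEffCartier_of_locPrincipal (fun x _ =>
    HTop16.PairSquare.isLocPrincipal_comap (I := I) (fun y => let ⟨U, h1, g, _, h2⟩ := hI y; ⟨U, h1, g, h2⟩) f x) ?_,
    he ▸ hs⟩
  rw [hs, Set.mem_preimage, Set.mem_singleton_iff, AbVarLib.map_genericPoint_of_surjective f]
  exact hηp

include k hX hreg hdimC hp

/-- A fibre meets every curve nonnegatively. -/
theorem B_fibre_nonneg (hF : BlowUp.IsEffCartierIdeal (f.fiberι p).ker) {D : X.IdealSheafData}
    (hDc : IsCrv D) :
    0 ≤ B k (clI' D (hDc.isEffCartier k hX hreg)) (clI' (f.fiberι p).ker hF) := by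
  obtain ⟨I, hI, he, -, hs⟩ := exists_fibreDiv k hdimC f hp
  by_cases hsub : (D.support : Set X) ⊆ f ⁻¹' {p}
  · rw [clI'_congr he hF (he ▸ hF),
      B_comap_eq_zero k hX f hI (he ▸ hF) (hDc.isEffCartier k hX hreg) hsub]
  · haveI := hDc.1
    exact B_clI'_nonneg k hX.le hF _ hDc.2 (hs ▸ hsub)

/-- A fibre has self-intersection zero. -/
theorem B_fibre_self (hF : BlowUp.IsEffCartierIdeal (f.fiberι p).ker) :
    B k (clI' (f.fiberι p).ker hF) (clI' (f.fiberι p).ker hF) = 0 := by
  obtain ⟨I, hI, he, -, hs⟩ := exists_fibreDiv k hdimC f hp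
  have hne : (f.fiberι p).ker ≠ ⊤ := fun e => by
    obtain ⟨x, hx⟩ := f.surjective p
    have : x ∈ ((f.fiberι p).ker.support : Set X) := by rw [hs]; exact hx
    rw [e, Scheme.IdealSheafData.support_top] at this
    exact this
  set φ := clI' (f.fiberι p).ker hF
  have hφ : φ = clI' (I.comap f) (he ▸ hF) := clI'_congr he hF _
  refine cycle_rec k hX hreg (P := fun W hW => B k (clI' W hW) φ = 0)
    (fun W D hW hD _ _ h1 h2 => by rw [clI'_mul W D hW hD, B_mul_left k hX.le, h1, h2, add_zero]) hF hne
    fun D hD _ hle => ?_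
  rw [hφ]
  exact B_comap_eq_zero k hX f hI _ hD (fun z hz => hs.le (Scheme.IdealSheafData.support_antitone hle hz))

end Groth.Agent.Surf15

namespace Groth.Agent.Surf15

variable (k : Type u) [Field k] {X : Scheme.{u}} [X.Over (Spec (CommRingCat.of k))]
  [IsProper (X ↘ Spec (CommRingCat.of k))] [IsIntegral X]
variable (hX : topologicalKrullDim X = ((2 : ℕ) : WithBot ℕ∞))
  (hreg : ∀ x : X, IsRegularLocalRing (X.presheaf.stalk x))

include k hX in
omit [X.Over (Spec (CommRingCat.of k))] [IsProper (X ↘ Spec (CommRingCat.of k))] in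
/-- An inverse of an ideal has the inverse class. -/
theorem mk_mul_clI'_eq_one {I : X.IdealSheafData} (hI : BlowUp.IsEffCartierIdeal I) {L : X.Modules}
    (hL : PicF.IsInvertible L) (h : ClSub.IsInverseOf L (ClSub.idealMod I)) :
    InvCl.mk L hL * clI' I hI = 1 := by
  obtain ⟨e⟩ := h
  exact InvCl.mk_eq _ _ e

include k hX hreg in
/-- A class nonpositive on every curve is nonpositive on every effective divisor. -/
theorem B_nonpos_of_crv {a : InvCl X}
    (h : ∀ (D : X.IdealSheafData) (hD : BlowUp.IsEffCartierIdeal D), IsCrv D → B k (clI' D hD) a ≤ 0)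
    {W : X.IdealSheafData} (hW : BlowUp.IsEffCartierIdeal W) : B k (clI' W hW) a ≤ 0 := by
  by_cases h0 : W = ⊤
  · subst h0
    have e : clI' (⊤ : X.IdealSheafData) hW * clI' ⊤ hW = clI' ⊤ hW := by
      rw [← clI'_mul ⊤ ⊤ hW hW]
      exact clI'_congr (by rw [← Scheme.IdealSheafData.one_eq_top, mul_one]) _ _
    have := B_mul_left k hX.le (clI' (⊤ : X.IdealSheafData) hW) (clI' ⊤ hW) a
    rw [e] at this
    omega
  exact cycle_rec k hX hreg (P := fun W hW => B k (clI' W hW) a ≤ 0)
    (fun W D hW hD _ _ h1 h2 => by rw [clI'_mul W D hW hD, B_mul_left k hX.le]; omega) hW h0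
    fun D hD hc _ => h D hD hc

include k hX hreg in
/-- A class nonpositive on every curve has nonnegative square. -/
theorem B_self_nonneg_of_crv {H : X.Modules} (hH : CohB1.IsAmple H) {a : InvCl X}
    (h : ∀ (D : X.IdealSheafData) (hD : BlowUp.IsEffCartierIdeal D), IsCrv D → B k (clI' D hD) a ≤ 0) :
    0 ≤ B k a a := by
  refine B_nef_self_nonneg k hX hH fun y hy => ?_
  have hc : IsCrv (AssSch12.clI y) := ⟨VarietyLib.isIntegral_clI y, by rw [VarietyLib.support_clI]; exact hy⟩
  have hE := hc.isEffCartier k hX hreg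
  rw [show AssSch12.clM y = ClSub.quotMod (AssSch12.clI y) from rfl, deg_quotMod k hE, neg_nonneg]
  exact h _ hE hc

end Groth.Agent.Surf15
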