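import Groth.Agent.PnEmb.Ample
import Groth.Agent.Inters29.Vertical
import Groth.Agent.Surf15.Fibre
import Groth.Agent.S14990
import Groth.Agent.SerreDual.Finite
import Groth.Agent.CurveRR24.Section

/-!
# Surf15: high twists by an ample module have smooth divisors
-/

set_option autoImplicit false
set_option linter.style.haveILetI false
set_option linter.unusedSectionVars false
set_option backward.isDefEq.respectTransparency.types false
set_option maxHeartbeats 1000000

universe u

open AlgebraicGeometry CategoryTheory CategoryTheory.Limits TopologicalSpace Opposite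
open Groth.Agent.Coherent Groth.Agent.PicLib Groth.Agent.AmpleLib Groth.Agent.PnEmb

namespace Groth.Agent.Surf15

variable {X S : Scheme.{u}} {L M : X.Modules} [IsAffine S]

/-- Sections of high twists whose quotients generate the functions of affine non-vanishing loci. -/
theorem eventually_sections_generate (q : X ⟶ S) [LocallyOfFiniteType q] (hL : CohB1.IsAmple L)
    (hM : PicF.IsInvertible M) :
    ∃ n₀ : ℕ, ∀ n : ℕ, n₀ ≤ n → ∃ (N' : ℕ) (σ : Fin (N' + 1) → Γ(CohB1.tensorMod (CohB1.tensorPow L n) M, ⊤)),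
      ∀ y : X, ∃ (j : Fin (N' + 1)) (W : X.Opens) (hz : IsGen (CohB1.tensorMod (CohB1.tensorPow L n) M) W (resM _ le_top (σ j))),
        y ∈ W ∧ IsAffineOpen W ∧ Subring.closure (Set.range (q.appLE ⊤ W le_top) ∪
          Set.range fun i => hz.coef le_rfl (resM _ le_top (σ i))) = ⊤ := by
  classical
  obtain ⟨hLi, hc, haff⟩ := isAmple_iff_affGlocus.1 hL
  have := quasiSeparatedSpace_of_affGlocus hLi haff
  have := hc
  have key : ∀ x : X, ∃ (W : X.Opens) (ν : ℕ) (f : Fin ν → Γ(X, W)) (N : ℕ), x ∈ W ∧ IsAffineOpen W ∧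
      Subring.closure (Set.range (q.appLE ⊤ W le_top) ∪ Set.range f) = ⊤ ∧
      ∀ n, N ≤ n → ∃ (v : Γ(CohB1.tensorMod (CohB1.tensorPow L n) M, ⊤))
        (u : Fin ν → Γ(CohB1.tensorMod (CohB1.tensorPow L n) M, ⊤)),
        glocus _ v = W ∧ ∀ i, resM _ (le_top : W ≤ ⊤) (u i) = f i • resM _ (le_top : W ≤ ⊤) v := by
    intro x
    obtain ⟨V₁, hxV₁, g, hg⟩ := exists_isGen hLi x
    obtain ⟨V₂, hxV₂, g', hg'⟩ := exists_isGen hM x
    obtain ⟨m, hm, b, hxb, hbV, hb⟩ := affGlocus_of_mem (x := x) (U := V₁ ⊓ V₂) hL ⟨hxV₁, hxV₂⟩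
    let A := glocus _ b
    obtain ⟨ν, f, hf⟩ := exists_ring_gens q hb
    have hP : ∀ j, PicF.IsInvertible (CohB1.tensorMod (CohB1.tensorPow L j) M) := fun j =>
      isInvertible_tensorMod (isInvertible_tensorPow hLi j) hM
    have hLm := isInvertible_tensorPow hLi m
    let w : ∀ j, Γ(CohB1.tensorMod (CohB1.tensorPow L j) M, A) := fun j =>
      tmul (powSec (resM L (hbV.trans inf_le_left) g) j) (resM M (hbV.trans inf_le_right) g')
    have hw : ∀ j, IsGen _ A (w j) := fun j => isGen_tmul (isGen_powSec (hg.restrict _) j) (hg'.restrict _)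
    let a : Option (Fin ν) → Γ(X, A) := fun o => o.elim 1 f
    have hext : ∀ (j : Fin m) (o : Option (Fin ν)), ∃ (k : ℕ)
        (t : Γ(CohB1.tensorMod (CohB1.tensorMod (CohB1.tensorPow L j) M) (CohB1.tensorPow (CohB1.tensorPow L m) k), ⊤)),
        resM _ (le_top : A ≤ ⊤) t = tmul (a o • w j) (powSec (resM (CohB1.tensorPow L m) le_top b) k) := fun j o => by
      have := isQCoh_of_isInvertible (hP j)
      exact exists_extend (CohB1.tensorMod (CohB1.tensorPow L j) M) b hLm (a o • w j)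
    choose k₀ t₀ ht₀ using hext
    let K := Finset.univ.sup fun p : Fin m × Option (Fin ν) => k₀ p.1 p.2
    refine ⟨A, ν, f, m * (K + 2), hxb, hb, hf, fun n hn => ?_⟩
    let j : Fin m := ⟨n % m, Nat.mod_lt _ hm⟩
    obtain ⟨k, hk⟩ : ∃ k, n / m = k + 1 := Nat.exists_eq_add_one.2 ((Nat.le_div_iff_mul_le hm).2 (by nlinarith))
    have hKk : K ≤ k := by
      have : K + 2 ≤ n / m := (Nat.le_div_iff_mul_le hm).2 (by rw [mul_comm]; exact hn)
      omega
    have hlift : ∀ (k' : ℕ), K ≤ k' → ∀ o, ∃ t, resM _ (le_top : A ≤ ⊤) t =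
        tmul (a o • w j) (powSec (resM (CohB1.tensorPow L m) le_top b) k') := fun k' hk' o =>
      exists_lift_pow hLm (hP j) b _ ((Finset.le_sup (f := fun p : Fin m × Option (Fin ν) => k₀ p.1 p.2)
        (Finset.mem_univ (j, o))).trans hk') (t₀ j o) (ht₀ j o)
    obtain ⟨φ⟩ := nonempty_twist_iso hLi hM (n % m) m (k + 1) n (by rw [← hk]; exact Nat.mod_add_div n m)
    obtain ⟨α, hα⟩ := exists_assocIso (hP j) (isInvertible_tensorPow hLm k) hLm
    obtain ⟨t', ht'⟩ := hlift k hKk none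
    choose t ht using fun i => hlift (k + 1) (by omega) (some i)
    let h := φ.hom.app A (tmul (w j) (powSec (resM (CohB1.tensorPow L m) le_top b) (k + 1)))
    have h1 : resM _ (le_top : A ≤ ⊤) (α.hom.app ⊤ (tmul t' b)) =
        tmul (w j) (powSec (resM (CohB1.tensorPow L m) le_top b) (k + 1)) := by
      rw [← app_resM, resM_tmul, ht']
      simp only [a, Option.elim, one_smul]
      exact hα _ _ _ _
    have hv : resM _ (le_top : A ≤ ⊤) (φ.hom.app ⊤ (α.hom.app ⊤ (tmul t' b))) = h :=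
      (app_resM φ.hom _ _).symm.trans (congrArg (φ.hom.app A) h1)
    refine ⟨φ.hom.app ⊤ (α.hom.app ⊤ (tmul t' b)), fun i => φ.hom.app ⊤ (t i), ?_, fun i => ?_⟩
    · refine (glocus_map_iso φ _).trans ((glocus_map_iso α _).trans ?_)
      rw [glocus_tmul (isInvertible_tensorMod (hP j) (isInvertible_tensorPow hLm k)) hLm, inf_eq_right,
        le_glocus_iff, ht']
      simp only [a, Option.elim, one_smul]
      exact isGen_tmul (hw j) (isGen_powSec (isGen_glocus b) k)
    · rw [hv, ← app_resM, ht i]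
      simp only [a, Option.elim]
      rw [tmul_smul_left]
      exact Scheme.Modules.Hom.app_smul _ _ _
  choose W ν f N hxW hW hgen hN using key
  obtain ⟨T, hT⟩ := isCompact_univ.elim_finite_subcover (fun x : X => (W x : Set X)) (fun x => (W x).2)
    fun x _ => Set.mem_iUnion.2 ⟨x, hxW x⟩
  refine ⟨T.sup N, fun n hn => ?_⟩
  choose v u hv hu using fun x : {x // x ∈ T} => hN x.1 n ((Finset.le_sup x.2).trans hn)
  let I := Option ((x : {x // x ∈ T}) × Option (Fin (ν x.1)))
  obtain ⟨N', hN'⟩ : ∃ N', Fintype.card I = N' + 1 := Nat.exists_eq_add_one.2 Fintype.card_pos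
  let e : I ≃ Fin (N' + 1) := (Fintype.equivFin I).trans (finCongr hN')
  let sec : I → Γ(CohB1.tensorMod (CohB1.tensorPow L n) M, ⊤) := fun o => o.elim 0 fun p => p.2.elim (v p.1) (u p.1)
  refine ⟨N', fun i => sec (e.symm i), fun y => ?_⟩
  obtain ⟨x₁, hxT, hyx⟩ := Set.mem_iUnion₂.1 (hT (Set.mem_univ y))
  let x : {x // x ∈ T} := ⟨x₁, hxT⟩
  have hs : sec (e.symm (e (some ⟨x, none⟩))) = v x := by simp [sec]
  have hgl : W x.1 = glocus _ (v x) := (hv x).symm
  have key : ∀ (z : Γ(CohB1.tensorMod (CohB1.tensorPow L n) M, ⊤)), z = v x → IsGen _ (W x.1) (resM _ le_top z) := by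
    rintro z rfl
    rw [hgl]
    exact isGen_glocus _
  refine ⟨e (some ⟨x, none⟩), W x.1, key _ hs, hyx, hW x.1, ?_⟩
  rw [eq_top_iff, ← hgen x.1]
  refine Subring.closure_mono (Set.union_subset_union_right _ ?_)
  rintro _ ⟨i, rfl⟩
  refine ⟨e (some ⟨x, some i⟩), (key _ hs).coef_eq _ ?_⟩
  rw [resM_self]
  simpa [sec] using (hu x i).symm

end Groth.Agent.Surf15

namespace Groth.Agent.Surf15

/-- At a rational maximal ideal, functions spanning the algebra and containing `1` span the first jets. -/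
theorem exists_lin_comb_sq {k A : Type u} [Field k] [IsAlgClosed k] [CommRing A] [Algebra k A]
    [Algebra.FiniteType k A] {m : ℕ} (a : Fin m → A) (h1 : (1 : A) ∈ Set.range a)
    (hgen : Subring.closure (Set.range (algebraMap k A) ∪ Set.range a) = ⊤) (q : Ideal A) [q.IsMaximal] (z : A) :
    ∃ c : Fin m → k, ∑ i, algebraMap k A (c i) * a i - z ∈ q ^ 2 := by
  classical
  let T : Submodule k A := Submodule.span k (Set.range a) ⊔ (q ^ 2).restrictScalars k
  have hone : (1 : A) ∈ T := Submodule.mem_sup_left (Submodule.subset_span h1)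
  have hres : ∀ x : A, ∃ c : k, x - algebraMap k A c ∈ q := fun x => by
    letI : Field (A ⧸ q) := Ideal.Quotient.field q
    haveI : Module.Finite k (A ⧸ q) := finite_of_finite_type_of_isJacobsonRing k (A ⧸ q)
    haveI : Algebra.IsIntegral k (A ⧸ q) := Algebra.IsIntegral.of_finite k (A ⧸ q)
    obtain ⟨c, hc⟩ := (IsAlgClosed.algebraMap_bijective_of_isIntegral (k := k) (K := A ⧸ q)).2 (Ideal.Quotient.mk q x)
    refine ⟨c, Ideal.Quotient.eq.1 ?_⟩
    rw [← hc]; rfl
  have hmul : ∀ x ∈ T, ∀ y ∈ T, x * y ∈ T := fun x hx y hy => by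
    obtain ⟨c, hc⟩ := hres x
    obtain ⟨d, hd⟩ := hres y
    have e : x * y = c • y + d • x - (c * d) • (1 : A) + (x - algebraMap k A c) * (y - algebraMap k A d) := by
      simp only [Algebra.smul_def, map_mul]; ring
    rw [e]
    exact add_mem (sub_mem (add_mem (T.smul_mem _ hy) (T.smul_mem _ hx)) (T.smul_mem _ hone))
      (Submodule.mem_sup_right (by rw [pow_two]; exact Ideal.mul_mem_mul hc hd))
  have hk : ∀ c : k, algebraMap k A c ∈ T := fun c => by
    rw [Algebra.algebraMap_eq_smul_one]; exact T.smul_mem c hone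
  have hT : z ∈ T := by
    have hz : z ∈ Subring.closure (Set.range (algebraMap k A) ∪ Set.range a) := by rw [hgen]; trivial
    induction hz using Subring.closure_induction with
    | mem x hx =>
      rcases hx with ⟨c, rfl⟩ | hx
      · exact hk c
      · exact Submodule.mem_sup_left (Submodule.subset_span hx)
    | zero => exact T.zero_mem
    | one => exact hone
    | add x y _ _ hx hy => exact T.add_mem hx hy
    | neg x _ hx => exact T.neg_mem hx
    | mul x y _ _ hx hy => exact hmul x hx y hy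
  obtain ⟨u, hu, v, hv, rfl⟩ := Submodule.mem_sup.1 hT
  obtain ⟨c, rfl⟩ := (Submodule.mem_span_range_iff_exists_fun k).1 hu
  refine ⟨c, ?_⟩
  simp only [Algebra.smul_def]
  rw [sub_add_eq_sub_sub, sub_self, zero_sub]
  exact neg_mem hv

/-- Jets at a rational maximal ideal, read in the localisation. -/
theorem exists_lin_comb_stalk {k A : Type u} [Field k] [IsAlgClosed k] [CommRing A] [Algebra k A]
    [Algebra.FiniteType k A] {m : ℕ} (a : Fin m → A) (h1 : (1 : A) ∈ Set.range a)
    (hgen : Subring.closure (Set.range (algebraMap k A) ∪ Set.range a) = ⊤) (q : Ideal A) [hq : q.IsMaximal]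
    (R : Type u) [CommRing R] [IsLocalRing R] [Algebra A R] [IsLocalization.AtPrime R q] (r : R) :
    ∃ c : Fin m → k, algebraMap A R (∑ i, algebraMap k A (c i) * a i) - r ∈ IsLocalRing.maximalIdeal R ^ 2 := by
  obtain ⟨⟨z, s⟩, hzs⟩ := IsLocalization.surj q.primeCompl r
  obtain ⟨a', b, hb, hab⟩ := Ideal.IsMaximal.exists_inv hq s.2
  have hs' : (s : A) * (a' * (1 + b)) - 1 ∈ q ^ 2 := by
    rw [show (s : A) * (a' * (1 + b)) - 1 = (a' * (s : A) + b - 1) * (1 + b) + (-(b * b)) by ring,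
      sub_eq_zero.2 hab, zero_mul, zero_add]
    exact neg_mem (by rw [pow_two]; exact Ideal.mul_mem_mul hb hb)
  obtain ⟨c, hc⟩ := exists_lin_comb_sq (k := k) a h1 hgen q (z * (a' * (1 + b)))
  refine ⟨c, ?_⟩
  rw [← IsLocalization.AtPrime.map_eq_maximalIdeal q R, ← Ideal.map_pow]
  set w := ∑ i, algebraMap k A (c i) * a i
  refine (Ideal.unit_mul_mem_iff_mem _ (IsLocalization.map_units R s)).1 ?_
  rw [mul_sub, ← map_mul, mul_comm (algebraMap A _ (s : A)) r, hzs, ← map_sub]
  refine Ideal.mem_map_of_mem _ ?_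
  rw [show (s : A) * w - z = (s : A) * (w - z * (a' * (1 + b))) + z * ((s : A) * (a' * (1 + b)) - 1) by ring]
  exact add_mem (Ideal.mul_mem_left _ _ hc) (Ideal.mul_mem_left _ _ hs')

/-- A nonzero section of an invertible module on an integral scheme cuts out an effective Cartier divisor. -/
theorem isEffCartier_zeroScheme_of_ne_zero {Y : Scheme.{u}} [IsIntegral Y] {P : Y.Modules}
    (hP : PicF.IsInvertible P) (τ : Coh.structureModule Y ⟶ P) (hτ : unitVal τ ⊤ ≠ 0) :
    BlowUp.IsEffCartierIdeal (PicF2.zeroScheme P τ) := by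
  intro x
  obtain ⟨U, hx, g, hg⟩ := exists_isGen hP x
  obtain ⟨_, ⟨V, hV, rfl⟩, hxV, hVU⟩ :=
    Y.isBasis_affineOpens.exists_subset_of_mem_open hx U.isOpen
  haveI : Nonempty V := ⟨⟨x, hxV⟩⟩
  have hgV := hg.restrict (show V ≤ U from hVU)
  refine ⟨⟨V, hV⟩, hxV, _, mem_nonZeroDivisors_of_ne_zero fun h0 => hτ ?_,
    ZeroSchLib.zeroScheme_ideal_eq_span τ hP ⟨V, hV⟩ hgV⟩
  have hc := hgV.coef_spec le_rfl (unitVal τ V)
  rw [resM_self, h0, zero_smul] at hc
  refine SerreDual.eq_zero_of_resM_eq_zero hP ⟨x, hxV⟩ _ ?_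
  rw [resM_unitVal, ← resM_unitVal τ (inf_le_right : ⊤ ⊓ V ≤ V), ← hc, map_zero]

variable (k : Type u) [Field k] [IsAlgClosed k] {X : Scheme.{u}} [X.Over (Spec (CommRingCat.of k))]

theorem res_top_self (r : Γ(X, ⊤)) : PicLib.res (le_top : (⊤ : X.Opens) ≤ ⊤) r = r :=
  congrArg (fun φ => φ.hom r) (X.presheaf.map_id (op ⊤))

/-- The value of a combination of sections. -/
theorem unitVal_sum_smul {P : X.Modules} {m : ℕ} (σ : Fin m → Γ(P, ⊤)) (c : Fin m → k) (V : X.Opens) :
    unitVal (∑ i : Fin m, Formal.smulMod k (Coh.structureModule X) (c i) ≫ unitDesc P (σ i)) V =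
      ∑ i, PicLib.res (le_top : V ≤ ⊤) (show Γ(X, ⊤) from Coh.toGlobal (X ↘ Spec (CommRingCat.of k)) (c i)) •
        resM P le_top (σ i) := by
  show (∑ i : Fin m, Formal.smulMod k (Coh.structureModule X) (c i) ≫ unitDesc P (σ i)).app V (1 : Γ(X, V)) = _
  rw [app_sum]
  refine Finset.sum_congr rfl fun i _ => ?_
  refine Eq.trans ?_ (CurveRR24.unitDesc_app P (σ i) V _)
  show (unitDesc P (σ i)).app V ((Formal.smulMod k (Coh.structureModule X) (c i)).app V (1 : Γ(X, V))) = _
  congr 1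
  exact mul_one (PicLib.res (le_top : V ≤ ⊤) (show Γ(X, ⊤) from Coh.toGlobal (X ↘ Spec (CommRingCat.of k)) (c i)))

theorem range_appLE_subset (W : X.Opens) :
    Set.range ((X ↘ Spec (CommRingCat.of k)).appLE ⊤ W le_top) ⊆
      Set.range ((PicLib.res (le_top : W ≤ ⊤)).comp
        (show k →+* Γ(X, ⊤) from Coh.toGlobal (X ↘ Spec (CommRingCat.of k)))) := by
  rintro _ ⟨y, rfl⟩
  refine ⟨(Scheme.ΓSpecIso (CommRingCat.of k)).hom y, ?_⟩
  exact congrArg ((X ↘ Spec (CommRingCat.of k)).appLE ⊤ W le_top).hom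
    (CategoryTheory.Iso.hom_inv_id_apply (Scheme.ΓSpecIso (CommRingCat.of k)) y)

theorem finiteType_toGlobal [LocallyOfFiniteType (X ↘ Spec (CommRingCat.of k))] {W : X.Opens}
    (hW : IsAffineOpen W) :
    ((PicLib.res (le_top : W ≤ ⊤)).comp
      (show k →+* Γ(X, ⊤) from Coh.toGlobal (X ↘ Spec (CommRingCat.of k)))).FiniteType := by
  show (((X ↘ Spec (CommRingCat.of k)).appLE ⊤ W le_top).hom.comp
    (Scheme.ΓSpecIso (CommRingCat.of k)).inv.hom).FiniteType
  exact RingHom.FiniteType.comp ((X ↘ Spec (CommRingCat.of k)).finiteType_appLE (isAffineOpen_top _) hW le_top)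
    (RingHom.FiniteType.of_surjective (Scheme.ΓSpecIso (CommRingCat.of k)).inv.hom
      (ConcreteCategory.bijective_of_isIso (Scheme.ΓSpecIso (CommRingCat.of k)).inv).2)

/-- Sections generating the functions on affine loci separate first jets at closed points. -/
theorem exists_jet [LocallyOfFiniteType (X ↘ Spec (CommRingCat.of k))] {P : X.Modules} {m : ℕ}
    (σ : Fin m → Γ(P, ⊤)) {j : Fin m} {W : X.Opens} (hW : IsAffineOpen W)
    (hg : IsGen P W (resM P le_top (σ j)))
    (hgen : Subring.closure (Set.range ((X ↘ Spec (CommRingCat.of k)).appLE ⊤ W le_top) ∪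
      Set.range fun i => hg.coef le_rfl (resM P le_top (σ i))) = ⊤)
    {p : X} (hpW : p ∈ W) (hp : IsClosed ({p} : Set X)) (l : ↥(P.presheaf.stalk p)) :
    ∃ c : Fin m → k,
      (P.presheaf.germ ⊤ p trivial)
          (PicF2.secVal P (∑ i, Formal.smulMod k (Coh.structureModule X) (c i) ≫ unitDesc P (σ i)) ⊤) - l ∈
        (IsLocalRing.maximalIdeal ↥(X.presheaf.stalk p)) ^ 2 •
          (⊤ : Submodule ↥(X.presheaf.stalk p) ↥(P.presheaf.stalk p)) := by
  let κ : k →+* Γ(X, W) := (PicLib.res (le_top : W ≤ ⊤)).comp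
    (show k →+* Γ(X, ⊤) from Coh.toGlobal (X ↘ Spec (CommRingCat.of k)))
  letI : Algebra k Γ(X, W) := κ.toAlgebra
  haveI : Algebra.FiniteType k Γ(X, W) := RingHom.finiteType_algebraMap.1 (finiteType_toGlobal k hW)
  obtain ⟨r, hr⟩ := (S14990.germ_gen_bijective hg hpW).2 l
  haveI hmax : (hW.primeIdealOf ⟨p, hpW⟩).asIdeal.IsMaximal := hW.primeIdealOf_isMaximal_of_isClosed ⟨p, hpW⟩ hp
  letI : Algebra Γ(X, W) (X.presheaf.stalk p) := TopCat.Presheaf.algebra_section_stalk X.presheaf (⟨p, hpW⟩ : W)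
  haveI : IsLocalization.AtPrime (X.presheaf.stalk p) (hW.primeIdealOf ⟨p, hpW⟩).asIdeal :=
    hW.isLocalization_stalk ⟨p, hpW⟩
  let a := fun i => hg.coef le_rfl (resM P le_top (σ i))
  have h1 : (1 : Γ(X, W)) ∈ Set.range a := ⟨j, hg.coef_eq _ (by rw [one_smul, resM_self])⟩
  have hgen' : Subring.closure (Set.range (algebraMap k Γ(X, W)) ∪ Set.range a) = ⊤ :=
    eq_top_iff.2 (hgen.symm.le.trans (Subring.closure_mono (Set.union_subset_union_left _
      (range_appLE_subset k W))))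
  obtain ⟨c, hc⟩ := exists_lin_comb_stalk (k := k) a h1 hgen' (hW.primeIdealOf ⟨p, hpW⟩).asIdeal
    (X.presheaf.stalk p) r
  refine ⟨c, ?_⟩
  have hval : P.presheaf.germ ⊤ p trivial
      (PicF2.secVal P (∑ i, Formal.smulMod k (Coh.structureModule X) (c i) ≫ unitDesc P (σ i)) ⊤) =
      X.presheaf.germ W p hpW (∑ i, κ (c i) * a i) • P.presheaf.germ W p hpW (resM P le_top (σ j)) := by
    refine Eq.trans ?_ (S14990.germ_smul' P hpW _ _)
    refine (TopCat.Presheaf.germ_res_apply P.presheaf (homOfLE (le_top : W ≤ ⊤)) p hpW _).symm.trans ?_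
    refine congrArg _ ?_
    refine ((resM_unitVal _ (le_top : W ≤ ⊤)).trans (unitVal_sum_smul k σ c W)).trans ?_
    rw [Finset.sum_smul]
    refine Finset.sum_congr rfl fun i _ => ?_
    rw [mul_smul]
    refine congrArg (κ (c i) • ·) ?_
    have := hg.coef_spec le_rfl (resM P le_top (σ i))
    rw [resM_self] at this
    exact this.symm
  rw [hval, ← hr, ← sub_smul]
  exact Submodule.smul_mem_smul hc Submodule.mem_top

/-- On a smooth proper integral scheme high twists by an ample module have a section with smooth divisor. -/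
theorem eventually_exists_smooth_divisor [IsProper (X ↘ Spec (CommRingCat.of k))] [IsIntegral X]
    [Smooth (X ↘ Spec (CommRingCat.of k))] {H L : X.Modules} (hH : CohB1.IsAmple H) (hL : PicF.IsInvertible L) :
    ∃ n₀ : ℕ, ∀ n : ℕ, n₀ ≤ n → ∃ Z : X.IdealSheafData, BlowUp.IsEffCartierIdeal Z ∧
      Smooth (Z.subschemeι ≫ (X ↘ Spec (CommRingCat.of k))) ∧
      ClSub.IsInverseOf (CohB1.tensorMod (CohB1.tensorPow H n) L) (ClSub.idealMod Z) := by
  classical
  obtain ⟨n₀, hn₀⟩ := eventually_sections_generate (X ↘ Spec (CommRingCat.of k)) hH hL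
  refine ⟨n₀, fun n hn => ?_⟩
  obtain ⟨N', σ, hσ⟩ := hn₀ n hn
  let P := CohB1.tensorMod (CohB1.tensorPow H n) L
  have hP : PicF.IsInvertible P :=
    isInvertible_tensorMod (isInvertible_tensorPow (isAmple_iff_affGlocus.1 hH).1 n) hL
  let f := X ↘ Spec (CommRingCat.of k)
  obtain ⟨q, hq, hsm⟩ := S14990.result k X P (isFinLocFreeOfRank_one hP) (N' + 1)
    (fun i => unitDesc P (σ i)) 0 (fun p hp l => by
      obtain ⟨j, W, hg, hpW, hW, hgen⟩ := hσ p
      exact exists_jet k σ hW hg hgen hpW hp l)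
  -- a combination which is not zero
  let κ : k →+* Γ(X, ⊤) := Coh.toGlobal f
  let Φ : (Fin (N' + 1) → k) → Γ(P, ⊤) := fun c => ∑ i, κ (c i) • σ i
  obtain ⟨j₀, W₀, hg₀, hηW, -⟩ := hσ (genericPoint X)
  obtain ⟨c, hc, hne⟩ : ∃ c, MvPolynomial.eval c q ≠ 0 ∧ Φ c ≠ 0 := by
    obtain ⟨c₀, hc₀⟩ : ∃ c₀, MvPolynomial.eval c₀ q ≠ 0 := by
      by_contra h
      push Not at h
      exact hq (MvPolynomial.funext (fun x => by rw [h x, map_zero]))
    by_cases h0 : Φ c₀ = 0
    · let v : Fin (N' + 1) → k := Pi.single j₀ 1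
      obtain ⟨t, ht, ht0⟩ : ∃ t : k, MvPolynomial.eval (c₀ + t • v) q ≠ 0 ∧ t ≠ 0 := by
        let P1 : Polynomial k := MvPolynomial.aeval (fun i => Polynomial.C (c₀ i) + Polynomial.C (v i) * Polynomial.X) q
        have hev : ∀ t : k, P1.eval t = MvPolynomial.eval (c₀ + t • v) q := fun t => by
          show Polynomial.aeval t (MvPolynomial.aeval _ q) = _
          rw [← AlgHom.comp_apply, MvPolynomial.comp_aeval, MvPolynomial.aeval_eq_eval]
          congr 2
          funext i
          show Polynomial.aeval t (Polynomial.C (c₀ i) + Polynomial.C (v i) * Polynomial.X) = c₀ i + t * v i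
          rw [map_add, map_mul, Polynomial.aeval_C, Polynomial.aeval_C, Polynomial.aeval_X, mul_comm]
          rfl
        have h1 : P1 ≠ 0 := fun e => hc₀ (by simpa [e] using (hev 0).symm)
        obtain ⟨t, ht⟩ := Polynomial.exists_eval_ne_zero_of_natDegree_lt_card (P1 * Polynomial.X)
          (mul_ne_zero h1 Polynomial.X_ne_zero) ((Cardinal.natCast_lt_aleph0).trans_le (Cardinal.aleph0_le_mk k))
        rw [Polynomial.eval_mul, Polynomial.eval_X] at ht
        exact ⟨t, hev t ▸ left_ne_zero_of_mul ht, right_ne_zero_of_mul ht⟩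
      refine ⟨_, ht, ?_⟩
      have hΦ : Φ (c₀ + t • v) = Φ c₀ + κ t • σ j₀ := by
        show ∑ i, κ ((c₀ + t • v) i) • σ i = (∑ i, κ (c₀ i) • σ i) + κ t • σ j₀
        rw [Finset.sum_congr rfl (fun i _ => (show κ ((c₀ + t • v) i) • σ i = _ from
            (congrArg (· • σ i) (κ.map_add (c₀ i) ((t • v) i))).trans (add_smul _ _ _))),
          Finset.sum_add_distrib]
        congr 1
        rw [Finset.sum_eq_single j₀ (fun i _ hi => by rw [Pi.smul_apply, show v i = 0 from Pi.single_eq_of_ne hi _, smul_zero, map_zero, zero_smul]) (by simp),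
          Pi.smul_apply, show v j₀ = 1 from Pi.single_eq_same _ _, smul_eq_mul, mul_one]
      rw [hΦ, h0, zero_add]
      intro e
      have hu : IsUnit (κ t) := (Ne.isUnit ht0).map _
      have e' : σ j₀ = 0 := hu.smul_left_cancel.1 (e.trans (smul_zero _).symm)
      haveI : Nonempty W₀ := ⟨⟨_, hηW⟩⟩
      refine one_ne_zero (α := Γ(X, W₀)) ((hg₀ W₀ le_rfl).1 ?_)
      simp only [e', map_zero, smul_zero]
    · exact ⟨c₀, hc₀, h0⟩
  have hsm' := hsm c hc
  rw [zero_add] at hsm'
  set τ := ∑ i : Fin (N' + 1), Formal.smulMod k (Coh.structureModule X) (c i) ≫ unitDesc P (σ i)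
  have hτ : unitVal τ ⊤ = Φ c := (unitVal_sum_smul k σ c ⊤).trans (Finset.sum_congr rfl fun i _ => by rw [resM_self]; exact congrArg (· • σ i) (res_top_self _))
  have hcar := isEffCartier_zeroScheme_of_ne_zero hP τ (fun e => hne (hτ.symm.trans e))
  exact ⟨PicF2.zeroScheme P τ, hcar, hsm', Inters29.nonempty_tensor_zeroScheme_iso hP τ hcar⟩

end Groth.Agent.Surf15
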