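import Groth.Agent.CycLib28.StalkIdeal
import Groth.Agent.SDiv28.CartierPart
import Groth.Agent.CurveRR24.SmoothCompletion
import Groth.Agent.CAlgH3.RegularLocal
import Groth.Agent.VarietyLib.SmoothStalk

/-!
# Surf15: the components of a smooth effective Cartier divisor are smooth
-/

set_option autoImplicit false
set_option linter.style.haveILetI false
set_option backward.isDefEq.respectTransparency.types false

universe u

open CategoryTheory CategoryTheory.Limits AlgebraicGeometry Opposite TopologicalSpace IsLocalRing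
open Groth.Agent.Misc15.DivDescent

namespace Groth.Agent.Surf15

variable {X : Scheme.{u}}

theorem stalkIdeal_eq_stk (I : X.IdealSheafData) {x : X} (h : x ∈ I.support) :
    IntMult.stalkIdeal I x = stk I x := by
  obtain ⟨U, hU, hxU, -⟩ := exists_isAffineOpen_mem_and_subset (x := x) (U := ⊤) (Set.mem_univ _)
  rw [CycLib28.stalkIdeal_eq_map I h ⟨U, hU⟩ hxU, stk_eq I ⟨U, hU⟩ hxU]

/-- If `(w c)` is prime, with `w c` regular, then `w` or `c` is a unit. -/
theorem eq_top_or_eq_top_of_span_mul {A : Type*} [CommRing A] {w c : A} (hw : w ∈ nonZeroDivisors A)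
    (hc : c ∈ nonZeroDivisors A) (h : (Ideal.span {w * c}).IsPrime) :
    Ideal.span {w} = ⊤ ∨ Ideal.span {c} = ⊤ := by
  rcases h.mem_or_mem (Ideal.mem_span_singleton_self (w * c)) with hm | hm
  · obtain ⟨a, ha⟩ := Ideal.mem_span_singleton'.1 hm
    refine Or.inr (Ideal.span_singleton_eq_top.2 (IsUnit.of_mul_eq_one (a := c) a ?_))
    refine sub_eq_zero.1 ((mem_nonZeroDivisors_iff.1 hw).1 _ ?_)
    rw [mul_sub, mul_one]
    linear_combination ha
  · obtain ⟨a, ha⟩ := Ideal.mem_span_singleton'.1 hm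
    refine Or.inl (Ideal.span_singleton_eq_top.2 (IsUnit.of_mul_eq_one (a := w) a ?_))
    refine sub_eq_zero.1 ((mem_nonZeroDivisors_iff.1 hc).1 _ ?_)
    rw [mul_sub, mul_one]
    linear_combination ha

variable (k : Type u) [Field k] [IsAlgClosed k] [X.Over (Spec (CommRingCat.of k))]
  [LocallyOfFiniteType (X ↘ Spec (CommRingCat.of k))]

/-- A factor of a smooth effective Cartier divisor is smooth. -/
theorem smooth_factor {W C : X.IdealSheafData} (hW : BlowUp.IsEffCartierIdeal W)
    (hC : BlowUp.IsEffCartierIdeal C) (hle : W * C ≤ C)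
    (hsm : Smooth ((W * C).subschemeι ≫ (X ↘ Spec (CommRingCat.of k)))) :
    Smooth (C.subschemeι ≫ (X ↘ Spec (CommRingCat.of k))) := by
  refine CurveRR24.smooth_of_regular_closedPoints _ fun y _ => ?_
  have hxC : C.subschemeι y ∈ C.support := C.range_subschemeι.le ⟨y, rfl⟩
  have hxZ : C.subschemeι y ∈ (W * C).support := Scheme.IdealSheafData.support_antitone hle hxC
  obtain ⟨z, hz⟩ := (W * C).range_subschemeι.ge hxZ
  haveI hreg : IsRegularLocalRing ((W * C).subscheme.presheaf.stalk z) :=
    VarietyLib.isRegularLocalRing_stalk_of_smooth k _ ((W * C).subschemeι ≫ (X ↘ Spec (CommRingCat.of k))) z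
  obtain ⟨e⟩ := CycLib28.stalkIdeal_quot_equiv (W * C) z
  haveI hq : IsRegularLocalRing (X.presheaf.stalk (C.subschemeι y) ⧸ IntMult.stalkIdeal (W * C) (C.subschemeι y)) :=
    hz ▸ IsRegularLocalRing.of_ringEquiv e.symm
  haveI hdom := CAlgH3.isDomain_of_isRegularLocalRing
    (X.presheaf.stalk (C.subschemeι y) ⧸ IntMult.stalkIdeal (W * C) (C.subschemeι y))
  have hp : (IntMult.stalkIdeal (W * C) (C.subschemeι y)).IsPrime := (Ideal.Quotient.isDomain_iff_prime _).1 hdom
  obtain ⟨c, hc, hcC⟩ := exists_gen hC (C.subschemeι y)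
  obtain ⟨w, hw, hwW⟩ := exists_gen hW (C.subschemeι y)
  have hWtop : stk W (C.subschemeι y) = ⊤ := by
    rw [stalkIdeal_eq_stk _ hxZ, SDiv28.CartierPart.stk_mul, hwW, hcC, Ideal.span_singleton_mul_span_singleton] at hp
    rcases eq_top_or_eq_top_of_span_mul hw hc hp with h | h
    · rw [hwW, h]
    · exfalso
      have := (SDiv28.CartierPart.mem_support_iff_stk C _).1 hxC
      rw [hcC, h, top_le_iff] at this
      exact (maximalIdeal.isMaximal _).ne_top this
  have heq : IntMult.stalkIdeal (W * C) (C.subschemeι y) = IntMult.stalkIdeal C (C.subschemeι y) := by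
    rw [stalkIdeal_eq_stk _ hxZ, stalkIdeal_eq_stk _ hxC, SDiv28.CartierPart.stk_mul, hWtop, Ideal.top_mul]
  obtain ⟨e'⟩ := CycLib28.stalkIdeal_quot_equiv C y
  exact IsRegularLocalRing.of_ringEquiv ((Ideal.quotEquivOfEq heq).trans e')

end Groth.Agent.Surf15
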