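import Groth.Agent.Surf15.Adjunction
import Groth.Agent.Surf15.JetSections
import Groth.Agent.Surf15.SmoothComponents
import Groth.Agent.Surf15.FibreDiv
import Groth.Agent.Surf15.Inverse
import Groth.Agent.AbVarLib.AlgClosedIntegral
import Groth.Agent.Canon15.TopDiff

/-!
# Surf15: Riemann–Roch on smooth proper surfaces over algebraically closed fields
-/

set_option autoImplicit false
set_option linter.style.haveILetI false
set_option linter.unusedSectionVars false
set_option backward.isDefEq.respectTransparency.types false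

universe u

open CategoryTheory CategoryTheory.Limits AlgebraicGeometry Opposite TopologicalSpace
open Groth.Agent.Coherent Groth.Agent.PicLib Groth.Agent.AmpleLib Groth.Agent.EulerLib
open Groth.Agent.CurveRR24

namespace Groth.Agent.Surf15

variable {X : Scheme.{u}} (k : Type u) [Field k] [X.Over (Spec (CommRingCat.of k))]
  [IsProper (X ↘ Spec (CommRingCat.of k))]

include k in
/-- The Euler characteristic of the class of an ideal. -/
theorem chiCl_clI' {I : X.IdealSheafData} (hI : BlowUp.IsEffCartierIdeal I) :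
    chiCl k (Coh.structureModule X) (clI' I hI) =
      chiCl k (Coh.structureModule X) 1 - Curv2.euler k X (ClSub.quotMod I) := by
  haveI := isNoetherian_of_proper (X := X) k
  have hI' := FlatMor12.IdealModGen.isInvertible_idealMod I hI
  have h := congrFun (chiCl_additive k _ (shortExact_ideal I) (isCoh_idealMod' I) (isCoh_structureModule X)
    (isCoh_quotMod I)) 1
  have e : chiCl k (ClSub.idealMod I) 1 = chiCl k (Coh.structureModule X) (clI' I hI) := by
    conv_rhs => rw [← mul_one (clI' I hI), clI', chiCl_mul k (Coh.structureModule X) hI' 1,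
      chiCl_congr k (unitTensorIso (ClSub.idealMod I))]
  have h2 : chiCl k (Coh.structureModule X) 1 =
      chiCl k (ClSub.idealMod I) 1 + chiCl k (ClSub.quotMod I) 1 := h
  rw [e, chiCl_one k (ClSub.quotMod I)] at h2
  linarith

variable [IsAlgClosed k] [IsIntegral X] [Smooth (X ↘ Spec (CommRingCat.of k))]
/-- The defect in Riemann–Roch. -/
noncomputable def rrDefect (w a : InvCl X) : ℤ :=
  2 * chiCl k (Coh.structureModule X) a - 2 * chiCl k (Coh.structureModule X) 1 - B k a a + B k a w

variable (hX : topologicalKrullDim X = ((2 : ℕ) : WithBot ℕ∞))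
include k hX

theorem rrDefect_mul (w a b : InvCl X) : rrDefect k w (a * b) = rrDefect k w a + rrDefect k w b := by
  simp only [rrDefect, B_mul_left k hX.le, B_mul_right k hX.le]
  simp only [B]
  rw [mul_comm b a]
  ring

theorem rrDefect_eq_zero_of_idem (w : InvCl X) {a : InvCl X} (h : a * a = a) : rrDefect k w a = 0 := by
  have := rrDefect_mul k hX w a a
  rw [h] at this
  omega

/-- The components of a smooth divisor satisfy Riemann–Roch. -/
theorem rrDefect_smooth_divisor {W : X.Modules}
    (hW : ExtPow.IsExtPow 2 (Omega.sheaf (X ↘ Spec (CommRingCat.of k))) W) (hWi : PicF.IsInvertible W)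
    {Z : X.IdealSheafData} (hZ : BlowUp.IsEffCartierIdeal Z)
    (hsm : Smooth (Z.subschemeι ≫ (X ↘ Spec (CommRingCat.of k)))) :
    rrDefect k (InvCl.mk W hWi) (clI' Z hZ) = 0 := by
  have hreg : ∀ x : X, IsRegularLocalRing (X.presheaf.stalk x) := fun x =>
    VarietyLib.isRegularLocalRing_stalk_of_smooth k X (X ↘ Spec (CommRingCat.of k)) x
  by_cases h0 : Z = ⊤
  · subst h0
    refine rrDefect_eq_zero_of_idem k hX _ ?_
    rw [← clI'_mul ⊤ ⊤ hZ hZ]
    exact clI'_congr (by rw [← Scheme.IdealSheafData.one_eq_top, mul_one]) _ _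
  refine cycle_rec k hX hreg (P := fun A hA => rrDefect k (InvCl.mk W hWi) (clI' A hA) = 0)
    (fun A C hA hC _ _ h1 h2 => by rw [clI'_mul A C hA hC, rrDefect_mul k hX, h1, h2, add_zero]) hZ h0 ?_
  intro C hC hCc hle
  obtain ⟨A, hA⟩ := ModPairLib.exists_mul_eq hC hle
  subst hA
  have hsmC := smooth_factor k (ModPairLib.isEffCartier_of_mul hZ hC) hC hle hsm
  haveI := hCc.1
  have hgi := AbVarLib.geometricallyIntegral_of_isAlgClosed (C.subschemeι ≫ (X ↘ Spec (CommRingCat.of k)))
  have hd : topologicalKrullDim C.subscheme = 1 := by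
    rw [C.subschemeι.isClosedEmbedding.isEmbedding.toHomeomorph.isHomeomorph.topologicalKrullDim_eq]
    exact (IsHomeomorph.topologicalKrullDim_eq _
      (Homeomorph.setCongr C.range_subschemeι).isHomeomorph).trans hCc.2
  have h := two_euler_curve k hX hW hWi hC hd hsmC hgi
  simp only [rrDefect, chiCl_clI' k hC]
  linarith

/-- **Riemann–Roch** on a smooth proper surface, in terms of classes. -/
theorem riemannRoch_cl {W : X.Modules} (hW : ExtPow.IsExtPow 2 (Omega.sheaf (X ↘ Spec (CommRingCat.of k))) W)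
    (hWi : PicF.IsInvertible W) (a : InvCl X) :
    2 * chiCl k (Coh.structureModule X) a =
      B k a a - B k a (InvCl.mk W hWi) + 2 * chiCl k (Coh.structureModule X) 1 := by
  suffices h : rrDefect k (InvCl.mk W hWi) a = 0 by simp only [rrDefect] at h; linarith
  have hreg : ∀ x : X, IsRegularLocalRing (X.presheaf.stalk x) := fun x =>
    VarietyLib.isRegularLocalRing_stalk_of_smooth k X (X ↘ Spec (CommRingCat.of k)) x
  obtain ⟨H, hH⟩ := exists_ample k hX hreg
  obtain ⟨L, hL, rfl⟩ := InvCl.exists_rep a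
  obtain ⟨n₁, hn₁⟩ := eventually_exists_smooth_divisor k hH hL
  obtain ⟨n₂, hn₂⟩ := eventually_exists_smooth_divisor k hH (isInvertible_structureModule (X := X))
  obtain ⟨Z₁, hZ₁, hs₁, hi₁⟩ := hn₁ (max n₁ n₂) (le_max_left _ _)
  obtain ⟨Z₂, hZ₂, hs₂, hi₂⟩ := hn₂ (max n₁ n₂) (le_max_right _ _)
  have hHn := isInvertible_tensorPow (isAmple_iff_affGlocus.1 hH).1 (max n₁ n₂)
  have e₁ := mk_inverse_clI' hZ₁ (isInvertible_tensorMod hHn hL) hi₁
  have e₂ := mk_inverse_clI' hZ₂ (isInvertible_tensorMod hHn isInvertible_structureModule) hi₂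
  rw [← InvCl.mk_mul hHn hL] at e₁
  rw [← InvCl.mk_mul hHn isInvertible_structureModule, show InvCl.mk (Coh.structureModule X) isInvertible_structureModule = 1 from rfl, mul_one] at e₂
  have e : clI' Z₁ hZ₁ * InvCl.mk L hL = clI' Z₂ hZ₂ := by
    calc clI' Z₁ hZ₁ * InvCl.mk L hL = clI' Z₁ hZ₁ * InvCl.mk L hL * (clI' Z₂ hZ₂ * InvCl.mk _ hHn) := by
          rw [e₂, mul_one]
      _ = clI' Z₁ hZ₁ * (InvCl.mk _ hHn * InvCl.mk L hL) * clI' Z₂ hZ₂ := by
          ac_rfl
      _ = clI' Z₂ hZ₂ := by rw [e₁, one_mul]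
  have h1 := rrDefect_mul k hX (InvCl.mk W hWi) (clI' Z₁ hZ₁) (InvCl.mk L hL)
  rw [e, rrDefect_smooth_divisor k hX hW hWi hZ₁ hs₁, rrDefect_smooth_divisor k hX hW hWi hZ₂ hs₂] at h1
  omega

/-- **Riemann–Roch** for an invertible module on a smooth proper surface. -/
theorem riemannRoch {W : X.Modules} (hW : ExtPow.IsExtPow 2 (Omega.sheaf (X ↘ Spec (CommRingCat.of k))) W)
    (hWi : PicF.IsInvertible W) {L : X.Modules} (hL : PicF.IsInvertible L) :
    2 * Curv2.euler k X L = FGA.intNum k X 2 ![L, L] (Coh.structureModule X) -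
      FGA.intNum k X 2 ![L, W] (Coh.structureModule X) + 2 * Curv2.euler k X (Coh.structureModule X) := by
  rw [intNum_eq_B k hX.le hL hL, intNum_eq_B k hX.le hL hWi, euler_eq_chiCl k hX.le hL,
    ← chiCl_one k (Coh.structureModule X)]
  exact riemannRoch_cl k hX hW hWi _

end Groth.Agent.Surf15
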