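import Groth.Agent.Surf15.Cut
import Groth.Agent.CurveRR24.Section

/-!
# Surf15: bounds on `h⁰`
-/

set_option autoImplicit false
set_option linter.style.haveILetI false
set_option backward.isDefEq.respectTransparency.types false

universe u

open CategoryTheory CategoryTheory.Limits AlgebraicGeometry Opposite TopologicalSpace
open Groth.Agent.Coherent Groth.Agent.PicLib Groth.Agent.AmpleLib Groth.Agent.EulerLib
open Groth.Agent.CurveRR24 Groth.Agent.AbCubeLib Groth.Agent.DimLib Groth.Agent.AssSch12

namespace Groth.Agent.Surf15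

variable {X : Scheme.{u}} (k : Type u) [Field k] [X.Over (Spec (CommRingCat.of k))]
  [IsProper (X ↘ Spec (CommRingCat.of k))]

include k in
/-- `h⁰` is monotone and subadditive on short exact sequences of coherent modules. -/
theorem h0_le {S : ShortComplex X.Modules} (hS : S.ShortExact) (h₁ : Coh.IsCoh S.X₁)
    (h₂ : Coh.IsCoh S.X₂) (h₃ : Coh.IsCoh S.X₃) :
    Module.finrank k (Coh.HH X S.X₁ 0) ≤ Module.finrank k (Coh.HH X S.X₂ 0) ∧
      Module.finrank k (Coh.HH X S.X₂ 0) ≤
        Module.finrank k (Coh.HH X S.X₁ 0) + Module.finrank k (Coh.HH X S.X₃ 0) := by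
  rw [(HHBaseEquiv k S.X₁ 0).finrank_eq, (HHBaseEquiv k S.X₂ 0).finrank_eq,
    (HHBaseEquiv k S.X₃ 0).finrank_eq]
  haveI := finCoh_of_isProper (X ↘ Spec (CommRingCat.of k)) _ h₁ 0
  haveI := finCoh_of_isProper (X ↘ Spec (CommRingCat.of k)) _ h₂ 0
  haveI := finCoh_of_isProper (X ↘ Spec (CommRingCat.of k)) _ h₃ 0
  have hinj := postA_zero_injective (baseHom k X) hS (⊤ : X.Opens)
  have hex := exact_postA (baseHom k X) hS (⊤ : X.Opens) 0
  let g := postA (baseHom k X) S.g (⊤ : X.Opens) 0
  refine ⟨LinearMap.finrank_le_finrank_of_injective hinj, ?_⟩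
  rw [← LinearMap.finrank_range_add_finrank_ker g, LinearMap.exact_iff.1 hex,
    LinearMap.finrank_range_of_inj hinj, add_comm]
  exact add_le_add_right (Submodule.finrank_le _) _

include k in
/-- `h⁰` of an invertible module on an integral proper curve is at most `h⁰(O) + max deg 0`. -/
theorem h0_le_deg [IsIntegral X] (hdim : topologicalKrullDim X ≤ 1) {L : X.Modules}
    (hL : PicF.IsInvertible L) {D : ℤ} (hD : Curv2.deg k X L 1 ≤ D) :
    (Module.finrank k (Coh.HH X L 0) : ℤ) ≤
      Module.finrank k (Coh.HH X (Coh.structureModule X) 0) + max D 0 := by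
  rcases subsingleton_or_nontrivial (Coh.HH X L 0) with h | h
  · rw [Module.finrank_zero_of_subsingleton, Nat.cast_zero]
    positivity
  · exact (deg_nonneg_of_section k hdim hL h).2.2.trans
      (add_le_add_right (hD.trans (le_max_left _ _)) _)

include k in
/-- Bounded degrees on the curves of a one-dimensional support bound `h⁰` of the twists. -/
theorem exists_h0_bound {F : X.Modules} (hF : Coh.IsCoh F)
    (hd : topologicalKrullDim (CohB1.support F) ≤ ((1 : ℕ) : WithBot ℕ∞)) (D : ℤ) :
    ∃ C : ℕ, ∀ (L : X.Modules) (hL : PicF.IsInvertible L),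
      (∀ y : X, y ∈ CohB1.support F → topologicalKrullDim (closure {y} : Set X) = ((1 : ℕ) : WithBot ℕ∞) →
        deg k (clM y) (InvCl.mk L hL) ≤ D) →
      Module.finrank k (Coh.HH X (CohB1.tensorMod F L) 0) ≤ C := by
  haveI := isNoetherian_of_proper (X := X) k
  haveI := isSeparated_of_proper (X := X) k
  let K : X.Modules → Prop := fun F => Coh.IsCoh F →
    topologicalKrullDim (CohB1.support F) ≤ ((1 : ℕ) : WithBot ℕ∞) →
    ∃ C : ℕ, ∀ (L : X.Modules) (hL : PicF.IsInvertible L),
      (∀ y : X, y ∈ CohB1.support F → topologicalKrullDim (closure {y} : Set X) = ((1 : ℕ) : WithBot ℕ∞) →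
        deg k (clM y) (InvCl.mk L hL) ≤ D) →
      Module.finrank k (Coh.HH X (CohB1.tensorMod F L) 0) ≤ C
  have hK : ExtClass K :=
    { iso := fun {M N} e h hN hd' => by
        obtain ⟨C, hC⟩ := h (isCoh_iso e.symm hN) (by rwa [support_eq_of_iso e])
        refine ⟨C, fun L hL hy => ?_⟩
        rw [← (HHCongr k (AmpleLib.tensorIso e (Iso.refl L)) 0).finrank_eq]
        exact hC L hL fun y hy' => hy y (by rwa [← support_eq_of_iso e])
      zero := fun M hM _ _ => ⟨0, fun L hL _ => by
        haveI := subsingleton_HH_of_isZero (isZero_of_support_eq_empty (M := CohB1.tensorMod M L) (by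
          rw [support_twist hL M]; exact Set.subset_empty_iff.1 (support_of_isZero hM ∅))) 0
        rw [Module.finrank_zero_of_subsingleton]⟩
      ext := fun S hS h₁ h₂ h₃ a c _ hd' => by
        haveI := hS.mono_f
        haveI := hS.epi_g
        have hs₁ := support_subset_of_mono S.f
        have hs₃ := support_subset_of_epi S.g
        obtain ⟨C₁, hC₁⟩ := a h₁ ((dim_mono hs₁).trans hd')
        obtain ⟨C₃, hC₃⟩ := c h₃ ((dim_mono hs₃).trans hd')
        refine ⟨C₁ + C₃, fun L hL hy => ?_⟩
        refine (h0_le k (twistSeq_shortExact hL hS) (isCoh_twist hL h₁) (isCoh_twist hL h₂)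
          (isCoh_twist hL h₃)).2.trans (add_le_add ?_ ?_)
        · exact hC₁ L hL fun y hy' hy1 => hy y (hs₁ hy') hy1
        · exact hC₃ L hL fun y hy' hy1 => hy y (hs₃ hy') hy1 }
  refine mem_of_ideals hK Set.univ (fun y _ I ι hι hI hI0 => ?_) F hF (Set.subset_univ _) hF hd
  intro _ hd'
  haveI := hι
  haveI := hI
  obtain ⟨hIc, hM, hsub, hdeg⟩ := ideal_push k y I ι hI0
  rw [hsub] at hd' ⊢
  let i := (clI y).subschemeι
  letI : (clI y).subscheme.Over (Spec (CommRingCat.of k)) := ⟨i ≫ (X ↘ Spec (CommRingCat.of k))⟩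
  haveI : IsProper ((clI y).subscheme ↘ Spec (CommRingCat.of k)) :=
    inferInstanceAs (IsProper (i ≫ (X ↘ Spec (CommRingCat.of k))))
  haveI := isNoetherian_of_proper (X := (clI y).subscheme) k
  have hY : topologicalKrullDim (clI y).subscheme ≤ 1 := by
    rw [i.isClosedEmbedding.isEmbedding.toHomeomorph.isHomeomorph.topologicalKrullDim_eq]
    exact ((congrArg (fun S : Set X => topologicalKrullDim S) (range_clι y)).le.trans hd').trans
      (by exact_mod_cast le_rfl)
  rcases hd'.lt_or_eq with hlt | heq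
  · refine ⟨(Curv2.euler k X ((Coh.push i).obj I)).toNat, fun L hL _ => ?_⟩
    have hLc := isCoh_twist hL hM
    haveI := hLc.1
    have hv : ∀ q, 0 < q → Subsingleton (Coh.HH X (CohB1.tensorMod ((Coh.push i).obj I) L) q) :=
      fun q hq => subsingleton_HH_of_support (X := X) ⟨_, isClosed_closure⟩ _ hLc.1
        ((support_twist hL _).trans hsub).le q (hlt.trans_le (by exact_mod_cast hq))
    have he := euler_eq_sum k X _ 0 hv
    rw [Finset.sum_range_one, pow_zero, one_mul] at he
    have hz : deg k ((Coh.push i).obj I) (InvCl.mk L hL) = 0 :=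
      deg_eq_zero_of_dim k hM (by rw [hsub]; exact hlt) _
    rw [deg_mk] at hz
    have h : (Module.finrank k (Coh.HH X (CohB1.tensorMod ((Coh.push i).obj I) L) 0) : ℤ) =
        Curv2.euler k X ((Coh.push i).obj I) := by linarith
    exact Nat.le_of_eq (Int.toNat_natCast _ ▸ congrArg Int.toNat h)
  · refine ⟨(Module.finrank k (Coh.HH (clI y).subscheme (Coh.structureModule (clI y).subscheme) 0)) +
      (max D 0).toNat, fun L hL hy => ?_⟩
    have hb := hy y (subset_closure rfl) heq
    have hLY := PicLoc.isInvertible_pullback i hL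
    have hLF : FlatMod.IsFinLocFree L := fun x =>
      let ⟨U, hx, e⟩ := isFinLocFreeOfRank_one hL x; ⟨U, 1, hx, e⟩
    let L' := (Scheme.Modules.pullback i).obj L
    have e : ∀ J : (clI y).subscheme.Modules, CohB1.tensorMod ((Coh.push i).obj J) L ≅
        (Coh.push i).obj (CohB1.tensorMod J L') := fun J =>
      AmpleLib.tensorComm _ _ ≪≫ (projIso (f := i) hLF).app J ≪≫
        (Scheme.Modules.pushforward i).mapIso (AmpleLib.tensorComm _ _)
    have hO : Coh.IsCoh (Coh.structureModule (clI y).subscheme) := isCoh_structureModule _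
    have hdegY : Curv2.deg k (clI y).subscheme L' 1 ≤ D := by
      haveI : Coh.IsQCoh (CohB1.tensorMod (Coh.structureModule (clI y).subscheme) L') :=
        (isCoh_twist hLY hO).1
      haveI : Coh.IsQCoh (Coh.structureModule (clI y).subscheme) := hO.1
      rw [deg_mk] at hb
      rw [Curv2.deg, Nat.cast_one, one_mul, euler_congr k _ (unitTensorIso L').symm,
        euler_push k i rfl, euler_push k i rfl, ← euler_congr k X (e _)]
      exact hb
    have hJ := isCoh_twist hLY hIc
    haveI := hJ.1
    have h1 : Module.finrank k (Coh.HH X (CohB1.tensorMod ((Coh.push i).obj I) L) 0) =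
        Module.finrank k (Coh.HH (clI y).subscheme (CohB1.tensorMod I L') 0) := by
      rw [(HHCongr k (e I) 0).finrank_eq, (SerreDual.hpush i k rfl (CohB1.tensorMod I L') 0).finrank_eq]
    have hseq : (twistSeq (ShortComplex.mk ι (cokernel.π ι) (cokernel.condition ι)) L').ShortExact :=
      twistSeq_shortExact hLY { exact := ShortComplex.exact_cokernel ι }
    have h2 : Module.finrank k (Coh.HH (clI y).subscheme (CohB1.tensorMod I L') 0) ≤
        Module.finrank k (Coh.HH (clI y).subscheme (CohB1.tensorMod (Coh.structureModule _) L') 0) :=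
      (h0_le k hseq hJ (isCoh_twist hLY hO) (isCoh_twist hLY (isCoh_cokernel ι hIc.1 hO))).1
    have h3 := h0_le_deg k hY hLY hdegY
    rw [← (HHCongr k (unitTensorIso L') 0).finrank_eq] at h3
    exact h1.le.trans (h2.trans (by omega))

end Groth.Agent.Surf15
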