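import Groth.Agent.Surf15.H2Bound
import Groth.Agent.Surf15.H0
import Groth.Agent.AmpleLib.Compose
import Groth.Agent.AmpleLib.Relative2

/-!
# Surf15: sections, the index theorem and numerical invariance of `χ` on integral surfaces
-/

set_option autoImplicit false
set_option linter.style.haveILetI false
set_option backward.isDefEq.respectTransparency.types false

universe u

open CategoryTheory CategoryTheory.Limits AlgebraicGeometry Opposite TopologicalSpace
open Groth.Agent.Coherent Groth.Agent.PicLib Groth.Agent.AmpleLib Groth.Agent.EulerLib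
open Groth.Agent.CurveRR24 Groth.Agent.DimLib Groth.Agent.AssSch12 Groth.Agent.AbCubeLib

namespace Groth.Agent.Surf15

variable {X : Scheme.{u}}

/-- An invertible module is relatively ample for the identity. -/
theorem isRelAmple_id {L : X.Modules} (hL : PicF.IsInvertible L) : RelAmple.IsRelAmple (𝟙 X) L := by
  refine (isRelAmple_iff (𝟙 X)).2 ⟨inferInstance, fun V => ?_⟩
  haveI : IsAffine (((𝟙 X) ⁻¹ᵁ V.1 : X.Opens) : Scheme.{u}) := V.2.preimage (𝟙 X)
  exact isAmple_of_isQuasiAffine (PicLoc.isInvertible_pullback _ hL)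

/-- High twists of an invertible module by an ample one are ample. -/
theorem eventually_isAmple_twist {H L : X.Modules} (hH : CohB1.IsAmple H) (hL : PicF.IsInvertible L) :
    ∃ N : ℕ, ∀ n, N ≤ n → CohB1.IsAmple (CohB1.tensorMod L (CohB1.tensorPow H n)) := by
  obtain ⟨N, hN⟩ := eventually_isAmple_tensor_pullback (𝟙 X) hH (isRelAmple_id hL)
  refine ⟨N, fun n hn => isAmple_of_iso (AmpleLib.tensorIso (Iso.refl L) ?_) (hN n hn)⟩
  exact AmpleLib.powIsoOfIso ((Scheme.Modules.pullbackId X).app H) n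

variable (k : Type u) [Field k] [X.Over (Spec (CommRingCat.of k))]
  [IsProper (X ↘ Spec (CommRingCat.of k))]

include k in
/-- Every integer combination of two classes is realised. -/
theorem exists_zcomb (hX : topologicalKrullDim X ≤ ((2 : ℕ) : WithBot ℕ∞)) (a : InvCl X) (z : ℤ) :
    ∃ c : InvCl X, ∀ d, B k c d = z * B k a d := by
  obtain ⟨b, hb⟩ := exists_inv a
  refine ⟨a ^ z.toNat * b ^ (-z).toNat, fun d => ?_⟩
  rw [B_mul_left k hX, B_pow_left k hX, B_pow_left k hX, B_inv_left k hX hb]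
  linear_combination B k a d * Int.toNat_sub_toNat_neg z

include k in
/-- A nonzero section: the intersection with an ample module is positive unless the module is trivial. -/
theorem B_sec [IsIntegral X] (hX : topologicalKrullDim X = ((2 : ℕ) : WithBot ℕ∞)) {L : X.Modules}
    (hL : PicF.IsInvertible L) {s : Γ(L, ⊤)} (hs : s ≠ 0) {P : X.Modules} (hP : CohB1.IsAmple P) :
    0 < B k (InvCl.mk L hL) (InvCl.mk P hP.1) ∨ Nonempty (L ≅ Coh.structureModule X) := by
  haveI := isNoetherian_of_proper (X := X) k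
  obtain ⟨S, hS, ⟨e₁⟩, ⟨e₂⟩, hQ, hsupp, hd, hdeg⟩ := exists_cut k hX.le hL hs
  rcases (CohB1.support S.X₃).eq_empty_or_nonempty with h0 | ⟨z₀, hz₀⟩
  · right
    haveI := hS.mono_f
    haveI : Epi S.f := hS.exact.epi_f
      ((isZero_of_support_eq_empty h0).eq_of_tgt _ _)
    haveI : IsIso S.f := isIso_of_mono_of_epi _
    exact ⟨e₂.symm ≪≫ (asIso S.f).symm ≪≫ e₁⟩
  · left
    rw [hsupp] at hz₀
    let q := X ↘ Spec (CommRingCat.of k)
    obtain ⟨w, hw, -, hwmax⟩ := exists_maximal_mem q (S := (glocus L s : Set X)ᶜ)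
      (η := genericPoint X) hz₀ (fun w _ _ => genericPoint_specializes w)
    obtain ⟨W₀, hwW₀, g₀, hg₀⟩ := exists_isGen hL w
    obtain ⟨W, hW, hwW, hWW₀⟩ := exists_isAffineOpen_mem_and_subset (x := w) (U := W₀) hwW₀
    have hg := hg₀.restrict (show W ≤ W₀ from hWW₀)
    let c := hg.coef le_rfl (resM L le_top s)
    have hbo : glocus L s ⊓ W = X.basicOpen c := glocus_inf s hg
    have h1 := ptDim_le_add_of_minimal_zero q hW {c} (genericPoint_specializes w) hwW
      (fun r hr => by
        rw [Finset.mem_singleton.1 hr]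
        intro h
        rw [← hbo] at h
        exact hw h.1)
      (fun y _ hyw hyW hyc => (hwmax y (fun hyU =>
        hyc c (Finset.mem_singleton_self c) (hbo ▸ ⟨hyU, hyW⟩)) hyw).symm)
    rw [Finset.card_singleton, ptDim_genericPoint k hX] at h1
    have hge : ((1 : ℕ) : WithBot ℕ∞) ≤ topologicalKrullDim (CohB1.support S.X₃) := by
      rw [hsupp]
      refine le_trans ?_ (topologicalKrullDim_closed_eq_iSup q
        (glocus L s).2.isClosed_compl).ge
      refine le_trans ?_ (le_iSup (fun x : ((glocus L s : Set X)ᶜ : Set X) => (ptDim q x.1 : WithBot ℕ∞)) ⟨w, hw⟩)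
      exact_mod_cast (by omega : 1 ≤ ptDim q w)
    have hpos := interDeg_pos k 1 ![P] (fun i => by fin_cases i; exact hP) S.X₃ hQ (le_antisymm hd hge)
    rw [← hdeg, ← interDeg_one_class k S.X₃]
    convert hpos using 2
    funext i
    fin_cases i
    rfl

include k in
/-- `h⁰` of the large powers of a class with positive square and positive degree. -/
theorem exists_sec_pow [IsIntegral X] (hX : topologicalKrullDim X = ((2 : ℕ) : WithBot ℕ∞))
    {H : X.Modules} (hH : CohB1.IsAmple H) {L : X.Modules} (hL : PicF.IsInvertible L)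
    (hLL : 0 < B k (InvCl.mk L hL) (InvCl.mk L hL))
    (hLH : 0 < B k (InvCl.mk H hH.1) (InvCl.mk L hL)) :
    ∃ N : ℕ, ∀ n : ℕ, N ≤ n → Nontrivial (Coh.HH X (CohB1.tensorPow L n) 0) := by
  haveI := isNoetherian_of_proper (X := X) k
  obtain ⟨n₀, hn₀⟩ := exists_h2_bound k hX hH
  set a := InvCl.mk L hL
  set χ := chiCl k (Coh.structureModule X)
  let c := 2 * (χ a - χ 1) - B k a a
  refine ⟨n₀.toNat + c.natAbs + 2 * (χ 1).natAbs + 2, fun n hn => ?_⟩
  have hP := isInvertible_tensorPow hL n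
  have h2 : Subsingleton (Coh.HH X (CohB1.tensorPow L n) 2) := hn₀ _ hP (by
    rw [InvCl.mk_tensorPow hL, B_pow_right k hX.le]
    have : (n₀ : ℤ) < n := by omega
    nlinarith)
  have hchi : 0 < Curv2.euler k X (CohB1.tensorPow L n) := by
    rw [euler_eq_chiCl k hX.le hP, InvCl.mk_tensorPow hL]
    have h := chi_pow k hX.le a n
    have h1 : -(c.natAbs : ℤ) ≤ c := by omega
    have h3 : -((χ 1).natAbs : ℤ) ≤ χ 1 := by omega
    have h4 : (c.natAbs : ℤ) + 2 * (χ 1).natAbs + 2 ≤ n := by omega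
    nlinarith [mul_le_mul_of_nonneg_left (show (1 : ℤ) ≤ B k a a by omega) (show (0 : ℤ) ≤ n * n by positivity)]
  haveI := isQCoh_of_isInvertible hP
  have hv : ∀ q, 2 < q → Subsingleton (Coh.HH X (CohB1.tensorPow L n) q) := fun q hq =>
    haveI := isSeparated_of_proper (X := X) k
    subsingleton_HH_of_dim (CohB1.tensorPow L n) hX.le hq
  rw [euler_eq_sum k X _ 2 hv] at hchi
  simp only [Finset.sum_range_succ, Finset.sum_range_zero] at hchi
  haveI := h2
  rw [Module.finrank_zero_of_subsingleton (M := Coh.HH X (CohB1.tensorPow L n) 2)] at hchi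
  simp at hchi
  rcases subsingleton_or_nontrivial (Coh.HH X (CohB1.tensorPow L n) 0) with h | h
  · rw [Module.finrank_zero_of_subsingleton (M := Coh.HH X (CohB1.tensorPow L n) 0)] at hchi
    omega
  · exact h

include k in
/-- Conversely, a class of positive square with a section is positive on every ample one. -/
theorem B_pos_of_sec_pow [IsIntegral X] (hX : topologicalKrullDim X = ((2 : ℕ) : WithBot ℕ∞))
    {H : X.Modules} (hH : CohB1.IsAmple H) {L : X.Modules} (hL : PicF.IsInvertible L)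
    (hLL : 0 < B k (InvCl.mk L hL) (InvCl.mk L hL)) {n : ℕ} (hn : 0 < n)
    (h : Nontrivial (Coh.HH X (CohB1.tensorPow L n) 0)) :
    0 < B k (InvCl.mk L hL) (InvCl.mk H hH.1) := by
  obtain ⟨s, hs⟩ := exists_ne_zero_of_nontrivial k h
  have hP := isInvertible_tensorPow hL n
  have hn' : (0 : ℤ) < n := by exact_mod_cast hn
  rcases B_sec k hX hP hs hH with h1 | ⟨⟨e⟩⟩
  · rw [InvCl.mk_tensorPow hL, B_pow_left k hX.le] at h1
    exact pos_of_mul_pos_right h1 hn'.le
  · have h1 : InvCl.mk L hL ^ n = 1 := (InvCl.mk_tensorPow hL n).symm.trans (InvCl.mk_eq _ _ e)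
    have h2 := B_pow_left k hX.le (InvCl.mk L hL) (InvCl.mk L hL) n
    rw [h1, B_one_left k hX.le] at h2
    nlinarith

include k in
/-- **Index theorem**, first form: orthogonal to an ample module means nonpositive square. -/
theorem B_self_nonpos [IsIntegral X] (hX : topologicalKrullDim X = ((2 : ℕ) : WithBot ℕ∞))
    {H : X.Modules} (hH : CohB1.IsAmple H) (a : InvCl X) (h : B k a (InvCl.mk H hH.1) = 0) :
    B k a a ≤ 0 := by
  by_contra hpos
  push Not at hpos
  obtain ⟨L, hL, rfl⟩ := InvCl.exists_rep a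
  obtain ⟨m, hm⟩ := eventually_isAmple_twist hH hL
  have hA := hm m le_rfl
  have h1 : B k (InvCl.mk L hL) (InvCl.mk _ hA.1) = B k (InvCl.mk L hL) (InvCl.mk L hL) := by
    rw [show InvCl.mk _ hA.1 = InvCl.mk L hL * InvCl.mk H hH.1 ^ m by
      rw [← InvCl.mk_tensorPow hH.1, InvCl.mk_mul], B_mul_right k hX.le, B_pow_right k hX.le, h]
    ring
  obtain ⟨N, hN⟩ := exists_sec_pow k hX hA hL hpos (by rw [B_comm k, h1]; exact hpos)
  have h2 := B_pos_of_sec_pow k hX hH hL hpos (Nat.succ_pos N) (hN _ N.le_succ)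
  omega

include k in
/-- **Index theorem**: the orthogonal of a class of positive square is negative semidefinite. -/
theorem B_index [IsIntegral X] (hX : topologicalKrullDim X = ((2 : ℕ) : WithBot ℕ∞))
    {H : X.Modules} (hH : CohB1.IsAmple H) {a b : InvCl X} (ha : 0 < B k a a) (hab : B k a b = 0) :
    B k b b ≤ 0 := by
  set h := InvCl.mk H hH.1
  have hah : B k a h ≠ 0 := fun h0 => (B_self_nonpos k hX hH a h0).not_gt ha
  obtain ⟨c₁, hc₁⟩ := exists_zcomb k hX.le b (B k a h)
  obtain ⟨c₂, hc₂⟩ := exists_zcomb k hX.le a (-B k b h)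
  have key := B_self_nonpos k hX hH (c₁ * c₂) (by rw [B_mul_left k hX.le, hc₁, hc₂]; ring)
  rw [B_mul_left k hX.le, B_mul_right k hX.le, B_mul_right k hX.le, hc₁, hc₁, hc₂, hc₂,
    B_comm k b c₁, B_comm k b c₂, B_comm k a c₁, B_comm k a c₂, hc₁, hc₁, hc₂, hc₂,
    B_comm k b a, hab] at key
  by_contra hb
  push Not at hb
  have h1 : 0 < B k a h * B k a h := mul_self_pos.2 hah
  have h2 : 0 ≤ B k b h * B k b h := mul_self_nonneg _
  nlinarith [mul_pos h1 hb, mul_nonneg h2 ha.le]

include k in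
/-- The determinant form of the index theorem. -/
theorem B_sq_ge [IsIntegral X] (hX : topologicalKrullDim X = ((2 : ℕ) : WithBot ℕ∞))
    {H : X.Modules} (hH : CohB1.IsAmple H) {a : InvCl X} (ha : 0 < B k a a) (b : InvCl X) :
    B k a a * B k b b ≤ B k a b * B k a b := by
  obtain ⟨c₁, hc₁⟩ := exists_zcomb k hX.le b (B k a a)
  obtain ⟨c₂, hc₂⟩ := exists_zcomb k hX.le a (-B k a b)
  have hc : ∀ d, B k (c₁ * c₂) d = B k a a * B k b d - B k a b * B k a d := fun d => by
    rw [B_mul_left k hX.le, hc₁, hc₂]; ring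
  have h0 : B k a (c₁ * c₂) = 0 := by rw [B_comm k, hc, B_comm k b a]; ring
  have key := B_index k hX hH ha h0
  rw [hc, B_comm k b (c₁ * c₂), B_comm k a (c₁ * c₂), hc, hc, B_comm k b a] at key
  nlinarith

include k in
/-- Numerical invariance of `χ` over a base where some ample section has irreducible zero locus. -/
theorem chi_le_one_of_irreducible [IsIntegral X] (hX : topologicalKrullDim X = ((2 : ℕ) : WithBot ℕ∞))
    {P : X.Modules} (hP : CohB1.IsAmple P) {s : Γ(P, ⊤)} (hs : s ≠ 0) (η : X)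
    (hη : η ∉ glocus P s) (hηT : (glocus P s : Set X)ᶜ ⊆ closure {η}) (a : InvCl X)
    (haa : B k a a = 0) (hap : B k a (InvCl.mk P hP.1) = 0) :
    chiCl k (Coh.structureModule X) a ≤ chiCl k (Coh.structureModule X) 1 := by
  haveI := isNoetherian_of_proper (X := X) k
  set χ := chiCl k (Coh.structureModule X)
  set p := InvCl.mk P hP.1
  by_contra hc
  push Not at hc
  obtain ⟨n₀, hn₀⟩ := exists_h2_bound_of_irreducible k hX hP hs η hηT hη
  have hpp : 0 < B k p p := B_ample_pos k hX hP hP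
  let m : ℕ := n₀.toNat + 1
  have hm : n₀ < (m : ℤ) * B k p p := by
    have : n₀ < (m : ℤ) := by omega
    nlinarith
  obtain ⟨S, hS, ⟨e₁⟩, ⟨e₂⟩, hQ, hsupp, hd, hdeg⟩ := exists_cut k hX.le hP.1 hs
  have hclη : closure {η} = (glocus P s : Set X)ᶜ :=
    ((glocus P s).2.isClosed_compl.closure_subset_iff.2 (Set.singleton_subset_iff.2 hη)).antisymm hηT
  have hdη : topologicalKrullDim (closure {η} : Set X) ≤ ((1 : ℕ) : WithBot ℕ∞) := by
    rw [hclη, ← hsupp]; exact hd
  obtain ⟨μ, hμ⟩ := exists_deg_eq_mult k hdη hQ (hsupp.le.trans hηT)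
  have hμ0 : (1 : ℤ) ≤ μ := by
    rcases Nat.eq_zero_or_pos μ with h | h
    · have := hμ p
      rw [hdeg, h, Nat.cast_zero, zero_mul] at this
      exact absurd this hpp.ne'
    · exact_mod_cast h
  let D : ℤ := (m : ℤ) * B k p p
  obtain ⟨C, hC⟩ := exists_h0_bound k hQ hd D
  have hdegy : ∀ z : InvCl X, B k p z ≤ D → ∀ y : X, y ∈ CohB1.support S.X₃ →
      topologicalKrullDim (closure {y} : Set X) = ((1 : ℕ) : WithBot ℕ∞) → deg k (clM y) z ≤ D := by
    intro z hz y hy hy1
    have hye : y = η := by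
      have hyc : y ∈ closure {η} := hηT (hsupp.le hy)
      by_contra hne
      have hlt := ptDim_lt_of_specializes (X ↘ Spec (CommRingCat.of k))
        (specializes_iff_mem_closure.2 hyc) (Ne.symm hne)
      rw [topologicalKrullDim_eq_ptDim_of_isGenericPoint (X ↘ Spec (CommRingCat.of k))
        isGenericPoint_closure] at hy1 hdη
      have h1 : ptDim (X ↘ Spec (CommRingCat.of k)) y = 1 := by exact_mod_cast hy1
      have h2 : ptDim (X ↘ Spec (CommRingCat.of k)) η ≤ 1 := by exact_mod_cast hdη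
      omega
    subst hye
    rw [← hdeg, hμ] at hz
    have hD0 : 0 ≤ D := by positivity
    rcases le_or_gt (deg k (clM y) z) 0 with h | h <;> nlinarith
  obtain ⟨P', hP', hPP'⟩ : ∃ P' : X.Modules, ∃ hP' : PicF.IsInvertible P', p * InvCl.mk P' hP' = 1 := by
    obtain ⟨b, hb⟩ := exists_inv p
    obtain ⟨P', hP', rfl⟩ := InvCl.exists_rep b
    exact ⟨P', hP', hb⟩
  have key : ∀ j : ℕ, j ≤ m + 1 → ∀ (N : X.Modules) (hN : PicF.IsInvertible N),
      B k p (InvCl.mk N hN) < (j : ℤ) * B k p p → Module.finrank k (Coh.HH X N 0) ≤ j * C := by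
    intro j
    induction j with
    | zero =>
      intro _ N hN hlt
      rcases subsingleton_or_nontrivial (Coh.HH X N 0) with h | h
      · rw [Module.finrank_zero_of_subsingleton]; exact Nat.zero_le _
      · obtain ⟨t, ht⟩ := exists_ne_zero_of_nontrivial k h
        exfalso
        rw [Nat.cast_zero, zero_mul, B_comm k] at hlt
        rcases B_sec k hX hN ht hP with h1 | ⟨⟨e⟩⟩
        · exact lt_irrefl _ (h1.trans hlt)
        · rw [InvCl.mk_eq hN isInvertible_structureModule e] at hlt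
          exact lt_irrefl _ ((B_one_left k hX.le p).ge.trans_lt hlt)
    | succ j ih =>
      intro hj N hN hlt
      let N' := CohB1.tensorMod N P'
      have hN' : PicF.IsInvertible N' := isInvertible_tensorMod hN hP'
      have hB : B k p (InvCl.mk N' hN') = B k p (InvCl.mk N hN) - B k p p := by
        rw [← InvCl.mk_mul hN hP', B_mul_right k hX.le, B_inv_right k hX.le hPP']
        ring
      have e : CohB1.tensorMod S.X₂ N' ≅ N := AmpleLib.tensorIso e₂ (Iso.refl N') ≪≫ (Quotient.exact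
        (show InvCl.mk (CohB1.tensorMod P N') (isInvertible_tensorMod hP.1 hN') = InvCl.mk N hN by
          rw [← InvCl.mk_mul hP.1 hN', ← InvCl.mk_mul hN hP', mul_left_comm, hPP', mul_one])).some
      have hNc : Coh.IsCoh N' := isCoh_iso (unitTensorIso N') (isCoh_twist hN' (isCoh_O k))
      have e' : CohB1.tensorMod S.X₁ N' ≅ N' := AmpleLib.tensorIso e₁ (Iso.refl N') ≪≫ unitTensorIso N'
      have h12 := (h0_le k (twistSeq_shortExact hN' hS) (isCoh_iso e'.symm hNc)
        (isCoh_iso e.symm (isCoh_iso (unitTensorIso N) (isCoh_twist hN (isCoh_O k))))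
        (isCoh_twist hN' hQ)).2
      rw [← (HHCongr k e 0).finrank_eq]
      refine h12.trans ?_
      rw [Nat.succ_mul]
      refine add_le_add ?_ (hC N' hN' (hdegy _ ?_))
      · rw [show (twistSeq S N').X₁ = CohB1.tensorMod S.X₁ N' from rfl, (HHCongr k e' 0).finrank_eq]
        exact ih (by omega) N' hN' (by rw [hB]; push_cast at hlt; linarith)
      · rw [hB]
        push_cast at hlt
        have : (j : ℤ) ≤ m := by exact_mod_cast (by omega : j ≤ m)
        show _ ≤ (m : ℤ) * B k p p
        nlinarith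
  -- the Euler characteristics grow
  obtain ⟨n, hn⟩ : ∃ n : ℕ, ((m + 1) * C : ℕ) < χ (p ^ m) + (n : ℤ) * (χ a - χ 1) :=
    ⟨((((m + 1) * C : ℕ) : ℤ) - χ (p ^ m)).toNat + 1, by
      generalize (((m + 1) * C : ℕ) : ℤ) = M
      have h1 := Int.self_le_toNat (M - χ (p ^ m))
      generalize (M - χ (p ^ m)).toNat = T at h1
      have h2 : ((T + 1 : ℕ) : ℤ) * 1 ≤ ((T + 1 : ℕ) : ℤ) * (χ a - χ 1) :=
        mul_le_mul_of_nonneg_left (by omega) (by positivity)
      push_cast at h2 ⊢
      linarith⟩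
  obtain ⟨N, hN, hNz⟩ := InvCl.exists_rep (a ^ n * p ^ m)
  have hBN : B k p (InvCl.mk N hN) = (m : ℤ) * B k p p := by
    rw [hNz, B_mul_right k hX.le, B_pow_right k hX.le, B_pow_right k hX.le, B_comm k p a, hap]
    ring
  have hχ : Curv2.euler k X N = χ (p ^ m) + (n : ℤ) * (χ a - χ 1) := by
    rw [euler_eq_chiCl k hX.le hN, hNz]
    have h1 : B k (a ^ n) (p ^ m) = 0 := by rw [B_pow_left k hX.le, B_pow_right k hX.le, hap]; ring
    have h2 := chi_pow k hX.le a n
    rw [haa] at h2
    rw [B] at h1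
    linarith
  haveI := hn₀ N hN (hBN ▸ hm)
  haveI := isQCoh_of_isInvertible hN
  have hv : ∀ q, 2 < q → Subsingleton (Coh.HH X N q) := fun q hq =>
    haveI := isSeparated_of_proper (X := X) k
    subsingleton_HH_of_dim N hX.le hq
  rw [euler_eq_sum k X _ 2 hv] at hχ
  simp only [Finset.sum_range_succ, Finset.sum_range_zero] at hχ
  rw [Module.finrank_zero_of_subsingleton (M := Coh.HH X N 2)] at hχ
  simp at hχ
  have h0 := key (m + 1) le_rfl N hN (by rw [hBN]; push_cast; linarith)
  omega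

open BaseRat in
include k in
/-- **Numerical invariance of `χ`**. -/
theorem chi_eq_one_of_numTrivial [IsIntegral X] (hX : topologicalKrullDim X = ((2 : ℕ) : WithBot ℕ∞))
    {H : X.Modules} (hH : CohB1.IsAmple H) (a : InvCl X)
    (haa : B k a a = 0) (hah : B k a (InvCl.mk H hH.1) = 0) :
    chiCl k (Coh.structureModule X) a = chiCl k (Coh.structureModule X) 1 := by
  haveI := isNoetherian_of_proper (X := X) k
  obtain ⟨N, hN, t₀, t₁, hU, hη, hbase⟩ := exists_pencil k hX hH
  have hP : CohB1.IsAmple (CohB1.tensorPow H N) := (isAmple_pow_iff hH.1 N hN).2 hH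
  haveI := BaseRat.isIntegral k (X := X)
  obtain ⟨s, hs, η, hη', hηT⟩ := exists_irreducible_section k hX hP t₀ t₁ hU hη hbase
  have hX' : topologicalKrullDim (XK k X) = ((2 : ℕ) : WithBot ℕ∞) :=
    (DimLib.topologicalKrullDim_bc (X ↘ Spec (CommRingCat.of k)) (RatFunc k)).trans hX
  have key : ∀ c : InvCl X, B k c c = 0 → B k c (InvCl.mk H hH.1) = 0 →
      chiCl k (Coh.structureModule X) c ≤ chiCl k (Coh.structureModule X) 1 := by
    intro c hcc hch
    obtain ⟨L, hL, rfl⟩ := InvCl.exists_rep c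
    have h := chi_le_one_of_irreducible (RatFunc k) hX' (isAmple_pullback_of_isAffineHom (pr k X) hP)
      hs η hη' hηT (InvCl.mk _ (PicLoc.isInvertible_pullback (pr k X) hL))
      (by rw [B_bc k hX.le hL hL]; exact hcc)
      (by rw [B_bc k hX.le hL hP.1, InvCl.mk_tensorPow hH.1, B_pow_right k hX.le, hch, mul_zero])
    haveI := isQCoh_of_isInvertible hL
    haveI : Coh.IsQCoh (Coh.structureModule X) := isQCoh_structureModule (X := X)
    obtain ⟨eO⟩ := exists_pullStructureIso (pr k X) (X := X)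
    rwa [← euler_eq_chiCl (RatFunc k) hX'.le, chiCl_one, ← euler_congr (RatFunc k) (XK k X) eO,
      CurveRR24.euler_bc (isPullback k X) L, CurveRR24.euler_bc (isPullback k X) (Coh.structureModule X),
      euler_eq_chiCl k hX.le hL, ← chiCl_one k] at h
  refine le_antisymm (key a haa hah) ?_
  obtain ⟨b, hb⟩ := exists_inv a
  have h1 := key b (by rw [B_inv_inv k hX.le hb hb, haa]) (by rw [B_inv_left k hX.le hb, hah, neg_zero])
  have h2 : B k a b = 0 := by rw [B_inv_right k hX.le hb, haa, neg_zero]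
  rw [B, hb] at h2
  linarith

end Groth.Agent.Surf15
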