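import Groth.Agent.Surf15.Divisor
import Groth.Agent.Surf15.IntPush
import Groth.Agent.Surf15.Hodge
import Groth.Agent.VarietyLib.PullClass
import Groth.Agent.ProjLib.BlowUpBasics
import Groth.Agent.BlowUpLib.Exists
import Groth.Agent.BlowUpLib.Proper
import Groth.Agent.ModPairLib.EffCartier
import Groth.Agent.S7749

/-!
# Surf15: index theorem on irreducible proper surfaces by transfer to projective integral surfaces
-/

set_option autoImplicit false
set_option linter.style.haveILetI false
set_option backward.isDefEq.respectTransparency.types false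

universe u

open CategoryTheory CategoryTheory.Limits AlgebraicGeometry Opposite TopologicalSpace
open Groth.Agent.Coherent Groth.Agent.PicLib Groth.Agent.AmpleLib Groth.Agent.EulerLib
open Groth.Agent.CurveRR24 Groth.Agent.DimLib Groth.Agent.AssSch12 Groth.Agent.VarietyLib

namespace Groth.Agent.Surf15

variable {X : Scheme.{u}}

/-- A nonempty open of an integral scheme is scheme-theoretically dense. -/
theorem isDenseOpen_of_nonempty [IsIntegral X] {U : X.Opens} (h : (U : Set X).Nonempty) :
    ModPairLib.IsDenseOpen U := by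
  intro W s hs
  rcases (W : Set X).eq_empty_or_nonempty with hW | hW
  · refine X.IsSheaf.section_ext fun x hx => ?_
    exact absurd hx fun h => Set.notMem_empty x (hW.subset h)
  · haveI : Nonempty ((W ⊓ U : X.Opens) : Set X) :=
      (nonempty_preirreducible_inter W.2 U.2 hW h).to_subtype
    haveI : Nonempty (W ⊓ U : X.Opens) := (nonempty_preirreducible_inter W.2 U.2 hW h).to_subtype
    exact (map_eq_zero_iff _ (map_injective_of_isIntegral (X := X) (homOfLE inf_le_left : W ⊓ U ⟶ W))).1 hs

/-- An effective Cartier ideal pulls back to one on an integral scheme not mapping into it. -/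
theorem isEffCartier_comap_integral {Z : Scheme.{u}} [IsIntegral Z] {E : X.IdealSheafData}
    (hE : BlowUp.IsEffCartierIdeal E) (f : Z ⟶ X) {z : Z} (hz : f z ∉ E.support) :
    BlowUp.IsEffCartierIdeal (E.comap f) :=
  ModPairLib.isEffCartier_comap_of_dense hE f (isDenseOpen_of_nonempty ⟨z, hz⟩)

theorem mem_support_structureModule (x : X) : x ∈ CohB1.support (Coh.structureModule X) := by
  intro h
  haveI : Subsingleton ((Coh.structureModule X).presheaf.stalk x) := h
  haveI : Subsingleton (X.presheaf.stalk x) := (bijective_smul_unitOne x).1.subsingleton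
  exact not_subsingleton (X.presheaf.stalk x) inferInstance

theorem support_structureModule_univ : CohB1.support (Coh.structureModule X) = Set.univ :=
  Set.eq_univ_of_forall mem_support_structureModule

variable (k : Type u) [Field k] [X.Over (Spec (CommRingCat.of k))]
  [IsProper (X ↘ Spec (CommRingCat.of k))]

include k in
theorem ptDim_genericPoint_irred [IrreducibleSpace X] {d : ℕ} (hX : topologicalKrullDim X = (d : WithBot ℕ∞)) :
    ptDim (X ↘ Spec (CommRingCat.of k)) (genericPoint X) = d := by
  have h := topologicalKrullDim_eq_ptDim_genericPoint (X ↘ Spec (CommRingCat.of k)) (X := X)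
  rw [hX] at h
  exact_mod_cast h.symm

/-- The pairing on an irreducible surface is the multiplicity times that on the reduced one. -/
theorem B_eq_mult_mul [IrreducibleSpace X] (hX : topologicalKrullDim X = ((2 : ℕ) : WithBot ℕ∞))
    (a b : InvCl X) :
    B k a b = (mult (Coh.structureModule X) (genericPoint X) : ℤ) *
      interDeg (Fin.cons a (Fin.cons b Fin.elim0) : Fin 2 → InvCl X) (chiCl k (clM (genericPoint X))) := by
  haveI := isNoetherian_of_proper (X := X) k
  rw [B_eq_interDeg]
  refine interDeg_eq_mult_mul k (isCoh_structureModule X)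
    (fun x _ => (genericPoint_closure X).ge (Set.mem_univ x)) ?_ _
  rw [dim_closure_eq_ptDim k, ptDim_genericPoint_irred k hX]

include k in
theorem mult_genericPoint_pos [IrreducibleSpace X] (hX : topologicalKrullDim X = ((2 : ℕ) : WithBot ℕ∞)) :
    1 ≤ mult (Coh.structureModule X) (genericPoint X) := by
  haveI := isNoetherian_of_proper (X := X) k
  refine mult_pos_of_mem (isCoh_structureModule X) (r := 2) ?_ (mem_support_structureModule _) ?_
  · rw [support_structureModule_univ]
    exact ((Homeomorph.Set.univ (X : Type u)).isHomeomorph.topologicalKrullDim_eq.trans hX).le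
  · rw [dim_closure_eq_ptDim k, ptDim_genericPoint_irred k hX]

variable {Z : Scheme.{u}} [Z.Over (Spec (CommRingCat.of k))] [IsProper (Z ↘ Spec (CommRingCat.of k))]

/-- The pairing of pulled back classes. -/
theorem B_pull_eq [IsIntegral Z] [IrreducibleSpace X] (g : Z ⟶ X)
    (hg : g ≫ (X ↘ Spec (CommRingCat.of k)) = Z ↘ Spec (CommRingCat.of k))
    (hZ : topologicalKrullDim Z = ((2 : ℕ) : WithBot ℕ∞)) (hgen : g (genericPoint Z) = genericPoint X)
    (a b : InvCl X) :
    B k (pullHom g a) (pullHom g b) = (g.residueDegree (genericPoint Z) : ℤ) *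
      interDeg (Fin.cons a (Fin.cons b Fin.elim0) : Fin 2 → InvCl X) (chiCl k (clM (genericPoint X))) := by
  rw [B_eq_interDeg, ← hgen, ← interDeg_pull k g hg hZ]
  congr 1
  funext i
  fin_cases i <;> rfl

include k in
/-- A projective integral surface over an irreducible one on which a given curve becomes Cartier. -/
theorem exists_cover [IrreducibleSpace X] (hX : topologicalKrullDim X = ((2 : ℕ) : WithBot ℕ∞))
    {y : X} (hy : y ≠ genericPoint X) :
    ∃ (Z : Scheme.{u}) (_ : Z.Over (Spec (CommRingCat.of k))) (_ : IsProper (Z ↘ Spec (CommRingCat.of k)))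
      (_ : IsIntegral Z) (g : Z ⟶ X) (_ : Surjective g) (H : Z.Modules), CohB1.IsAmple H ∧
      g ≫ (X ↘ Spec (CommRingCat.of k)) = Z ↘ Spec (CommRingCat.of k) ∧
      g (genericPoint Z) = genericPoint X ∧ g.residueDegree (genericPoint Z) ≠ 0 ∧
      topologicalKrullDim Z = ((2 : ℕ) : WithBot ℕ∞) ∧
      BlowUp.IsEffCartierIdeal ((clI y).comap g) := by
  haveI := isNoetherian_of_proper (X := X) k
  let p := X ↘ Spec (CommRingCat.of k)
  let ξ := genericPoint X
  have hξy : ξ ∉ (clI y).support := fun h => by
    have h' : ξ ∈ closure ({y} : Set X) := (support_clI y).le h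
    exact hy ((specializes_iff_mem_closure.2 h').antisymm (genericPoint_specializes y)).eq
  obtain ⟨X', b, hb⟩ := BlowUpLib.exists_isBlowUp (clI y)
  have hfin : BlowUp.IsFiniteTypeIdeal (clI y) := fun U =>
    have := IsLocallyNoetherian.component_noetherian U
    IsNoetherian.noetherian _
  haveI := BlowUpLib.isProper_of_isBlowUp hb hfin
  letI : X'.Over (Spec (CommRingCat.of k)) := ⟨b ≫ p⟩
  haveI : IsProper (X' ↘ Spec (CommRingCat.of k)) := inferInstanceAs (IsProper (b ≫ p))
  let W : X.Opens := ⟨((clI y).support : Set X)ᶜ, (clI y).support.2.isOpen_compl⟩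
  have hW : Disjoint ((clI y).support : Set X) (W : Set X) := disjoint_compl_right
  obtain ⟨w₀, hw₀⟩ : ∃ w : X', b w = ξ := by
    haveI := ProjLib.isIso_morphismRestrict hb W hW
    obtain ⟨w, hw⟩ := (b ∣_ W).surjective ⟨ξ, hξy⟩
    refine ⟨(b ⁻¹ᵁ W).ι w, ?_⟩
    rw [← Scheme.Hom.comp_apply, ← morphismRestrict_ι, Scheme.Hom.comp_apply, hw]
    rfl
  haveI : Surjective b := by
    constructor
    rw [← Set.range_eq_univ, ← Set.univ_subset_iff, ← genericPoint_closure X]
    exact closure_minimal (Set.singleton_subset_iff.2 ⟨w₀, hw₀⟩) b.isClosedMap.isClosed_range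
  obtain ⟨z, hz, hzd⟩ := exists_point_over k b rfl ξ
  let i := (clI z).subschemeι
  haveI : IsIntegral (clI z).subscheme := isIntegral_clI z
  letI : ((clI z).subscheme).Over (Spec (CommRingCat.of k)) := ⟨i ≫ (X' ↘ Spec (CommRingCat.of k))⟩
  haveI : IsProper ((clI z).subscheme ↘ Spec (CommRingCat.of k)) :=
    inferInstanceAs (IsProper (i ≫ (X' ↘ Spec (CommRingCat.of k))))
  have hdT : topologicalKrullDim (clI z).subscheme = ((2 : ℕ) : WithBot ℕ∞) := by
    rw [IsHomeomorph.topologicalKrullDim_eq _ i.isClosedEmbedding.isEmbedding.toHomeomorph.isHomeomorph,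
      range_clι, dim_closure_eq_ptDim k, hzd, ptDim_genericPoint_irred k hX]
  obtain ⟨Z, hZo, hZp, hZi, π, hπ, H, hH, hπq, hπgen, -, hdZ⟩ :=
    exists_chow_integral k (Y := (clI z).subscheme) hdT
  let g : Z ⟶ X := π ≫ i ≫ b
  have hgen : g (genericPoint Z) = ξ := by
    rw [Scheme.Hom.comp_apply, hπgen, Scheme.Hom.comp_apply, clI_genericPoint, hz]
  have hgp : g ≫ p = Z ↘ Spec (CommRingCat.of k) := by
    rw [← hπq, Category.assoc, Category.assoc]
    rfl
  haveI : IsProper g := by
    haveI : IsProper π := hπ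
    infer_instance
  have hsurj : Surjective g := by
    constructor
    rw [← Set.range_eq_univ, ← Set.univ_subset_iff, ← genericPoint_closure X]
    exact closure_minimal (Set.singleton_subset_iff.2 ⟨_, hgen⟩) g.isClosedMap.isClosed_range
  refine ⟨Z, hZo, hZp, hZi, g, hsurj, H, hH, hgp, hgen, residueDegree_ne_zero k g hgp ?_, hdZ, ?_⟩
  · rw [hgen, ptDim_genericPoint_irred k hdZ, ptDim_genericPoint_irred k hX]
  · rw [show (clI y).comap g = ((clI y).comap b).comap (π ≫ i) by
      rw [← Scheme.IdealSheafData.comap_comp]; rfl]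
    refine isEffCartier_comap_integral hb.1 (π ≫ i) (z := genericPoint Z) ?_
    rw [Scheme.Hom.comp_apply, hπgen, clI_genericPoint, Scheme.IdealSheafData.support_comap]
    change b z ∉ (clI y).support
    rwa [hz]

/-- On an integral projective surface a class of square at least zero orthogonal to a class of
positive square is numerically trivial. -/
theorem B_eq_zero_of_index [IsIntegral X] (hX : topologicalKrullDim X = ((2 : ℕ) : WithBot ℕ∞))
    {H : X.Modules} (hH : CohB1.IsAmple H) {a b : InvCl X} (ha : 0 < B k a a) (hab : B k a b = 0)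
    (hb : 0 ≤ B k b b) (c : InvCl X) : B k b c = 0 := by
  have hbb : B k b b = 0 := le_antisymm (B_index k hX hH ha hab) hb
  obtain ⟨c₁, hc₁⟩ := exists_zcomb k hX.le c (B k a a)
  obtain ⟨c₂, hc₂⟩ := exists_zcomb k hX.le a (-B k a c)
  obtain ⟨c', hc'⟩ : ∃ c', ∀ d, B k c' d = B k a a * B k c d - B k a c * B k a d :=
    ⟨c₁ * c₂, fun d => by rw [B_mul_left k hX.le, hc₁, hc₂]; ring⟩
  have h1 : B k a c' = 0 := by rw [B_comm k, hc', B_comm k c a]; ring
  have h2 : B k c' b = B k a a * B k c b := by rw [hc', hab]; ring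
  by_contra hne
  have hne' : B k c' b ≠ 0 := by
    rw [h2, B_comm k c b]
    exact mul_ne_zero ha.ne' hne
  obtain ⟨b', hb'⟩ := exists_zcomb k hX.le b (B k c' b * (|B k c' c'| + 1))
  have key := B_index k hX hH ha (b := b' * c') (by
    rw [B_mul_right k hX.le, B_comm k a b', hb', B_comm k b a, hab, h1]; ring)
  rw [B_mul_left k hX.le, B_mul_right k hX.le, B_mul_right k hX.le, hb', B_comm k b b', hb', hbb,
    hb', B_comm k c' b', hb', B_comm k b c'] at key
  nlinarith [mul_self_pos.2 hne', abs_nonneg (B k c' c'), neg_abs_le (B k c' c'),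
    mul_nonneg (sub_nonneg.2 (show (1 : ℤ) ≤ B k c' b * B k c' b from mul_self_pos.2 hne'))
      (abs_nonneg (B k c' c'))]

/-- **Index theorem** on an irreducible proper surface: classes of nonnegative square orthogonal to
one of positive square have degree zero on curves. -/
theorem deg_clM_eq_zero_of_index [IrreducibleSpace X] (hX : topologicalKrullDim X = ((2 : ℕ) : WithBot ℕ∞))
    {a l : InvCl X} (ha : 0 < B k a a) (hal : B k a l = 0) (hl : 0 ≤ B k l l) {y : X}
    (hy : topologicalKrullDim (closure ({y} : Set X)) = ((1 : ℕ) : WithBot ℕ∞)) :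
    deg k (clM y) l = 0 := by
  classical
  haveI := isNoetherian_of_proper (X := X) k
  let p := X ↘ Spec (CommRingCat.of k)
  have hyd : ptDim p y = 1 := by
    rw [dim_closure_eq_ptDim k] at hy
    exact_mod_cast hy
  have hyne : y ≠ genericPoint X := fun h => by
    rw [h, ptDim_genericPoint_irred k hX] at hyd
    omega
  obtain ⟨Z, _, _, _, g, hsurj, H, hH, hg, hgen, hres, hdZ, hE⟩ := exists_cover k hX hyne
  haveI := isNoetherian_of_proper (X := Z) k
  set r : ℤ := (g.residueDegree (genericPoint Z) : ℤ)
  set m : ℤ := (mult (Coh.structureModule X) (genericPoint X) : ℤ)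
  have hr : 0 < r := Int.natCast_pos.2 (Nat.pos_of_ne_zero hres)
  have hm : 0 < m := Int.natCast_pos.2 (mult_genericPoint_pos k hX)
  have hB : ∀ u v, m * B k (pullHom g u) (pullHom g v) = r * B k u v := fun u v => by
    rw [B_pull_eq k g hg hdZ hgen, B_eq_mult_mul k hX u v]; ring
  have h0 : B k (pullHom g l) (clI' _ hE) = 0 := by
    refine B_eq_zero_of_index k hdZ hH (a := pullHom g a) ?_ ?_ ?_ _
    · exact pos_of_mul_pos_right ((hB a a).symm ▸ mul_pos hr ha) hm.le
    · exact (mul_eq_zero.1 ((hB a l).trans (by rw [hal, mul_zero]))).resolve_left hm.ne'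
    · exact nonneg_of_mul_nonneg_right ((hB l l).symm ▸ mul_nonneg hr.le hl) hm
  let F := ClSub.quotMod ((clI y).comap g)
  have hF : Coh.IsCoh F := isCoh_quotMod _
  have hFd : topologicalKrullDim (CohB1.support F) ≤ ((1 : ℕ) : WithBot ℕ∞) :=
    dim_quotMod_le k hdZ.le hE
  have hsupp : ∀ {z : Z}, z ∈ CohB1.support F → g z ∈ closure ({y} : Set X) := fun {z} hz => by
    have h := support_quotMod_subset _ hz
    rw [Scheme.IdealSheafData.support_comap] at h
    exact (support_clI y).le h
  let S := (finite_top_points (isClosed_support F (locallyFinGen_of_isFT F hF.2)) hFd).toFinset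
  have hsum : deg k F (pullHom g l) = ∑ z ∈ S, mult F z • deg k (clM z) (pullHom g l) :=
    eq_sum_mult (ψ := fun M => deg k M (pullHom g l)) (d := 1)
      (fun e => by rw [deg_congr k e])
      (fun T hT h₁ h₂ h₃ => deg_additive k T hT h₁ h₂ h₃ _)
      (fun M hM hlt => by
        rw [← interDeg_one_class]
        exact interDeg_eq_zero _ (finDeg_chiCl k hM hlt))
      hF hFd S (fun z hz h => (Set.Finite.mem_toFinset _).2 ⟨hz, h⟩)
      (fun z hz => ((Set.Finite.mem_toFinset _).1 hz).2)
  rw [deg_quotMod k hE, B_comm k, h0, neg_zero] at hsum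
  have hterm : ∀ z ∈ S, mult F z • deg k (clM z) (pullHom g l) =
      ((mult F z : ℤ) * (g.residueDegree z : ℤ) * if g z = y then 1 else 0) * deg k (clM y) l := fun z hz => by
    obtain ⟨hzS, hzd⟩ := (Set.Finite.mem_toFinset _).1 hz
    have h := interDeg_pull_clM k g hg z hzd (fun _ => l)
    rw [interDeg_one_class, interDeg_one_class] at h
    rw [nsmul_eq_mul, h]
    split_ifs with hgz
    · rw [hgz]; ring
    · have hlt : topologicalKrullDim (CohB1.support (clM (g z))) < ((1 : ℕ) : WithBot ℕ∞) := by
        refine (dim_mono (support_clM_subset _)).trans_lt ?_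
        rw [dim_closure_eq_ptDim k]
        have := ptDim_lt_of_specializes p (specializes_iff_mem_closure.2 (hsupp hzS)) (Ne.symm hgz)
        rw [hyd] at this
        exact_mod_cast this
      rw [← interDeg_one_class k (clM (g z)), interDeg_eq_zero _ (finDeg_chiCl k (isCoh_clM _) hlt)]
      ring
  rw [Finset.sum_congr rfl hterm, ← Finset.sum_mul] at hsum
  refine (mul_eq_zero.1 hsum.symm).resolve_left (ne_of_gt ?_)
  haveI := hsurj
  obtain ⟨z₀, hz₀, hz₀d⟩ := exists_point_over k g hg y
  have hzd : topologicalKrullDim (closure ({z₀} : Set Z)) = ((1 : ℕ) : WithBot ℕ∞) := by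
    rw [dim_closure_eq_ptDim k, hz₀d, hyd]
  have hzF : z₀ ∈ CohB1.support F := by
    refine S7749.mem_support_quotMod _ ?_
    rw [Scheme.IdealSheafData.support_comap]
    change g z₀ ∈ (clI y).support
    rw [hz₀]
    exact (support_clI y).ge (subset_closure rfl)
  refine Finset.sum_pos' (fun z _ => ?_) ⟨z₀, (Set.Finite.mem_toFinset _).2 ⟨hzF, hzd⟩, ?_⟩
  · split_ifs <;> positivity
  · rw [if_pos hz₀, mul_one]
    exact mul_pos (Int.natCast_pos.2 (mult_pos_of_mem hF hFd hzF hzd))
      (Int.natCast_pos.2 (Nat.pos_of_ne_zero (residueDegree_ne_zero k g hg (by rw [hz₀, hz₀d]))))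

end Groth.Agent.Surf15
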