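import Groth.Agent.Surf15.LM

/-!
# Surf15: simple Lazarsfeld–Mukai bundles
-/

set_option autoImplicit false
set_option linter.style.haveILetI false
set_option linter.unusedSectionVars false
set_option maxHeartbeats 1000000
set_option backward.isDefEq.respectTransparency.types false

universe u

open CategoryTheory CategoryTheory.Limits AlgebraicGeometry Opposite TopologicalSpace
open Groth.Agent.Coherent Groth.Agent.PicLib Groth.Agent.AmpleLib Groth.Agent.EulerLib
open Groth.Agent.CurveRR24

namespace Groth.Agent.Surf15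

section Seq

variable {X : Scheme.{u}} (k : Type u) [Field k] [X.Over (Spec (CommRingCat.of k))]
  {S : ShortComplex X.Modules} (hS : S.ShortExact)
include hS

/-- Kernels of maps in cohomology inject when the previous map is surjective. -/
theorem hmap_injective_of_surjective (q : ℕ) (h : Function.Surjective (SerreDual.hmap k S.g q)) :
    Function.Injective (SerreDual.hmap k S.f (q + 1)) := by
  unfold SerreDual.hmap at h ⊢
  refine (injective_iff_map_eq_zero _).2 fun x hx => ?_
  simp only [LinearMap.coe_comp, LinearEquiv.coe_coe, Function.comp_apply, LinearEquiv.map_eq_zero_iff] at hx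
  obtain ⟨y, hy⟩ := (exact_deltaA_postA (baseHom k X) hS ⊤ q _).1 hx
  obtain ⟨z, hz⟩ := h ((SerreDual.hBE k S.X₃ q).symm y)
  simp only [LinearMap.coe_comp, LinearEquiv.coe_coe, Function.comp_apply] at hz
  have hz' := (SerreDual.hBE k S.X₃ q).symm.injective hz
  rw [← hz', (exact_postA_deltaA (baseHom k X) hS ⊤ q _).2 ⟨_, rfl⟩] at hy
  exact (SerreDual.hBE k S.X₁ (q + 1)).map_eq_zero_iff.1 hy.symm

/-- The connecting map is bijective between vanishing neighbours. -/
theorem finrank_connecting (q : ℕ) (h : Subsingleton (Coh.HH X S.X₂ q))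
    (h' : Subsingleton (Coh.HH X S.X₂ (q + 1))) :
    Module.finrank k (Coh.HH X S.X₃ q) = Module.finrank k (Coh.HH X S.X₁ (q + 1)) := by
  haveI : Subsingleton (HA (baseHom k X) S.X₂ (⊤ : X.Opens) q) :=
    (SerreDual.hBE k S.X₂ q).symm.toEquiv.subsingleton
  haveI : Subsingleton (HA (baseHom k X) S.X₂ (⊤ : X.Opens) (q + 1)) :=
    (SerreDual.hBE k S.X₂ (q + 1)).symm.toEquiv.subsingleton
  let δ := deltaA (baseHom k X) hS (⊤ : X.Opens) q
  have hb : Function.Bijective δ := by
    refine ⟨(injective_iff_map_eq_zero δ).2 fun x hx => ?_, fun x => ?_⟩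
    · obtain ⟨y, rfl⟩ := (exact_postA_deltaA (baseHom k X) hS ⊤ q x).1 hx
      rw [Subsingleton.elim y 0, map_zero]
    · exact (exact_deltaA_postA (baseHom k X) hS ⊤ q x).1 (Subsingleton.elim _ _)
  rw [(SerreDual.hBE k S.X₃ q).finrank_eq, (SerreDual.hBE k S.X₁ (q + 1)).finrank_eq]
  exact (LinearEquiv.ofBijective δ hb).finrank_eq

end Seq

/-- No irregularity for free modules. -/
theorem finrank_h1_free {X : Scheme.{u}} (k : Type u) [Field k] [X.Over (Spec (CommRingCat.of k))]
    [IsProper (X ↘ Spec (CommRingCat.of k))]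
    (hq : Module.finrank k (Coh.HH X (Coh.structureModule X) 1) = 0) :
    ∀ n : ℕ, Module.finrank k (Coh.HH X (FlatMod.freeMod X n) 1) = 0 := by
  haveI := isNoetherian_of_proper (X := X) k
  haveI := finite_HH_of_isCoh k (isCoh_structureModule X) 1
  intro n
  suffices Subsingleton (Coh.HH X (FlatMod.freeMod X n) 1) from Module.finrank_zero_of_subsingleton
  induction n with
  | zero => exact subsingleton_HH_of_isZero isZero_freeMod_zero' 1
  | succ n ih =>
    obtain ⟨f, g, w, ⟨sp⟩⟩ := exists_free_split (X := X) n
    refine subsingleton_of_forall_eq 0 fun x => ?_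
    haveI : Subsingleton (Coh.HH X (ShortComplex.mk f g w).X₃ 1) := Module.finrank_zero_iff.1 hq
    obtain ⟨y, rfl⟩ := (SerreDual.exact_hmap k sp.shortExact 1 x).1 (Subsingleton.elim _ _)
    haveI : Subsingleton (Coh.HH X (ShortComplex.mk f g w).X₁ 1) := ih
    exact (congrArg _ (Subsingleton.elim y 0)).trans (map_zero _)

section Self

variable {X : Scheme.{u}} {E : X.Modules} (hE : FlatMod.IsFinLocFree E)
include hE

/-- A bundle is the dual of its dual. -/
theorem nonempty_dual_dual :
    Nonempty (internalHom (internalHom E (Coh.structureModule X)) (Coh.structureModule X) ≅ E) := by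
  haveI := isIso_contract hE (Coh.structureModule X)
  exact ⟨((unitTensorIso E).symm ≪≫ tensorComm _ _ ≪≫ asIso (contractBilin E (Coh.structureModule X)).desc).symm⟩

/-- The endomorphisms of a bundle are self-dual. -/
theorem nonempty_end_dual :
    Nonempty (internalHom (internalHom E E) (Coh.structureModule X) ≅ internalHom E E) := by
  let O := Coh.structureModule X
  have hD : FlatMod.IsFinLocFree (internalHom E O) :=
    CohBC.isFinLocFree_internalHom hE isFinLocFree_structure
  obtain ⟨e1⟩ := SerreDual.nonempty_internalHom_eq_tensor hE E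
  obtain ⟨w⟩ := SerreDual.nonempty_internalHom_tensor (internalHom E O) E
  obtain ⟨e2⟩ := SerreDual.nonempty_internalHom_eq_tensor hD (internalHom E O)
  obtain ⟨g⟩ := nonempty_dual_dual hE
  -- `Hom(Hom(E,E), O) ≅ Hom(D ⊗ E, O)`
  let v : internalHomFunctor (internalHom E E) ≅ internalHomFunctor (CohB1.tensorMod (internalHom E O) E) :=
    ((tensorHomAdj (internalHom E E)).ofNatIsoLeft ((DCoh.tensorBi (X := X)).mapIso e1)).rightAdjointUniq
      (tensorHomAdj (CohB1.tensorMod (internalHom E O) E))
  exact ⟨v.app O ≪≫ w.app O ≪≫ e2 ≪≫ AmpleLib.tensorIso g (Iso.refl _) ≪≫ tensorComm _ _ ≪≫ e1.symm⟩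

end Self

section LM

variable {X C : Scheme.{u}} (k : Type u) [Field k] [IsAlgClosed k] [X.Over (Spec (CommRingCat.of k))]
  [IsProper (X ↘ Spec (CommRingCat.of k))] [IsIntegral X] [Smooth (X ↘ Spec (CommRingCat.of k))]
  (hX : topologicalKrullDim X = ((2 : ℕ) : WithBot ℕ∞))
  [C.Over (Spec (CommRingCat.of k))] [IsIntegral C] [Smooth (C ↘ Spec (CommRingCat.of k))]
  (hC : topologicalKrullDim C = 1) (i : C ⟶ X) [IsClosedImmersion i]
  (hi : i ≫ (X ↘ Spec (CommRingCat.of k)) = C ↘ Spec (CommRingCat.of k))
  {A : C.Modules} (hA : PicF.IsInvertible A) {n : ℕ} (lam : FlatMod.freeMod X n ⟶ (Coh.push i).obj A)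
  [Epi lam]
  (hK : ExtPow.IsExtPow 2 (Omega.sheaf (X ↘ Spec (CommRingCat.of k))) (Coh.structureModule X))
  (hq : Module.finrank k (Coh.HH X (Coh.structureModule X) 1) = 0)
  (hlam : Function.Bijective (SerreDual.hmap k lam 0))
include k hX hC hi hA hK hq hlam

/-- The kernel has neither sections nor first cohomology. -/
theorem h0_h1_lm : Subsingleton (Coh.HH X (kernel lam) 0) ∧ Subsingleton (Coh.HH X (kernel lam) 1) := by
  haveI := isNoetherian_of_proper (X := X) k
  have hS : (ShortComplex.mk (kernel.ι lam) lam (kernel.condition lam)).ShortExact :=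
    { exact := ShortComplex.exact_kernel lam }
  constructor
  · refine subsingleton_of_forall_eq 0 fun x => ?_
    have h1 : SerreDual.hmap k lam 0 (SerreDual.hmap k (kernel.ι lam) 0 x) = 0 :=
      (SerreDual.exact_hmap k hS 0 _).2 ⟨x, rfl⟩
    have h2 := hlam.1 (h1.trans (map_zero _).symm)
    have hinj : Function.Injective (SerreDual.hmap k (kernel.ι lam) 0) := by
      have h3 := postA_zero_injective (baseHom k X) hS (⊤ : X.Opens)
      unfold SerreDual.hmap
      simp only [LinearMap.coe_comp, LinearEquiv.coe_coe]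
      exact (SerreDual.hBE k _ 0).symm.injective.comp (h3.comp (SerreDual.hBE k _ 0).injective)
    exact hinj (h2.trans (map_zero _).symm)
  · have hinj := hmap_injective_of_surjective k hS 0 hlam.2
    have h1 : Subsingleton (Coh.HH X (FlatMod.freeMod X n) 1) := by
      have hc := CohBC.isCoh_of_isFinLocFree (isFinLocFree_freeMod' (X := X) n)
      have e0 : Module.finrank k (Coh.HH X (FlatMod.freeMod X n) 1) = 0 :=
        finrank_h1_free k hq n
      haveI := finite_HH_of_isCoh k hc 1
      exact Module.finrank_zero_iff.1 e0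
    exact hinj.subsingleton

/-- The first cohomology of the twist of the dual by the line. -/
theorem h1_dual_tensor_lm
    (hsimple : Module.finrank k (Coh.HH X (internalHom (kernel lam) (kernel lam)) 0) = 1) :
    Module.finrank k (Coh.HH X (internalHom (kernel lam) ((Coh.push i).obj A)) 1) = 1 := by
  haveI := isNoetherian_of_proper (X := X) k
  have hO : PicF.IsInvertible (Coh.structureModule X) := isInvertible_structureModule
  obtain ⟨h0, h1⟩ := h0_h1_lm k hX hC i hi hA lam hK hq hlam
  set F := kernel lam
  have hF : FlatMod.IsFinLocFree F := isFinLocFree_lm k hX hC i hi hA lam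
  have hD : FlatMod.IsFinLocFree (internalHom F (Coh.structureModule X)) :=
    CohBC.isFinLocFree_internalHom hF isFinLocFree_structure
  have hD1 : Subsingleton (Coh.HH X (internalHom F (Coh.structureModule X)) 1) := by
    haveI := finite_HH_of_isCoh k (CohBC.isCoh_of_isFinLocFree hD) 1
    refine Module.finrank_zero_iff.1 ((finrank_dual k hX hK hO hF (i := 1) (j := 1) rfl).trans ?_)
    exact Module.finrank_zero_of_subsingleton
  have hD2 : Subsingleton (Coh.HH X (internalHom F (Coh.structureModule X)) 2) := by
    haveI := finite_HH_of_isCoh k (CohBC.isCoh_of_isFinLocFree hD) 2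
    refine Module.finrank_zero_iff.1 ((finrank_dual k hX hK hO hF (i := 2) (j := 0) rfl).trans ?_)
    exact Module.finrank_zero_of_subsingleton
  let T := internalHomFunctor F
  haveI : PreservesFiniteLimits T := SerreDual.preservesFiniteLimits_internalHom F
  haveI : PreservesFiniteColimits T := SerreDual.preservesFiniteColimits_internalHom hF
  have hS : (ShortComplex.mk (kernel.ι lam) lam (kernel.condition lam)).ShortExact :=
    { exact := ShortComplex.exact_kernel lam }
  have h := finrank_connecting k (hS.map_of_exact T) 1 (subsingleton_hom_free k 1 hD1 n)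
    (subsingleton_hom_free k 2 hD2 n)
  refine h.trans ?_
  show Module.finrank k (Coh.HH X (internalHom F F) 2) = 1
  obtain ⟨e⟩ := nonempty_end_dual hF
  rw [← (HHCongr k e 2).finrank_eq,
    finrank_dual k hX hK hO (CohBC.isFinLocFree_internalHom hF hF) (i := 2) (j := 0) rfl, hsimple]

end LM

end Groth.Agent.Surf15
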