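import Groth.Agent.Surf15.RRCor
import Groth.Agent.PnEmb.Segre
import Groth.Agent.ProjLib.ProjSpace

/-!
# Surf15: pullbacks of `O(1)` are nef
-/

set_option autoImplicit false
set_option linter.style.haveILetI false
set_option linter.unusedSectionVars false
set_option backward.isDefEq.respectTransparency.types false

universe u

open CategoryTheory CategoryTheory.Limits AlgebraicGeometry Opposite TopologicalSpace
open Groth.Agent.Coherent Groth.Agent.PicLib Groth.Agent.AmpleLib Groth.Agent.EulerLib
open Groth.Agent.CurveRR24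

namespace Groth.Agent.Surf15

variable {X : Scheme.{u}} (k : Type u) [Field k] [X.Over (Spec (CommRingCat.of k))]
  [IsProper (X ↘ Spec (CommRingCat.of k))]

theorem isInvertible_twist_one_field (n : ℕ) :
    PicF.IsInvertible (Twist.twistProjSpace n k 1) :=
  PnEmb.isInvertible_twist_one (𝒮 := CohB1.polyGrading n k)
    (UPLib.adjoin_one_eq_top (UPLib.linForm_mem (R := k) n) (UPLib.isSymmetricAlgebra_linForm n))

include k in
/-- The pullback of `O(1)` is nonnegative on every curve. -/
theorem deg_pullback_twist_one_nonneg {n : ℕ} (r : X ⟶ CohB1.ProjSpace n k) (y : X)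
    (hy : topologicalKrullDim (closure {y} : Set X) ≤ ((1 : ℕ) : WithBot ℕ∞)) :
    0 ≤ deg k (AssSch12.clM y)
      (InvCl.mk ((Scheme.Modules.pullback r).obj (Twist.twistProjSpace n k 1))
        (PicLoc.isInvertible_pullback r (isInvertible_twist_one_field k n))) := by
  have hcov := Proj.iSup_basicOpen_eq_top (CohB1.polyGrading n k) _ (ProjLib.irrelevant_le_span_X n k)
  obtain ⟨a, ha⟩ := Opens.mem_iSup.1 (hcov.ge (Opens.mem_top (r y)))
  refine deg_nonneg_of_mem_glocus k (PicLoc.isInvertible_pullback r (isInvertible_twist_one_field k n)) ?_ hy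
    (s := PicLib.pullSec r (show Γ(Twist.twist (CohB1.polyGrading n k) 1, ⊤) from
      Twist.globalOf (CohB1.polyGrading n k) ⟨MvPolynomial.X a, MvPolynomial.isHomogeneous_X _ a⟩))
  exact (PnEmb.glocus_pullSec_twist_one (𝒮 := CohB1.polyGrading n k)
    (UPLib.adjoin_one_eq_top (UPLib.linForm_mem (R := k) n) (UPLib.isSymmetricAlgebra_linForm n)) r
    (MvPolynomial.isHomogeneous_X _ a)).ge ha

include k in
/-- A nonzero global section from a nontrivial `H⁰`. -/
theorem exists_section_ne_zero {L : X.Modules} (h : Nontrivial (Coh.HH X L 0)) : ∃ s : Γ(L, ⊤), s ≠ 0 := by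
  obtain ⟨z, hz⟩ := exists_ne (0 : Coh.HH X L 0)
  exact ⟨hhZero k L z, fun e => hz ((hhZero k L).injective (e.trans (map_zero _).symm))⟩

variable [IsIntegral X] (hX : topologicalKrullDim X = ((2 : ℕ) : WithBot ℕ∞))
include k hX

/-- A module of negative degree against a nef class has no sections. -/
theorem subsingleton_h0_of_nef {a : InvCl X}
    (ha : ∀ y : X, topologicalKrullDim (closure {y} : Set X) = ((1 : ℕ) : WithBot ℕ∞) → 0 ≤ deg k (AssSch12.clM y) a)
    {L : X.Modules} (hL : PicF.IsInvertible L) (hneg : B k (InvCl.mk L hL) a < 0) :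
    Subsingleton (Coh.HH X L 0) := by
  by_contra h
  rw [not_subsingleton_iff_nontrivial] at h
  obtain ⟨s, hs⟩ := exists_section_ne_zero k h
  have := deg_eff_nonneg k hX ha hL hs
  omega

end Groth.Agent.Surf15

namespace Groth.Agent.Surf15

variable {X : Scheme.{u}} (k : Type u) [Field k] [IsAlgClosed k] [X.Over (Spec (CommRingCat.of k))]
  [IsProper (X ↘ Spec (CommRingCat.of k))]

include k in
/-- Removing a curve of negative degree does not lose sections. -/
theorem h0_twist_eq_of_neg {C : X.IdealSheafData} [IsIntegral C.subscheme]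
    (hd : topologicalKrullDim (C.support : Set X) = ((1 : ℕ) : WithBot ℕ∞))
    (hC : BlowUp.IsEffCartierIdeal C) {M : X.Modules} (hM : PicF.IsInvertible M)
    (hneg : deg k (ClSub.quotMod C) (InvCl.mk M hM) < 0) :
    Module.finrank k (Coh.HH X (CohB1.tensorMod (ClSub.idealMod C) M) 0) = Module.finrank k (Coh.HH X M 0) := by
  haveI := isNoetherian_of_proper (X := X) k
  have h := h0_le k (twistSeq_shortExact hM (shortExact_ideal C)) (isCoh_twist hM (isCoh_idealMod' C))
    (isCoh_twist hM (isCoh_structureModule X)) (isCoh_twist hM (isCoh_quotMod C))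
  change Module.finrank k (Coh.HH X (CohB1.tensorMod (ClSub.idealMod C) M) 0) ≤
      Module.finrank k (Coh.HH X (CohB1.tensorMod (Coh.structureModule X) M) 0) ∧
    Module.finrank k (Coh.HH X (CohB1.tensorMod (Coh.structureModule X) M) 0) ≤
      Module.finrank k (Coh.HH X (CohB1.tensorMod (ClSub.idealMod C) M) 0) +
        Module.finrank k (Coh.HH X (CohB1.tensorMod (ClSub.quotMod C) M) 0) at h
  rw [(curve_facts k C hd hM).2.2.1 hneg, add_zero, finrank_HH_congr k (unitTensorIso M) 0] at h
  omega

end Groth.Agent.Surf15
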