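import Groth.Agent.Surf15.RiemannRoch

/-!
# Surf15: consequences of Riemann–Roch on smooth proper surfaces
-/

set_option autoImplicit false
set_option linter.style.haveILetI false
set_option linter.unusedSectionVars false
set_option backward.isDefEq.respectTransparency.types false

universe u

open CategoryTheory CategoryTheory.Limits AlgebraicGeometry Opposite TopologicalSpace
open Groth.Agent.Coherent Groth.Agent.PicLib Groth.Agent.AmpleLib Groth.Agent.EulerLib
open Groth.Agent.CurveRR24

namespace Groth.Agent.Surf15

variable {X : Scheme.{u}} (k : Type u) [Field k] [X.Over (Spec (CommRingCat.of k))]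
  [IsProper (X ↘ Spec (CommRingCat.of k))] [IsIntegral X]
  [Smooth (X ↘ Spec (CommRingCat.of k))] (hX : topologicalKrullDim X = ((2 : ℕ) : WithBot ℕ∞))
include k hX

/-- The canonical module of a smooth surface is invertible. -/
theorem isInvertible_canonical {W : X.Modules}
    (hW : ExtPow.IsExtPow 2 (Omega.sheaf (X ↘ Spec (CommRingCat.of k))) W) : PicF.IsInvertible W := by
  haveI := isSeparated_of_proper (X := X) k
  haveI := GenSmoothLib.smoothOfRelativeDimension_toField (X ↘ Spec (CommRingCat.of k)) hX
  exact Canon15.isInvertible_of_isExtPow (Canon15.isFinLocFreeOfRank_omega _ 2) hW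

variable [IsAlgClosed k]

/-- **Adjunction** for an arbitrary effective divisor. -/
theorem two_euler_quotMod {W : X.Modules} (hW : ExtPow.IsExtPow 2 (Omega.sheaf (X ↘ Spec (CommRingCat.of k))) W)
    (hWi : PicF.IsInvertible W) {D : X.IdealSheafData} (hD : BlowUp.IsEffCartierIdeal D) :
    2 * Curv2.euler k X (ClSub.quotMod D) =
      FGA.intNum k X 2 ![ClSub.idealMod D, W] (Coh.structureModule X) -
        FGA.intNum k X 2 ![ClSub.idealMod D, ClSub.idealMod D] (Coh.structureModule X) := by
  have hI := FlatMor12.IdealModGen.isInvertible_idealMod D hD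
  rw [intNum_eq_B k hX.le hI hWi, intNum_eq_B k hX.le hI hI]
  have h := riemannRoch_cl k hX hW hWi (clI' D hD)
  rw [chiCl_clI' k hD] at h
  unfold clI' at h
  linarith

omit [IsAlgClosed k] in
/-- The ideal of a curve on a smooth surface is invertible. -/
theorem isEffCartier_of_curve {C : X.IdealSheafData} (hC : IsIntegral C.subscheme)
    (hC1 : topologicalKrullDim (C.support : Set X) = ((1 : ℕ) : WithBot ℕ∞)) : BlowUp.IsEffCartierIdeal C :=
  IsCrv.isEffCartier k hX (fun x =>
    VarietyLib.isRegularLocalRing_stalk_of_smooth k X (X ↘ Spec (CommRingCat.of k)) x) ⟨hC, hC1⟩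

/-- The Euler characteristic of an integral curve. -/
theorem euler_quotMod_curve {C : X.IdealSheafData} (hC : IsIntegral C.subscheme)
    (hC1 : topologicalKrullDim (C.support : Set X) = ((1 : ℕ) : WithBot ℕ∞)) :
    letI : C.subscheme.Over (Spec (CommRingCat.of k)) := ⟨C.subschemeι ≫ (X ↘ Spec (CommRingCat.of k))⟩
    Curv2.euler k X (ClSub.quotMod C) = 1 - (Curv2.genus k C.subscheme : ℤ) ∧
      (Curv2.genus k C.subscheme = 0 ↔
        Subsingleton (Coh.HH C.subscheme (Coh.structureModule C.subscheme) 1)) := by
  letI : C.subscheme.Over (Spec (CommRingCat.of k)) := ⟨C.subschemeι ≫ (X ↘ Spec (CommRingCat.of k))⟩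
  haveI : IsProper (C.subscheme ↘ Spec (CommRingCat.of k)) :=
    inferInstanceAs (IsProper (C.subschemeι ≫ (X ↘ Spec (CommRingCat.of k))))
  haveI := hC
  haveI : GeometricallyIntegral (C.subscheme ↘ Spec (CommRingCat.of k)) :=
    AbVarLib.geometricallyIntegral_of_isAlgClosed _
  haveI := isNoetherian_of_proper (X := C.subscheme) k
  haveI := isSeparated_of_proper (X := C.subscheme) k
  haveI := isNoetherian_of_proper (X := X) k
  haveI := isSeparated_of_proper (X := X) k
  haveI : Coh.IsQCoh (Coh.structureModule C.subscheme) := isQCoh_structureModule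
  have hd : topologicalKrullDim C.subscheme = 1 := by
    rw [C.subschemeι.isClosedEmbedding.isEmbedding.toHomeomorph.isHomeomorph.topologicalKrullDim_eq]
    exact (IsHomeomorph.topologicalKrullDim_eq _
      (Homeomorph.setCongr C.range_subschemeι).isHomeomorph).trans hC1
  constructor
  · refine ((AbCubeLib.euler_push k C.subschemeι rfl (Coh.structureModule C.subscheme)).symm).trans ?_
    rw [euler_eq_h0_sub_h1 k hd.le (Coh.structureModule C.subscheme) Coherent.isQCoh_structureModule,
      CurveRR24.h0_structure_of_geomIntegral k (X := C.subscheme)]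
    rfl
  · haveI := finite_HH_of_isCoh k (isCoh_structureModule C.subscheme) 1
    exact Module.finrank_zero_iff (R := k)

end Groth.Agent.Surf15
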