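import Groth.Agent.Surf15.DetSES
import Groth.Agent.Surf15.RRCor
import Groth.Agent.Surf15.SmoothComponents
import Groth.Agent.Surf15.PlaneNef
import Groth.Agent.SerreDual.CMDual
import Groth.Agent.SerreDual.Curve
import Groth.Agent.SerreDual.PushEquiv
import Groth.Agent.Coherent.Serre.Uniform

/-!
# Surf15: Serre duality with the canonical module on smooth projective surfaces
-/

set_option autoImplicit false
set_option linter.style.haveILetI false
set_option linter.unusedSectionVars false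
set_option maxHeartbeats 1000000
set_option backward.isDefEq.respectTransparency.types false

universe u

open CategoryTheory CategoryTheory.Limits AlgebraicGeometry Opposite TopologicalSpace
open Groth.Agent.Coherent Groth.Agent.PicLib Groth.Agent.AmpleLib Groth.Agent.EulerLib
open Groth.Agent.CurveRR24

namespace Groth.Agent.Surf15

/-- A globally generated module without sections is zero. -/
theorem isZero_of_globallyGenerated {X : Scheme.{u}} {M : X.Modules} (hM : Curv2.IsGloballyGenerated M)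
    (h : Subsingleton (Coh.structureModule X ⟶ M)) : IsZero M := by
  obtain ⟨ι, p, hp⟩ := hM
  have h0 : p = 0 := Cofan.IsColimit.hom_ext (SheafOfModules.isColimitFreeCofan ι) _ _ fun i =>
    h.elim _ _
  subst h0
  exact (IsZero.iff_id_eq_zero _).2 ((cancel_epi (0 : (SheafOfModules.free ι : X.Modules) ⟶ M)).1
    (by simp))

theorem isZero_tensorMod {X : Scheme.{u}} {M : X.Modules} (hM : IsZero M) (P : X.Modules) :
    IsZero (CohB1.tensorMod M P) := by
  refine (IsZero.iff_id_eq_zero _).2 (AmpleLib.hom_ext fun U a b => ?_)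
  have ha : a = 0 := congrArg (fun φ : M ⟶ M => φ.app U a) ((IsZero.iff_id_eq_zero _).1 hM)
  rw [ha, tmul_zero_left, map_zero, map_zero]

theorem subsingleton_h1_of_twist {X : Scheme.{u}} (k : Type u) [Field k] [X.Over (Spec (CommRingCat.of k))]
    {S : ShortComplex X.Modules} (hS : S.ShortExact) {P : X.Modules} (hP : PicF.IsInvertible P)
    (e : S.X₂ ≅ Coh.structureModule X) {A G : X.Modules} (eA : CohB1.tensorMod S.X₁ P ≅ A)
    (eG : CohB1.tensorMod S.X₃ P ≅ G) (hA : Subsingleton (Coh.HH X A 2))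
    (hP1 : Subsingleton (Coh.HH X P 1)) : Subsingleton (Coh.HH X G 1) := by
  have h2 : Subsingleton (Coh.HH X (CohB1.tensorMod S.X₁ P) 2) := (HHCongr k eA 2).toEquiv.subsingleton
  haveI : Subsingleton (Coh.HH X (CohB1.tensorMod S.X₂ P) 1) :=
    (HHCongr k (AmpleLib.tensorIso e (Iso.refl P) ≪≫ unitTensorIso P) 1).toEquiv.subsingleton
  have hsurj := SerreDual.hmap_surjective_of_shortExact k (twistSeq_shortExact hP hS) 1 h2
  haveI : Subsingleton (Coh.HH X (CohB1.tensorMod S.X₃ P) 1) :=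
    @Function.Surjective.subsingleton _ _ _ ‹Subsingleton (Coh.HH X (CohB1.tensorMod S.X₂ P) 1)› hsurj
  exact (HHCongr k eG.symm 1).toEquiv.subsingleton

variable {X : Scheme.{u}} (k : Type u) [Field k] [IsAlgClosed k] [X.Over (Spec (CommRingCat.of k))]

section Disjoint

variable [LocallyOfFiniteType (X ↘ Spec (CommRingCat.of k))]

include k in
/-- The factors of a smooth effective Cartier divisor are disjoint. -/
theorem disjoint_of_smooth_mul {W C : X.IdealSheafData} (hW : BlowUp.IsEffCartierIdeal W)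
    (hC : BlowUp.IsEffCartierIdeal C) (hle : W * C ≤ C)
    (hsm : Smooth ((W * C).subschemeι ≫ (X ↘ Spec (CommRingCat.of k)))) (x : X)
    (hxW : x ∈ W.support) (hxC : x ∈ C.support) : False := by
  have hxZ : x ∈ (W * C).support := Scheme.IdealSheafData.support_antitone hle hxC
  obtain ⟨z, hz⟩ := (W * C).range_subschemeι.ge hxZ
  haveI hreg : IsRegularLocalRing ((W * C).subscheme.presheaf.stalk z) :=
    VarietyLib.isRegularLocalRing_stalk_of_smooth k _ ((W * C).subschemeι ≫ (X ↘ Spec (CommRingCat.of k))) z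
  obtain ⟨e⟩ := CycLib28.stalkIdeal_quot_equiv (W * C) z
  haveI hq : IsRegularLocalRing (X.presheaf.stalk x ⧸ IntMult.stalkIdeal (W * C) x) :=
    hz ▸ IsRegularLocalRing.of_ringEquiv e.symm
  haveI hdom := CAlgH3.isDomain_of_isRegularLocalRing (X.presheaf.stalk x ⧸ IntMult.stalkIdeal (W * C) x)
  have hp : (IntMult.stalkIdeal (W * C) x).IsPrime := (Ideal.Quotient.isDomain_iff_prime _).1 hdom
  obtain ⟨c, hc, hcC⟩ := Misc15.DivDescent.exists_gen hC x
  obtain ⟨w, hw, hwW⟩ := Misc15.DivDescent.exists_gen hW x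
  have hW1 := (SDiv28.CartierPart.mem_support_iff_stk W _).1 hxW
  have hC1 := (SDiv28.CartierPart.mem_support_iff_stk C _).1 hxC
  rw [stalkIdeal_eq_stk _ hxZ, SDiv28.CartierPart.stk_mul, hwW, hcC, Ideal.span_singleton_mul_span_singleton] at hp
  rcases eq_top_or_eq_top_of_span_mul hw hc hp with h | h
  · rw [hwW, h, top_le_iff] at hW1
    exact (IsLocalRing.maximalIdeal.isMaximal _).ne_top hW1
  · rw [hcC, h, top_le_iff] at hC1
    exact (IsLocalRing.maximalIdeal.isMaximal _).ne_top hC1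

end Disjoint

variable [IsProper (X ↘ Spec (CommRingCat.of k))] [IsIntegral X]
  [Smooth (X ↘ Spec (CommRingCat.of k))] (hX : topologicalKrullDim X = ((2 : ℕ) : WithBot ℕ∞))
include k hX

omit [IsAlgClosed k] [Smooth (X ↘ Spec (CommRingCat.of k))] in
theorem dim_components : ∀ Z ∈ irreducibleComponents (X : Type u), topologicalKrullDim Z = 2 := by
  intro Z hZ
  rw [irreducibleComponents_eq_singleton, Set.mem_singleton_iff] at hZ
  subst hZ
  rw [(Homeomorph.Set.univ X).isHomeomorph.topologicalKrullDim_eq, hX]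
  rfl

omit [IsAlgClosed k] in
theorem smooth_regular (x : X) : IsRegularLocalRing (X.presheaf.stalk x) :=
  VarietyLib.isRegularLocalRing_stalk_of_smooth k X (X ↘ Spec (CommRingCat.of k)) x

/-- Large multiples of an ample class contain smooth integral curves. -/
theorem exists_smooth_curve {H : X.Modules} (hH : CohB1.IsAmple H) :
    ∃ n₀ : ℕ, ∀ n : ℕ, n₀ ≤ n → ∃ Z : X.IdealSheafData, BlowUp.IsEffCartierIdeal Z ∧ IsCrv Z ∧
      Smooth (Z.subschemeι ≫ (X ↘ Spec (CommRingCat.of k))) ∧
      ClSub.IsInverseOf (CohB1.tensorPow H n) (ClSub.idealMod Z) := by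
  haveI := isNoetherian_of_proper (X := X) k
  have hreg := smooth_regular k hX
  obtain ⟨n₀, hn₀⟩ := eventually_exists_smooth_divisor k hH (isInvertible_structureModule (X := X))
  refine ⟨max n₀ 1, fun n hn => ?_⟩
  obtain ⟨Z, hZ, hsm, ⟨e⟩⟩ := hn₀ n ((le_max_left _ _).trans hn)
  have hn1 : 1 ≤ n := (le_max_right _ _).trans hn
  have hHn := isInvertible_tensorPow hH.1 n
  have e' : CohB1.tensorMod (CohB1.tensorPow H n) (ClSub.idealMod Z) ≅ Coh.structureModule X :=
    AmpleLib.tensorIso ((unitTensorIso _).symm ≪≫ AmpleLib.tensorComm _ _) (Iso.refl _) ≪≫ e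
  have hinv : ClSub.IsInverseOf (CohB1.tensorPow H n) (ClSub.idealMod Z) := ⟨e'⟩
  set h := InvCl.mk H hH.1 with hh
  have hz : clI' Z hZ * h ^ n = 1 := by
    rw [hh, ← InvCl.mk_tensorPow hH.1 n]
    exact mk_inverse_clI' hZ hHn hinv
  have hhh : 0 < B k h h := B_ample_pos k hX hH hH
  have hzd : ∀ a, B k (clI' Z hZ) a = -((n : ℤ) * B k h a) := fun a => by
    have h1 := B_inv_left k hX.le hz a
    rw [B_pow_left k hX.le] at h1
    linarith
  have hnpos : (0 : ℤ) < n := by exact_mod_cast hn1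
  have hZ0 : Z ≠ ⊤ := by
    rintro rfl
    have h2 := hzd h
    have htop : clI' ⊤ hZ * clI' ⊤ hZ = clI' ⊤ hZ := by
      rw [← clI'_mul ⊤ ⊤ hZ hZ]
      exact clI'_congr (by rw [← Scheme.IdealSheafData.one_eq_top, mul_one]) _ _
    have h3 := B_mul_left k hX.le (clI' ⊤ hZ) (clI' ⊤ hZ) h
    rw [htop] at h3
    nlinarith
  obtain ⟨W, C, hW, hC, rfl, -⟩ := exists_split k hX hreg hZ hZ0
  by_cases hW0 : W = ⊤
  · subst hW0
    have hmul : (⊤ : X.IdealSheafData) * C = C := by rw [← Scheme.IdealSheafData.one_eq_top, one_mul]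
    rw [hmul] at hsm hinv
    exact ⟨C, hC.isEffCartier k hX hreg, hC, hsm, hinv⟩
  exfalso
  have hCc := hC.isEffCartier k hX hreg
  have hle : W * C ≤ C := by rw [mul_comm]; exact mul_le_fst C W
  have hd := disjoint_of_smooth_mul k hW hCc hle hsm
  have hsupp : ((W ⊔ C).support : Set X) = ∅ := by
    refine Set.eq_empty_iff_forall_notMem.2 fun x hx => hd x ?_ ?_
    · exact Scheme.IdealSheafData.support_antitone le_sup_left hx
    · exact Scheme.IdealSheafData.support_antitone le_sup_right hx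
  have h0 := B_eq_length k (dim_components k hX)
    (fun y => haveI := hreg y; CAlgH3.isCohenMacaulayLocalRing_of_regular _) hW hCc
    (by rw [hsupp]; exact Set.finite_empty)
  haveI : Subsingleton (Coh.HH X (ClSub.quotMod (W ⊔ C)) 0) := subsingleton_HH_of_isZero
    (isZero_of_support_eq_empty (Set.eq_empty_of_subset_empty (hsupp ▸ support_quotMod_subset (W ⊔ C)))) 0
  rw [Module.finrank_zero_of_subsingleton, Nat.cast_zero] at h0
  have hC0 : C ≠ ⊤ := hC.ne_top
  set w := clI' W hW
  set c := clI' C hCc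
  have hwc : clI' (W * C) hZ = w * c := clI'_mul W C hW hCc
  have hwh : B k w h < 0 := B_clI'_ample_neg k hX hW hW0 hH
  have hch : B k c h < 0 := B_clI'_ample_neg k hX hCc hC0 hH
  have hww : 0 < B k w w := by
    have h1 := hzd w
    rw [hwc, B_mul_left k hX.le, B_comm k c w, h0, B_comm k h w] at h1
    nlinarith
  have hcc : 0 < B k c c := by
    have h1 := hzd c
    rw [hwc, B_mul_left k hX.le, h0, B_comm k h c] at h1
    nlinarith
  exact absurd (B_index k hX hH hww h0) (not_le.2 hcc)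

variable {W : X.Modules} (hW : ExtPow.IsExtPow 2 (Omega.sheaf (X ↘ Spec (CommRingCat.of k))) W)
  (hWi : PicF.IsInvertible W)
include hW hWi

/-- Adjunction for a smooth curve, as an isomorphism of modules. -/
theorem nonempty_pullback_canonical_iso {Z : X.IdealSheafData} (hZ : BlowUp.IsEffCartierIdeal Z)
    (hsm : Smooth (Z.subschemeι ≫ (X ↘ Spec (CommRingCat.of k))))
    (hd : topologicalKrullDim Z.subscheme = 1) [IsIntegral Z.subscheme] {P : X.Modules}
    (hP : PicF.IsInvertible P) (hinv : ClSub.IsInverseOf P (ClSub.idealMod Z)) :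
    Nonempty ((Scheme.Modules.pullback Z.subschemeι).obj (CohB1.tensorMod W P) ≅
      Omega.sheaf (Z.subschemeι ≫ (X ↘ Spec (CommRingCat.of k)))) := by
  haveI := isNoetherian_of_proper (X := X) k
  haveI := isSeparated_of_proper (X := X) k
  let f := X ↘ Spec (CommRingCat.of k)
  let i := Z.subschemeι
  letI : Z.subscheme.Over (Spec (CommRingCat.of k)) := ⟨i ≫ f⟩
  haveI : IsProper (Z.subscheme ↘ Spec (CommRingCat.of k)) := inferInstanceAs (IsProper (i ≫ f))
  haveI : Smooth (Z.subscheme ↘ Spec (CommRingCat.of k)) := hsm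
  haveI : GeometricallyIntegral (Z.subscheme ↘ Spec (CommRingCat.of k)) :=
    AbVarLib.geometricallyIntegral_of_isAlgClosed _
  haveI : SmoothOfRelativeDimension 2 f := GenSmoothLib.smoothOfRelativeDimension_toField f hX
  have hE := Canon15.isFinLocFreeOfRank_omega f 2
  have hW' := Canon15.isExtPow_pullback i hE hW
  have hI := FlatMor12.IdealModGen.isInvertible_idealMod Z hZ
  have hN : Omega.conormal i = (Scheme.Modules.pullback i).obj (ClSub.idealMod Z) := by
    show (Scheme.Modules.pullback i).obj (ClSub.idealMod i.ker) = _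
    rw [Z.ker_subschemeι]
  have hNi : PicF.IsInvertible (Omega.conormal i) := hN ▸ PicLoc.isInvertible_pullback i hI
  have hΩi : PicF.IsInvertible (Omega.sheaf (i ≫ f)) :=
    OmegaDual24.isInvertible_omega (k := k) (X := Z.subscheme) hd
  obtain ⟨a, c, w, hS⟩ := exists_conormal_ses f i
    (Omega15.isFormallySmoothHom_of_smooth (i ≫ f)) (OmegaSh.dOmega f) (OmegaLib.isUniversal_dOmega f)
    (i ≫ f) rfl (OmegaSh.dOmega (i ≫ f)) (OmegaLib.isUniversal_dOmega (i ≫ f))
  obtain ⟨e⟩ := nonempty_det_ses hNi hΩi a c w hS hW'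
  obtain ⟨e₁⟩ := exists_pullTensorIso i hWi hP
  obtain ⟨e₂⟩ := exists_pullTensorIso i hP hI
  obtain ⟨eP⟩ := hinv
  obtain ⟨eU⟩ := exists_pullStructureIso i
  obtain ⟨a₁⟩ := exists_assocIso' (Omega.sheaf (i ≫ f)) hNi (PicLoc.isInvertible_pullback i hP)
  refine ⟨e₁ ≪≫ AmpleLib.tensorIso e.symm (Iso.refl _) ≪≫ a₁ ≪≫
    AmpleLib.tensorIso (Iso.refl _) (AmpleLib.tensorComm _ _ ≪≫
      AmpleLib.tensorIso (Iso.refl _) (eqToIso hN) ≪≫ e₂.symm ≪≫
        (Scheme.Modules.pullback i).mapIso eP ≪≫ eU) ≪≫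
    AmpleLib.tensorComm _ _ ≪≫ unitTensorIso _⟩

/-- `H²` of the canonical module is nonzero. -/
theorem nontrivial_h2_canonical : Nontrivial (Coh.HH X W 2) := by
  haveI := isNoetherian_of_proper (X := X) k
  haveI := isSeparated_of_proper (X := X) k
  obtain ⟨H, hH⟩ := exists_ample k hX (smooth_regular k hX)
  obtain ⟨n₁, hn₁⟩ := exists_smooth_curve k hX hH
  obtain ⟨n₂, hn₂⟩ := Coherent.Serre.exists_subsingleton_HH_twist k hH W (isCoh_of_isInvertible k hWi)
  obtain ⟨Z, hZ, hcrv, hsm, hinv⟩ := hn₁ (max n₁ n₂) (le_max_left _ _)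
  have hv := hn₂ (max n₁ n₂) (le_max_right _ _) 1 one_pos
  have hHn := isInvertible_tensorPow hH.1 (max n₁ n₂)
  set Hn := CohB1.tensorPow H (max n₁ n₂)
  set P := CohB1.tensorMod W Hn
  have hP : PicF.IsInvertible P := isInvertible_tensorMod hWi hHn
  haveI := hcrv.1
  let f := X ↘ Spec (CommRingCat.of k)
  let i := Z.subschemeι
  have hd : topologicalKrullDim Z.subscheme = 1 := by
    rw [i.isClosedEmbedding.isEmbedding.toHomeomorph.isHomeomorph.topologicalKrullDim_eq]
    exact (IsHomeomorph.topologicalKrullDim_eq _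
      (Homeomorph.setCongr Z.range_subschemeι).isHomeomorph).trans hcrv.2
  letI : Z.subscheme.Over (Spec (CommRingCat.of k)) := ⟨i ≫ f⟩
  haveI : IsProper (Z.subscheme ↘ Spec (CommRingCat.of k)) := inferInstanceAs (IsProper (i ≫ f))
  haveI : Smooth (Z.subscheme ↘ Spec (CommRingCat.of k)) := hsm
  haveI : GeometricallyIntegral (Z.subscheme ↘ Spec (CommRingCat.of k)) :=
    AbVarLib.geometricallyIntegral_of_isAlgClosed _
  obtain ⟨eΩ⟩ := nonempty_pullback_canonical_iso k hX hW hWi hZ hsm hd hHn hinv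
  have hS := twistSeq_shortExact hP (shortExact_ideal Z)
  -- the first term is the canonical module
  obtain ⟨eI⟩ := hinv
  have hI := FlatMor12.IdealModGen.isInvertible_idealMod Z hZ
  obtain ⟨a₁⟩ := exists_assocIso' W hHn hI
  have e₁ : CohB1.tensorMod (ClSub.idealMod Z) P ≅ W :=
    AmpleLib.tensorComm _ _ ≪≫ a₁ ≪≫ AmpleLib.tensorIso (Iso.refl W) eI ≪≫ AmpleLib.tensorComm _ _ ≪≫
      unitTensorIso W
  -- the last term is the push forward of the cotangent sheaf
  have hLF : FlatMod.IsFinLocFree P := fun x =>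
    let ⟨U, hx, e⟩ := isFinLocFreeOfRank_one hP x; ⟨U, 1, hx, e⟩
  have e₃ : CohB1.tensorMod (ClSub.quotMod Z) P ≅ (Coh.push i).obj (Omega.sheaf (i ≫ f)) :=
    AmpleLib.tensorComm _ _ ≪≫ (projIso (f := i) hLF).app _ ≪≫
      (Scheme.Modules.pushforward i).mapIso (AmpleLib.tensorComm _ _ ≪≫ unitTensorIso _ ≪≫ eΩ)
  by_contra hcon
  have h2 : Subsingleton (Coh.HH X W 2) := not_nontrivial_iff_subsingleton.1 hcon
  have hG : Subsingleton (Coh.HH X ((Coh.push i).obj (Omega.sheaf (i ≫ f))) 1) :=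
    subsingleton_h1_of_twist k (shortExact_ideal Z) hP (Iso.refl _) e₁ e₃ h2 hv
  haveI hq : Coh.IsQCoh (Omega.sheaf (i ≫ f)) :=
    isQCoh_of_isInvertible (OmegaDual24.isInvertible_omega (k := k) (X := Z.subscheme) hd)
  haveI : Subsingleton (Coh.HH Z.subscheme (Omega.sheaf (i ≫ f)) 1) :=
    @Equiv.subsingleton _ _ (SerreDual.hpush i k rfl (Omega.sheaf (i ≫ f)) 1).toEquiv hG
  have h1 := (OmegaDual24.finrank_omega k (X := Z.subscheme) hd).2
  rw [show (Z.subscheme ↘ Spec (CommRingCat.of k)) = i ≫ f from rfl, Module.finrank_zero_of_subsingleton] at h1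
  exact zero_ne_one h1

end Groth.Agent.Surf15
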