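import Groth.Agent.Surf15.Divisor
import Groth.Agent.Surf15.IntPush
import Groth.Agent.Surf15.SerreDual
import Groth.Agent.CurveRR24.AlgClosed
import Groth.Agent.LefPen24.PlaneCurve
import Groth.Agent.AbCubeLib.FiniteDegree
import Groth.Agent.SerreDual.Trace
import Groth.Agent.Surf15.LMSimple

/-!
# Surf15: connectedness of divisors and `H¹` of their ideals
-/

set_option autoImplicit false
set_option linter.style.haveILetI false
set_option linter.unusedSectionVars false
set_option backward.isDefEq.respectTransparency.types false

universe u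

open CategoryTheory CategoryTheory.Limits AlgebraicGeometry Opposite TopologicalSpace
open Groth.Agent.Coherent Groth.Agent.PicLib Groth.Agent.AmpleLib Groth.Agent.EulerLib
open Groth.Agent.CurveRR24

namespace Groth.Agent.Surf15

variable {X : Scheme.{u}} (k : Type u) [Field k] [IsAlgClosed k] [X.Over (Spec (CommRingCat.of k))]
  [IsProper (X ↘ Spec (CommRingCat.of k))] [IsIntegral X]
  (hH1 : Subsingleton (Coh.HH X (Coh.structureModule X) 1)) (D : X.IdealSheafData)
  [D.subscheme.Over (Spec (CommRingCat.of k))]
  (hD : D.subschemeι ≫ (X ↘ Spec (CommRingCat.of k)) = D.subscheme ↘ Spec (CommRingCat.of k))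
include k hD

omit [IsAlgClosed k] [IsIntegral X] in
theorem finrank_h0_quotMod :
    Module.finrank k (Coh.HH X (ClSub.quotMod D) 0) =
      Module.finrank k (Coh.HH D.subscheme (Coh.structureModule D.subscheme) 0) := by
  haveI := isSeparated_of_proper (X := X) k
  haveI : Coh.IsQCoh (Coh.structureModule D.subscheme) := isQCoh_structureModule
  obtain ⟨e⟩ := nonempty_push_iso_quotMod D.subschemeι
  rw [D.ker_subschemeι] at e
  exact ((SerreDual.hpush D.subschemeι k hD (Coh.structureModule D.subscheme) 0).trans (HHCongr k e 0)).finrank_eq.symm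

/-- A divisor whose ideal has no first cohomology is connected. -/
theorem connectedSpace_of_h1_idealMod [Nonempty D.subscheme]
    (h : Subsingleton (Coh.HH X (ClSub.idealMod D) 1)) : ConnectedSpace D.subscheme := by
  haveI := isNoetherian_of_proper (X := X) k
  haveI : IsProper (D.subscheme ↘ Spec (CommRingCat.of k)) := hD ▸ inferInstance
  haveI := isNoetherian_of_proper (X := D.subscheme) k
  refine LefPen24.connectedSpace_of_finrank k (le_antisymm ?_ ?_)
  · rw [← finrank_h0_quotMod k D hD, ← h0_structure (X := X) k]
    haveI := finite_HH_of_isCoh k (isCoh_structureModule X) 0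
    have hs := SerreDual.hmap_surjective_of_shortExact k (shortExact_ideal D) 0 h
    have hle := LinearMap.finrank_range_le (SerreDual.hmap k (ClSub.toSubscheme D) 0)
    rwa [LinearMap.range_eq_top.2 hs, finrank_top] at hle
  · haveI := finite_HH_of_isCoh k (isCoh_structureModule D.subscheme) 0
    haveI : Nonempty (⊤ : D.subscheme.Opens) := ⟨⟨Classical.arbitrary D.subscheme, trivial⟩⟩
    haveI : Nontrivial (GA (baseHom k D.subscheme) (Coh.structureModule D.subscheme)) :=
      inferInstanceAs (Nontrivial Γ(D.subscheme, ⊤))
    haveI : Nontrivial (Coh.HH D.subscheme (Coh.structureModule D.subscheme) 0) :=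
      (hhZero k (Coh.structureModule D.subscheme)).toEquiv.nontrivial
    exact Nat.succ_le_of_lt Module.finrank_pos

include hH1 in
/-- The ideal of a connected reduced divisor has no first cohomology. -/
theorem subsingleton_h1_idealMod (hE : BlowUp.IsEffCartierIdeal D)
    (hX : topologicalKrullDim X = ((2 : ℕ) : WithBot ℕ∞)) {H : X.Modules} (hH : CohB1.IsAmple H)
    [ConnectedSpace D.subscheme] [IsReduced D.subscheme] :
    Subsingleton (Coh.HH X (ClSub.idealMod D) 1) := by
  haveI := isNoetherian_of_proper (X := X) k
  haveI : IsProper (D.subscheme ↘ Spec (CommRingCat.of k)) := hD ▸ inferInstance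
  haveI := finite_HH_of_isCoh k (isCoh_structureModule X) 0
  haveI := finite_HH_of_isCoh k (isCoh_quotMod D) 0
  have hne : D ≠ ⊤ := by
    intro h
    have hs : D.support = ⊥ := by rw [h, Scheme.IdealSheafData.support_top]
    obtain ⟨z⟩ : Nonempty D.subscheme := inferInstance
    have hz := D.range_subschemeι.le ⟨z, rfl⟩
    rw [hs] at hz
    exact hz
  -- the ideal has no sections
  have hI := FlatMor12.IdealModGen.isInvertible_idealMod D hE
  have hI0 : Subsingleton (Coh.HH X (ClSub.idealMod D) 0) := by
    by_contra hc
    obtain ⟨s, hs⟩ := exists_section_ne_zero k (not_subsingleton_iff_nontrivial.1 hc)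
    have hneg : B k (InvCl.mk (ClSub.idealMod D) hI) (InvCl.mk H hH.1) < 0 := B_clI'_ample_neg k hX hE hne hH
    rcases B_sec k hX hI hs hH with h | e
    · omega
    · rw [InvCl.mk_eq hI isInvertible_structureModule e.some,
        show InvCl.mk (Coh.structureModule X) isInvertible_structureModule = 1 from rfl,
        B_one_left k hX.le] at hneg
      exact lt_irrefl _ hneg
  have hinj : Function.Injective (SerreDual.hmap k (ClSub.toSubscheme D) 0) := by
    refine (injective_iff_map_eq_zero _).2 fun x hx => ?_
    obtain ⟨y, rfl⟩ := (SerreDual.exact_hmap k (shortExact_ideal D) 0 x).1 hx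
    exact (congrArg _ (Subsingleton.elim y 0)).trans (map_zero _)
  have hsurj : Function.Surjective (SerreDual.hmap k (ClSub.toSubscheme D) 0) :=
    (LinearMap.injective_iff_surjective_of_finrank_eq_finrank
      (by rw [finrank_h0_quotMod k D hD, h0_structure (X := X) k, h0_structure (X := D.subscheme) k])).1 hinj
  refine subsingleton_of_forall_eq 0 fun x => ?_
  haveI : Subsingleton (Coh.HH X (ShortComplex.mk (ClSub.idealModι D) (ClSub.toSubscheme D)
    (kernel.condition (ClSub.toSubscheme D))).X₂ 1) := hH1
  exact hmap_injective_of_surjective k (shortExact_ideal D) 0 hsurj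
    ((Subsingleton.elim _ _).trans (map_zero _).symm)

end Groth.Agent.Surf15
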