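import Groth.Agent.Surf15.IntPush
import Groth.Agent.Surf15.Adjunction

/-!
# Surf15: degrees of restrictions to embedded curves
-/

set_option autoImplicit false
set_option linter.style.haveILetI false
set_option backward.isDefEq.respectTransparency.types false

universe u

open CategoryTheory CategoryTheory.Limits AlgebraicGeometry Opposite TopologicalSpace
open Groth.Agent.Coherent Groth.Agent.PicLib Groth.Agent.AmpleLib Groth.Agent.EulerLib
open Groth.Agent.CurveRR24

namespace Groth.Agent.Surf15

variable {X C : Scheme.{u}} (k : Type u) [Field k] [X.Over (Spec (CommRingCat.of k))]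
  [IsProper (X ↘ Spec (CommRingCat.of k))]

include k in
/-- The degree of the restriction to an embedded subscheme. -/
theorem deg_pullback_eq (i : C ⟶ X) [IsClosedImmersion i] {L : X.Modules} (hL : PicF.IsInvertible L) :
    letI : C.Over (Spec (CommRingCat.of k)) := ⟨i ≫ (X ↘ Spec (CommRingCat.of k))⟩
    Curv2.deg k C ((Scheme.Modules.pullback i).obj L) 1 = deg k (ClSub.quotMod i.ker) (InvCl.mk L hL) := by
  letI : C.Over (Spec (CommRingCat.of k)) := ⟨i ≫ (X ↘ Spec (CommRingCat.of k))⟩
  haveI : IsProper (C ↘ Spec (CommRingCat.of k)) := inferInstanceAs (IsProper (i ≫ (X ↘ Spec (CommRingCat.of k))))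
  haveI := isNoetherian_of_proper (X := X) k
  haveI := isSeparated_of_proper (X := X) k
  haveI := isNoetherian_of_proper (X := C) k
  haveI := isSeparated_of_proper (X := C) k
  haveI : Coh.IsQCoh (Coh.structureModule C) := isQCoh_structureModule
  haveI := isQCoh_of_isInvertible (PicLoc.isInvertible_pullback i hL)
  obtain ⟨e⟩ := nonempty_push_iso_quotMod i
  have hLF : FlatMod.IsFinLocFree L := fun x =>
    let ⟨U, hx, e⟩ := isFinLocFreeOfRank_one hL x; ⟨U, 1, hx, e⟩
  let ψ : CohB1.tensorMod (ClSub.quotMod i.ker) L ≅ (Coh.push i).obj ((Scheme.Modules.pullback i).obj L) :=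
    AmpleLib.tensorComm _ _ ≪≫ AmpleLib.tensorIso (Iso.refl L) e.symm ≪≫ (projIso (f := i) hLF).app _ ≪≫
      (Scheme.Modules.pushforward i).mapIso (AmpleLib.tensorComm _ _ ≪≫ unitTensorIso _)
  rw [deg_mk, euler_congr k X ψ, euler_congr k X e.symm,
    ← AbCubeLib.euler_push k i rfl ((Scheme.Modules.pullback i).obj L),
    ← AbCubeLib.euler_push k i rfl (Coh.structureModule C)]
  simp [Curv2.deg]

include k in
/-- Inverse invertible modules on a proper curve have opposite degrees. -/
theorem curvDeg_inverse (hdim : topologicalKrullDim X ≤ ((1 : ℕ) : WithBot ℕ∞)) {M N : X.Modules}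
    (hM : PicF.IsInvertible M) (hN : PicF.IsInvertible N) (e : CohB1.tensorMod M N ≅ Coh.structureModule X) :
    Curv2.deg k X N 1 = - Curv2.deg k X M 1 := by
  haveI := isNoetherian_of_proper (X := X) k
  have hd : topologicalKrullDim (CohB1.support (Coh.structureModule X)) ≤ ((1 : ℕ) : WithBot ℕ∞) :=
    (Topology.IsInducing.subtypeVal.topologicalKrullDim_le).trans hdim
  have h := deg_inv k (isCoh_O k) hd (a := InvCl.mk M hM) (b := InvCl.mk N hN) (InvCl.mk_eq _ _ e)
  rw [deg_mk, deg_mk, euler_congr k X (unitTensorIso N), euler_congr k X (unitTensorIso M)] at h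
  simpa [Curv2.deg] using h

end Groth.Agent.Surf15
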