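import Groth.Agent.EulerLib.Positive
import Groth.Agent.EulerLib.FGABridge
import Groth.Agent.AbCubeLib.InterDegPullback
import Groth.Agent.VarietyLib.Dual
import Groth.Agent.PicLib.PicMonoid

/-!
# Surf15: degrees on classes and the intersection pairing in dimension at most two
-/

set_option autoImplicit false
set_option linter.style.haveILetI false
set_option backward.isDefEq.respectTransparency.types false

universe u

open CategoryTheory CategoryTheory.Limits AlgebraicGeometry Opposite TopologicalSpace
open Groth.Agent.Coherent Groth.Agent.PicLib Groth.Agent.AmpleLib Groth.Agent.EulerLib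

namespace Groth.Agent.Surf15

variable {X : Scheme.{u}}

/-- Inverses of classes. -/
theorem exists_inv (a : InvCl X) : ∃ b : InvCl X, a * b = 1 := by
  obtain ⟨L, hL, rfl⟩ := InvCl.exists_rep a
  obtain ⟨M, ⟨e⟩⟩ := VarietyLib.exists_isInverseOf hL
  have hM : PicF.IsInvertible M :=
    PicM.isInvertible_of_tensor hL (glocus_isInvertible_of_iso e.symm isInvertible_structureModule)
  exact ⟨InvCl.mk M hM, InvCl.mk_eq _ _ e⟩

variable (k : Type u) [Field k] [X.Over (Spec (CommRingCat.of k))]

/-- The degree of a class on a module: `χ(F ⊗ a) - χ(F)`. -/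
noncomputable def deg (F : X.Modules) (a : InvCl X) : ℤ := chiCl k F a - chiCl k F 1

theorem deg_one (F : X.Modules) : deg k F 1 = 0 := sub_self _

theorem deg_congr {F F' : X.Modules} (e : F ≅ F') : deg k F = deg k F' := by
  funext a
  rw [deg, deg, chiCl_congr k e]

theorem deg_mk (F : X.Modules) {L : X.Modules} (hL : PicF.IsInvertible L) :
    deg k F (InvCl.mk L hL) = Curv2.euler k X (CohB1.tensorMod F L) - Curv2.euler k X F := by
  rw [deg, chiCl_one, chiCl_mk]

theorem interDeg_one_class (F : X.Modules) (a : InvCl X) :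
    interDeg (fun _ : Fin 1 => a) (chiCl k F) = deg k F a := by
  rw [show (fun _ : Fin 1 => a) = Fin.cons a Fin.elim0 from
    funext fun i => by
      induction i using Fin.cases with
      | zero => rfl
      | succ i => exact i.elim0, interDeg_cons, interDeg_zero, mul_one]
  rfl

/-- The intersection pairing on classes. -/
noncomputable def B (a b : InvCl X) : ℤ :=
  chiCl k (Coh.structureModule X) (a * b) - chiCl k (Coh.structureModule X) a -
    chiCl k (Coh.structureModule X) b + chiCl k (Coh.structureModule X) 1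

theorem B_comm (a b : InvCl X) : B k a b = B k b a := by
  rw [B, B, mul_comm]; ring

theorem B_eq_interDeg (a b : InvCl X) :
    B k a b = interDeg (Fin.cons a (Fin.cons b Fin.elim0) : Fin 2 → InvCl X)
      (chiCl k (Coh.structureModule X)) := by
  rw [interDeg_cons, interDeg_cons, interDeg_zero, B]
  simp only [mul_one]
  ring

variable [IsProper (X ↘ Spec (CommRingCat.of k))]

theorem deg_additive [IsLocallyNoetherian X] (S : ShortComplex X.Modules) (hS : S.ShortExact)
    (h₁ : Coh.IsCoh S.X₁) (h₂ : Coh.IsCoh S.X₂) (h₃ : Coh.IsCoh S.X₃) (a : InvCl X) :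
    deg k S.X₂ a = deg k S.X₁ a + deg k S.X₃ a := by
  simp only [deg, chiCl_additive k S hS h₁ h₂ h₃, Pi.add_apply]
  ring

theorem deg_eq_zero_of_dim {F : X.Modules} (hF : Coh.IsCoh F)
    (hd : topologicalKrullDim (CohB1.support F) < ((1 : ℕ) : WithBot ℕ∞)) (a : InvCl X) :
    deg k F a = 0 := by
  rw [← interDeg_one_class]
  exact interDeg_eq_zero _ (finDeg_chiCl k hF hd)

theorem deg_mul {F : X.Modules} (hF : Coh.IsCoh F)
    (hd : topologicalKrullDim (CohB1.support F) ≤ ((1 : ℕ) : WithBot ℕ∞)) (a b : InvCl X) :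
    deg k F (a * b) = deg k F a + deg k F b := by
  have h := interDeg_mul a b (Fin.elim0 : Fin 0 → InvCl X) (clDeg_chiCl k hF hd)
  simp only [interDeg_cons, interDeg_zero, mul_one] at h
  exact h

theorem deg_pow {F : X.Modules} (hF : Coh.IsCoh F)
    (hd : topologicalKrullDim (CohB1.support F) ≤ ((1 : ℕ) : WithBot ℕ∞)) (a : InvCl X) :
    ∀ n : ℕ, deg k F (a ^ n) = n * deg k F a
  | 0 => by rw [pow_zero, deg_one, Nat.cast_zero, zero_mul]
  | n + 1 => by
    rw [pow_succ, deg_mul k hF hd, deg_pow hF hd a n]
    push_cast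
    ring

theorem deg_inv {F : X.Modules} (hF : Coh.IsCoh F)
    (hd : topologicalKrullDim (CohB1.support F) ≤ ((1 : ℕ) : WithBot ℕ∞)) {a b : InvCl X}
    (h : a * b = 1) : deg k F b = - deg k F a := by
  have := deg_mul k hF hd a b
  rw [h, deg_one] at this
  omega

include k in
theorem isCoh_O : Coh.IsCoh (Coh.structureModule X) :=
  haveI := isNoetherian_of_proper (X := X) k
  isCoh_structureModule X

theorem clDeg_O {d : ℕ} (hd : topologicalKrullDim X ≤ (d : WithBot ℕ∞)) :
    ClDeg (d + 1) (chiCl k (Coh.structureModule X)) :=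
  clDeg_chiCl k (isCoh_O k) ((dim_mono (Set.subset_univ _)).trans
    ((IsHomeomorph.topologicalKrullDim_eq _ (Homeomorph.Set.univ X).isHomeomorph).le.trans hd))

variable (hX : topologicalKrullDim X ≤ ((2 : ℕ) : WithBot ℕ∞))
include hX

theorem B_mul_left (a b c : InvCl X) : B k (a * b) c = B k a c + B k b c := by
  simp only [B_eq_interDeg]
  exact interDeg_mul a b _ (clDeg_O k hX)

theorem B_mul_right (a b c : InvCl X) : B k a (b * c) = B k a b + B k a c := by
  rw [B_comm k, B_mul_left k hX, B_comm k b, B_comm k c]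

theorem B_one_left (a : InvCl X) : B k 1 a = 0 := by
  simp [B]

theorem B_one_right (a : InvCl X) : B k a 1 = 0 := by
  rw [B_comm k]; exact B_one_left k hX a

theorem B_pow_left (a c : InvCl X) : ∀ n : ℕ, B k (a ^ n) c = n * B k a c
  | 0 => by rw [pow_zero, B_one_left k hX, Nat.cast_zero, zero_mul]
  | n + 1 => by
    rw [pow_succ, B_mul_left k hX, B_pow_left a c n]
    push_cast
    ring

theorem B_pow_right (a c : InvCl X) (n : ℕ) : B k c (a ^ n) = n * B k c a := by
  rw [B_comm k, B_pow_left k hX, B_comm k]

theorem B_inv_left {a a' : InvCl X} (h : a * a' = 1) (c : InvCl X) : B k a' c = - B k a c := by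
  have := B_mul_left k hX a a' c
  rw [h, B_one_left k hX] at this
  omega

theorem B_inv_right {a a' : InvCl X} (h : a * a' = 1) (c : InvCl X) : B k c a' = - B k c a := by
  rw [B_comm k, B_inv_left k hX h, B_comm k]

theorem B_inv_inv {a a' b b' : InvCl X} (ha : a * a' = 1) (hb : b * b' = 1) :
    B k a' b' = B k a b := by
  rw [B_inv_left k hX ha, B_inv_right k hX hb]
  ring

/-- Riemann–Roch along powers, without the canonical class. -/
theorem chi_pow (a : InvCl X) (n : ℕ) :
    2 * chiCl k (Coh.structureModule X) (a ^ n) =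
      (n * n : ℤ) * B k a a +
      (n : ℤ) * (2 * (chiCl k (Coh.structureModule X) a - chiCl k (Coh.structureModule X) 1) - B k a a) +
      2 * chiCl k (Coh.structureModule X) 1 := by
  induction n with
  | zero => simp
  | succ n ih =>
    have h := B_pow_left k hX a a n
    rw [B, ← pow_succ] at h
    push_cast
    linear_combination ih + 2 * h

/-- `FGA.intNum` of two invertible modules is the pairing. -/
theorem intNum_eq_B {L M : X.Modules} (hL : PicF.IsInvertible L) (hM : PicF.IsInvertible M) :
    FGA.intNum k X 2 ![L, M] (Coh.structureModule X) = B k (InvCl.mk L hL) (InvCl.mk M hM) := by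
  rw [intNum_eq k ![L, M] (fun i => by fin_cases i <;> assumption) (isCoh_O k) hX]
  have e : (fun i => InvCl.mk ((![L, M] : Fin 2 → X.Modules) i)
      ((fun i => by fin_cases i <;> assumption : ∀ i, PicF.IsInvertible ((![L, M] : Fin 2 → X.Modules) i)) i)) =
      (Fin.cons (InvCl.mk L hL) (Fin.cons (InvCl.mk M hM) Fin.elim0) : Fin 2 → InvCl X) := by
    funext i
    fin_cases i <;> rfl
  rw [e, B_eq_interDeg, interDeg]
  norm_num

/-- `FGA.eulerCharLE` and `Curv2.euler` of an invertible module. -/
theorem euler_eq_chiCl {L : X.Modules} (hL : PicF.IsInvertible L) :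
    Curv2.euler k X L = chiCl k (Coh.structureModule X) (InvCl.mk L hL) := by
  rw [chiCl_mk]
  exact euler_congr k X (unitTensorIso L).symm

end Groth.Agent.Surf15
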