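import Groth.Agent.Surf15.Divisor
import Groth.Agent.CAlgH3.Parameters
import Groth.Agent.Inters29.PullIdeal
import Groth.Agent.Inters29.Length
import Groth.Agent.Inters29.PrimeDiv

/-!
# Surf15: proper intersections of two effective Cartier divisors on a Cohen–Macaulay surface
-/

set_option autoImplicit false
set_option linter.style.haveILetI false
set_option backward.isDefEq.respectTransparency.types false

universe u

open CategoryTheory CategoryTheory.Limits AlgebraicGeometry Opposite TopologicalSpace IsLocalRing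
open Groth.Agent.Coherent Groth.Agent.PicLib Groth.Agent.AmpleLib Groth.Agent.EulerLib
open Groth.Agent.DimLib Groth.Agent.Misc15.DivDescent

namespace Groth.Agent.Surf15

variable {X : Scheme.{u}}

theorem isClosed_of_mem_finite_closed [JacobsonSpace X] {T : Set X} (hT : T.Finite) (hTc : IsClosed T)
    {y : X} (hy : y ∈ T) : IsClosed ({y} : Set X) := by
  have hsub : closure ({y} : Set X) ⊆ T := hTc.closure_subset_iff.2 (Set.singleton_subset_iff.2 hy)
  set P := closure ({y} : Set X) ∩ closedPoints X
  have hfin : P.Finite := hT.subset (Set.inter_subset_left.trans hsub)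
  have hPc : IsClosed P := by
    rw [← Set.biUnion_of_singleton P]
    exact hfin.isClosed_biUnion fun z hz => hz.2
  have h := closure_inter_closedPoints (isClosed_closure (s := ({y} : Set X)))
  rw [hPc.closure_eq] at h
  have hyP : y ∈ P := h.ge (subset_closure rfl)
  exact hyP.2

variable (k : Type u) [Field k] [X.Over (Spec (CommRingCat.of k))]
  [LocallyOfFiniteType (X ↘ Spec (CommRingCat.of k))]

theorem ptDim_le_two (hdim : ∀ Z ∈ irreducibleComponents (X : Type u), topologicalKrullDim Z = 2) (y : X) :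
    ptDim (X ↘ Spec (CommRingCat.of k)) y ≤ 2 := by
  let p := X ↘ Spec (CommRingCat.of k)
  obtain ⟨Z, hZ, hyZ⟩ : ∃ Z ∈ irreducibleComponents (X : Type u), y ∈ Z :=
    ⟨_, irreducibleComponent_mem_irreducibleComponents y, mem_irreducibleComponent⟩
  obtain ⟨η, hη, -⟩ := exists_genericPoint_of_mem_components hZ
  have h := topologicalKrullDim_eq_ptDim_of_isGenericPoint p hη
  rw [hdim Z hZ] at h
  have h2 : ptDim p η = 2 := by exact_mod_cast h.symm
  exact (ptDim_le_of_specializes p (hη.specializes hyZ)).trans h2.le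

include k in
/-- The local ring at a closed point of an equidimensional surface has dimension two. -/
theorem ringKrullDim_stalk_closed (hdim : ∀ Z ∈ irreducibleComponents (X : Type u), topologicalKrullDim Z = 2)
    {z : X} (hz : IsClosed ({z} : Set X)) : ringKrullDim (X.presheaf.stalk z) = ((2 : ℕ) : WithBot ℕ∞) := by
  let p := X ↘ Spec (CommRingCat.of k)
  rw [ringKrullDim_stalk_eq_coheight]
  have hle : Order.coheight z ≤ (2 : ℕ∞) := by
    have h1 := Order.coheight_le_krullDim z
    rw [← topologicalKrullDim_eq_krullDim, topologicalKrullDim_eq_iSup p] at h1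
    exact WithBot.coe_le_coe.1 (h1.trans (iSup_le fun y => by exact_mod_cast ptDim_le_two k hdim y))
  obtain ⟨η, hη, -⟩ := exists_genericPoint_of_mem_components (irreducibleComponent_mem_irreducibleComponents z)
  have hdη := topologicalKrullDim_eq_ptDim_of_isGenericPoint p hη
  rw [hdim _ (irreducibleComponent_mem_irreducibleComponents z)] at hdη
  have hη2 : ptDim p η = 2 := by exact_mod_cast hdη.symm
  have hz0 : ptDim p z = 0 := (ptDim_eq_zero_iff p z).2 hz
  obtain ⟨w, h1, h2, h3⟩ := exists_specializes_ptDim_succ p (hη.specializes mem_irreducibleComponent)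
    (fun e => by rw [e] at hη2; omega)
  have a := SDiv28.CartierPart.dim_add_one_le h1 (fun e => by rw [e] at hη2; omega)
  have b := SDiv28.CartierPart.dim_add_one_le h2 (fun e => by rw [e] at h3; omega)
  have hge : (2 : ℕ∞) ≤ Order.coheight z := by
    refine le_trans ?_ b
    calc (2 : ℕ∞) = 0 + 1 + 1 := by norm_num
      _ ≤ Order.coheight w + 1 := by gcongr; exact le_trans (by gcongr; exact zero_le) a
  rw [le_antisymm hle hge]
  rfl

set_option maxHeartbeats 1000000 in
include k in
/-- The second divisor restricts to an effective Cartier divisor on the first. -/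
theorem isEffCartier_comap_of_finite [IsLocallyNoetherian X]
    (hdim : ∀ Z ∈ irreducibleComponents (X : Type u), topologicalKrullDim Z = 2)
    (hCM : ∀ x : X, LocCoh.IsCohenMacaulayLocalRing (X.presheaf.stalk x))
    {IC ID : X.IdealSheafData} (hC : BlowUp.IsEffCartierIdeal IC) (hD : BlowUp.IsEffCartierIdeal ID)
    (hfin : ((IC ⊔ ID).support : Set X).Finite) : BlowUp.IsEffCartierIdeal (ID.comap IC.subschemeι) := by
  classical
  haveI : JacobsonSpace X := LocallyOfFiniteType.jacobsonSpace (X ↘ Spec (CommRingCat.of k))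
  intro c
  obtain ⟨U₀, hx₀, g₀, hg₀, hgD₀⟩ := hD (IC.subschemeι c)
  obtain ⟨U, hxU, hUU, f, hf, hfC⟩ := ModPairLib.exists_local hC (IC.subschemeι c) U₀.1 hx₀
  let g := ModPairLib.res hUU g₀
  have hgD : ID.ideal U = Ideal.span {g} := ModPairLib.ideal_restrict ID hUU hgD₀
  let V : IC.subscheme.affineOpens := ⟨IC.subschemeι ⁻¹ᵁ U.1, U.2.preimage _⟩
  have key : ∀ a : Γ(X, U.1), g * a ∈ IC.ideal U → a ∈ IC.ideal U := by
    intro a ha
    refine (mem_ideal_iff IC U).2 fun x hx => ?_
    let G := (X.presheaf.germ U.1 x hx).hom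
    have hGf : stk IC x = Ideal.span {G f} := by
      rw [stk_eq IC U hx, hfC, Ideal.map_span, Set.image_singleton]
    have hGg : stk ID x = Ideal.span {G g} := by
      rw [stk_eq ID U hx, hgD, Ideal.map_span, Set.image_singleton]
    have hGa : G g * G a ∈ Ideal.span {G f} := by
      rw [← hGf, ← map_mul]
      exact (mem_ideal_iff IC U).1 ha x hx
    rw [hGf]
    by_cases hu : IsUnit (G g)
    · exact (Ideal.unit_mul_mem_iff_mem _ hu).1 hGa
    by_cases huf : IsUnit (G f)
    · rw [Ideal.span_singleton_eq_top.2 huf]; trivial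
    -- the two equations form a system of parameters at `x`
    haveI := hCM x
    have hxT : x ∈ ((IC ⊔ ID).support : Set X) := by
      rw [SetLike.mem_coe, SDiv28.CartierPart.mem_support_iff_stk, stk_eq _ U hx,
        Scheme.IdealSheafData.ideal_sup, Pi.sup_apply, Ideal.map_sup, ← stk_eq IC U hx, ← stk_eq ID U hx,
        hGf, hGg]
      exact sup_le ((Ideal.span_singleton_le_iff_mem _).2 huf) ((Ideal.span_singleton_le_iff_mem _).2 hu)
    have hxc := isClosed_of_mem_finite_closed hfin (IC ⊔ ID).support.isClosed hxT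
    let v : Fin 2 → X.presheaf.stalk x := ![G f, G g]
    have hv : ∀ i, v i ∈ maximalIdeal (X.presheaf.stalk x) := fun i => by fin_cases i <;> assumption
    have hspan : Ideal.span (Set.range v) = stk (IC ⊔ ID) x := by
      rw [stk_eq _ U hx, Scheme.IdealSheafData.ideal_sup, Pi.sup_apply, Ideal.map_sup, ← stk_eq IC U hx,
        ← stk_eq ID U hx, hGf, hGg, ← Ideal.span_union]
      simp only [v, Matrix.range_cons, Matrix.range_empty, Set.union_empty]
    have hQ : ∀ P : PrimeSpectrum (X.presheaf.stalk x), stk (IC ⊔ ID) x ≤ P.asIdeal →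
        P = closedPoint (X.presheaf.stalk x) := by
      intro P hP
      have hmem := (Inters29.fromSpecStalk_mem_support_iff (IC ⊔ ID) P).2 hP
      have hcl := isClosed_of_mem_finite_closed hfin (IC ⊔ ID).support.isClosed hmem
      have hsp : X.fromSpecStalk x P ⤳ x := Scheme.range_fromSpecStalk.le ⟨P, rfl⟩
      have e : X.fromSpecStalk x P = x := by
        have := hsp.mem_closed hcl rfl
        exact this.symm
      exact (X.fromSpecStalk x).isEmbedding.injective (e.trans Scheme.fromSpecStalk_closedPoint.symm)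
    have hd0 : ringKrullDim (X.presheaf.stalk x ⧸ Ideal.span (Set.range v)) = 0 := by
      rw [hspan]
      haveI : Nontrivial (X.presheaf.stalk x ⧸ stk (IC ⊔ ID) x) :=
        Ideal.Quotient.nontrivial_iff.2 (ne_top_of_le_ne_top (maximalIdeal.isMaximal _).ne_top
          (hspan ▸ Ideal.span_le.2 (Set.range_subset_iff.2 hv)))
      refine le_antisymm ?_ ringKrullDim_nonneg_of_nontrivial
      rw [ringKrullDim_quotient]
      haveI : Subsingleton (PrimeSpectrum.zeroLocus (R := X.presheaf.stalk x) (stk (IC ⊔ ID) x : Set _)) :=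
        ⟨fun P Q => Subtype.ext ((hQ P.1 P.2).trans (hQ Q.1 Q.2).symm)⟩
      exact Order.krullDim_nonpos_of_subsingleton
    have hreg := CAlgH3.isSMulRegular_of_isSystemOfParameters v hv
      (by rw [ringKrullDim_stalk_closed k hdim hxc, Fintype.card_fin]) hd0 {0} 1 (by simp)
    have e : Ideal.span (v '' (({0} : Finset (Fin 2)) : Set (Fin 2))) = Ideal.span {G f} := by simp [v]
    rw [← e] at hGa ⊢
    have h0 : v 1 • Ideal.Quotient.mk (Ideal.span (v '' (({0} : Finset (Fin 2)) : Set (Fin 2)))) (G a) = 0 :=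
      Ideal.Quotient.eq_zero_iff_mem.2 hGa
    exact Ideal.Quotient.eq_zero_iff_mem.1 (hreg.right_eq_zero_of_smul h0)
  refine ⟨V, hxU, (IC.subschemeι.appLE U.1 V.1 le_rfl).hom g, ?_, ?_⟩
  · have happ : ∀ a, (IC.subschemeι.appLE U.1 V.1 le_rfl).hom a = (IC.subschemeι.app U.1).hom a := fun a => by
      simp [Scheme.Hom.app_eq_appLE]
      rfl
    refine mem_nonZeroDivisors_iff_right.2 fun b hb => ?_
    obtain ⟨a, rfl⟩ := IC.subschemeι_app_surjective U b
    have hker : ∀ y, (IC.subschemeι.app U.1).hom y = 0 ↔ y ∈ IC.ideal U := fun y => by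
      rw [← RingHom.mem_ker, IC.ker_subschemeι_app U]
    rw [happ, ← map_mul, hker, mul_comm] at hb
    exact (hker a).2 (key a hb)
  · rw [ProjLib.comap_ideal_eq ID IC.subschemeι U V le_rfl, hgD, Ideal.map_span, Set.image_singleton]

/-- Global functions of isomorphic closed subschemes have the same dimension. -/
theorem finrank_H0_of_iso {A B : Scheme.{u}} [A.Over (Spec (CommRingCat.of k))]
    [B.Over (Spec (CommRingCat.of k))] (t : A ⟶ B) [IsIso t]
    (ht : t ≫ (B ↘ Spec (CommRingCat.of k)) = A ↘ Spec (CommRingCat.of k)) :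
    Module.finrank k (Coh.HH A (Coh.structureModule A) 0) =
      Module.finrank k (Coh.HH B (Coh.structureModule B) 0) := by
  let F : Γ(B, ⊤) →+* Γ(A, ⊤) := t.appTop.hom
  haveI : IsIso t.appTop := inferInstanceAs (IsIso (t.app ⊤))
  have hscal : ∀ r : k, F (baseHom k B r) = baseHom k A r := by
    intro r
    have h2 := congrArg (fun g : A ⟶ Spec (CommRingCat.of k) =>
      g.appTop.hom ((Scheme.ΓSpecIso (CommRingCat.of k)).inv.hom r)) ht
    simp only [Scheme.Hom.comp_appTop, CommRingCat.comp_apply] at h2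
    exact h2
  let e : GA (baseHom k B) (Coh.structureModule B) →ₗ[k] GA (baseHom k A) (Coh.structureModule A) :=
    { toFun := fun s => (show Γ(A, ⊤) from F (show Γ(B, ⊤) from s))
      map_add' := fun a b => map_add F _ _
      map_smul' := fun r s => (map_mul F _ _).trans (congrArg (· * _) (hscal r)) }
  rw [(CurveRR24.hhZero k (Coh.structureModule A)).finrank_eq,
    (CurveRR24.hhZero k (Coh.structureModule B)).finrank_eq,
    (LinearEquiv.ofBijective e (ConcreteCategory.bijective_of_isIso t.appTop)).finrank_eq]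

include k in
/-- **Proper intersections**: the intersection number is the length of the intersection. -/
theorem B_eq_length [IsProper (X ↘ Spec (CommRingCat.of k))]
    (hdim : ∀ Z ∈ irreducibleComponents (X : Type u), topologicalKrullDim Z = 2)
    (hCM : ∀ x : X, LocCoh.IsCohenMacaulayLocalRing (X.presheaf.stalk x))
    {IC ID : X.IdealSheafData} (hC : BlowUp.IsEffCartierIdeal IC) (hD : BlowUp.IsEffCartierIdeal ID)
    (hfin : ((IC ⊔ ID).support : Set X).Finite) :
    B k (clI' IC hC) (clI' ID hD) = (Module.finrank k (Coh.HH X (ClSub.quotMod (IC ⊔ ID)) 0) : ℤ) := by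
  haveI := isNoetherian_of_proper (X := X) k
  haveI := isSeparated_of_proper (X := X) k
  haveI : JacobsonSpace X := LocallyOfFiniteType.jacobsonSpace (X ↘ Spec (CommRingCat.of k))
  let i := IC.subschemeι
  letI : IC.subscheme.Over (Spec (CommRingCat.of k)) := ⟨i ≫ (X ↘ Spec (CommRingCat.of k))⟩
  haveI : IsProper (IC.subscheme ↘ Spec (CommRingCat.of k)) :=
    inferInstanceAs (IsProper (i ≫ (X ↘ Spec (CommRingCat.of k))))
  haveI := isNoetherian_of_proper (X := IC.subscheme) k
  haveI := isSeparated_of_proper (X := IC.subscheme) k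
  set Z := ID.comap i
  have hZe : BlowUp.IsEffCartierIdeal Z := isEffCartier_comap_of_finite k hdim hCM hC hD hfin
  have hIi := FlatMor12.IdealModGen.isInvertible_idealMod ID hD
  obtain ⟨eI⟩ := Inters29.nonempty_pullback_idealMod_iso i ID hD hZe
  have hZi := FlatMor12.IdealModGen.isInvertible_idealMod Z hZe
  have hLF : FlatMod.IsFinLocFree (ClSub.idealMod ID) := fun x =>
    let ⟨U, hx, e⟩ := isFinLocFreeOfRank_one hIi x; ⟨U, 1, hx, e⟩
  let N := (Scheme.Modules.pullback i).obj (ClSub.idealMod ID)
  have e : CohB1.tensorMod (ClSub.quotMod IC) (ClSub.idealMod ID) ≅ (Coh.push i).obj N :=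
    AmpleLib.tensorComm _ _ ≪≫ (projIso (f := i) hLF).app _ ≪≫
      (Scheme.Modules.pushforward i).mapIso (AmpleLib.tensorComm _ _ ≪≫ unitTensorIso _)
  have hO : Coh.IsCoh (Coh.structureModule IC.subscheme) := isCoh_structureModule _
  have hN : Coh.IsCoh N := isCoh_iso (unitTensorIso N) (isCoh_twist (PicLoc.isInvertible_pullback i hIi) hO)
  haveI : Coh.IsQCoh N := hN.1
  haveI : Coh.IsQCoh (Coh.structureModule IC.subscheme) := hO.1
  -- the sequence of the intersection on the first divisor
  have hadd := congrFun (chiCl_additive k _ (CurveRR24.shortExact_ideal Z) (CurveRR24.isCoh_idealMod' Z) hO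
    (CurveRR24.isCoh_quotMod Z)) 1
  simp only [Pi.add_apply, chiCl_one] at hadd
  -- the intersection is finite
  let J := IC ⊔ ID
  have hJ : Z.map i = J := by
    rw [Inters29.map_comap_eq_sup, Scheme.IdealSheafData.ker_subschemeι, sup_comm]
  let t' : Z.subscheme ⟶ (Z.map i).subscheme := (Z.subschemeι ≫ i).toImage
  haveI : IsIso t' := inferInstanceAs (IsIso (Z.subschemeι ≫ i).toImage)
  obtain ⟨t, ht⟩ : ∃ t : Z.subscheme ⟶ J.subscheme, IsIso t ∧ t ≫ J.subschemeι = Z.subschemeι ≫ i :=
    hJ ▸ ⟨t', inferInstance, (Z.subschemeι ≫ i).toImage_imageι⟩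
  haveI := ht.1
  letI : Z.subscheme.Over (Spec (CommRingCat.of k)) := ⟨Z.subschemeι ≫ (IC.subscheme ↘ Spec (CommRingCat.of k))⟩
  letI : J.subscheme.Over (Spec (CommRingCat.of k)) := ⟨J.subschemeι ≫ (X ↘ Spec (CommRingCat.of k))⟩
  haveI : IsProper (Z.subscheme ↘ Spec (CommRingCat.of k)) :=
    inferInstanceAs (IsProper (Z.subschemeι ≫ (IC.subscheme ↘ Spec (CommRingCat.of k))))
  haveI := isNoetherian_of_proper (X := Z.subscheme) k
  haveI := isSeparated_of_proper (X := Z.subscheme) k
  have htk : t ≫ (J.subscheme ↘ Spec (CommRingCat.of k)) = Z.subscheme ↘ Spec (CommRingCat.of k) := by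
    show t ≫ J.subschemeι ≫ _ = Z.subschemeι ≫ i ≫ _
    rw [reassoc_of% ht.2]
  have hdZ : topologicalKrullDim Z.subscheme ≤ ((0 : ℕ) : WithBot ℕ∞) := by
    have hinj : Topology.IsInducing (Z.subschemeι ≫ i) := (Z.subschemeι ≫ i).isEmbedding.isInducing
    rw [topologicalKrullDim_eq_iSup (Z.subscheme ↘ Spec (CommRingCat.of k))]
    refine iSup_le fun z => le_of_eq ?_
    have hz : IsClosed ({z} : Set Z.subscheme) := by
      have hzJ : (Z.subschemeι ≫ i) z ∈ (J.support : Set X) := by
        rw [← ht.2, ← J.range_subschemeι]; exact ⟨t z, rfl⟩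
      have := (isClosed_of_mem_finite_closed hfin J.support.isClosed hzJ).preimage
        (Z.subschemeι ≫ i).continuous
      rwa [← Set.image_singleton, (Z.subschemeι ≫ i).isEmbedding.injective.preimage_image] at this
    rw [(ptDim_eq_zero_iff _ z).2 hz]
  haveI : Coh.IsQCoh (Coh.structureModule Z.subscheme) := isQCoh_structureModule
  have hq : Curv2.euler k IC.subscheme (ClSub.quotMod Z) =
      (Module.finrank k (Coh.HH X (ClSub.quotMod J) 0) : ℤ) := by
    rw [← AbCubeLib.euler_push k Z.subschemeι rfl (Coh.structureModule Z.subscheme),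
      euler_eq_sum k Z.subscheme _ 0 (fun q hq => subsingleton_HH_of_dim _ hdZ hq)]
    simp only [Finset.sum_range_succ, Finset.sum_range_zero]
    haveI : Coh.IsQCoh (Coh.structureModule J.subscheme) := isQCoh_structureModule
    rw [finrank_H0_of_iso k t htk, (SerreDual.hpush J.subschemeι k rfl (Coh.structureModule J.subscheme) 0).finrank_eq]
    simp
  have hd := deg_quotMod k hC (clI' ID hD)
  rw [show clI' ID hD = InvCl.mk (ClSub.idealMod ID) hIi from rfl, deg_mk, euler_congr k X e,
    ← AbCubeLib.euler_push k i rfl N] at hd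
  rw [show Curv2.euler k X (ClSub.quotMod IC) = Curv2.euler k IC.subscheme (Coh.structureModule IC.subscheme)
    from (AbCubeLib.euler_push k i rfl (Coh.structureModule IC.subscheme)).symm,
    euler_congr k IC.subscheme eI] at hd
  rw [show clI' ID hD = InvCl.mk (ClSub.idealMod ID) hIi from rfl]
  linarith [hq, hadd, hd]

end Groth.Agent.Surf15
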