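import Groth.Agent.Surf15.SerreDualMain
import Groth.Agent.SerreDual.ExtLocFree
import Groth.Agent.SerreDual.ExtShTensor
import Groth.Agent.VB5.Twist
import Groth.Agent.VB5.Elliptic
import Groth.Agent.VarietyLib.Dual
import Groth.Agent.Inters29.Horizontal
import Groth.Agent.RefHullLib.LowDim
import Groth.Agent.CycLib28.PushFinite

/-!
# Surf15: duality for bundles on surfaces; kernels of evaluation maps onto curves
-/

set_option autoImplicit false
set_option linter.style.haveILetI false
set_option linter.unusedSectionVars false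
set_option maxHeartbeats 1000000
set_option backward.isDefEq.respectTransparency.types false

universe u

open CategoryTheory CategoryTheory.Abelian CategoryTheory.Limits AlgebraicGeometry Opposite TopologicalSpace
open Groth.Agent.Coherent Groth.Agent.PicLib Groth.Agent.AmpleLib Groth.Agent.EulerLib
open Groth.Agent.CurveRR24

namespace Groth.Agent.Surf15

section Duality

variable {X : Scheme.{u}} (k : Type u) [Field k] [IsAlgClosed k] [X.Over (Spec (CommRingCat.of k))]
  [IsProper (X ↘ Spec (CommRingCat.of k))] [IsIntegral X] [Smooth (X ↘ Spec (CommRingCat.of k))]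
  (hX : topologicalKrullDim X = ((2 : ℕ) : WithBot ℕ∞))
  {W : X.Modules} (hW : ExtPow.IsExtPow 2 (Omega.sheaf (X ↘ Spec (CommRingCat.of k))) W)
  (hWi : PicF.IsInvertible W)
include hX hW hWi

/-- Serre duality for vector bundles on a smooth projective surface. -/
theorem finrank_dual {E : X.Modules} (hE : FlatMod.IsFinLocFree E) {i j : ℕ} (hij : i + j = 2) :
    Module.finrank k (Coh.HH X (internalHom E W) i) = Module.finrank k (Coh.HH X E j) := by
  haveI := isNoetherian_of_proper (X := X) k
  haveI := isSeparated_of_proper (X := X) k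
  haveI : IsGrothendieckAbelian.{u} X.Modules := DCat.schemeModules_isGrothendieckAbelian X
  have hreg := smooth_regular k hX
  obtain ⟨t, hrep⟩ := exists_dualizing_canonical k hX hW hWi
  obtain ⟨H, hH⟩ := exists_ample k hX hreg
  have hCM : ∀ x : X, IsClosed ({x} : Set X) →
      LocCoh.IsCohenMacaulayLocalRing (X.presheaf.stalk x) ∧ ringKrullDim (X.presheaf.stalk x) = (2 : ℕ) :=
    fun x hx => ⟨haveI := hreg x; CAlgH3.isCohenMacaulayLocalRing_of_regular _,
      ringKrullDim_stalk_closed k (dim_components k hX) hx⟩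
  obtain ⟨e⟩ := (SerreDual.duality_cm (k := k) hH hX.le hCM (isCoh_of_isInvertible k hWi) t
    (fun F hF => hrep F hF.1) E (CohBC.isCoh_of_isFinLocFree hE) i).1 j hij
  haveI := finite_HH_of_isCoh k (CohBC.isCoh_of_isFinLocFree hE) j
  exact ((SerreDual.extLocFreeEquiv k hE W i).symm.trans e).finrank_eq.trans Subspace.dual_finrank_eq

/-- Euler characteristics of dual bundles. -/
theorem euler_dual {E : X.Modules} (hE : FlatMod.IsFinLocFree E) :
    Curv2.euler k X (internalHom E W) = Curv2.euler k X E := by
  have h : FlatMod.IsFinLocFree (internalHom E W) :=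
    CohBC.isFinLocFree_internalHom hE (VarietyLib.isFinLocFree_of_rank (isFinLocFreeOfRank_one hWi))
  rw [euler_three k hX.le (CohBC.isCoh_of_isFinLocFree h).1, euler_three k hX.le (CohBC.isCoh_of_isFinLocFree hE).1,
    finrank_dual k hX hW hWi hE (i := 0) (j := 2) rfl, finrank_dual k hX hW hWi hE (i := 1) (j := 1) rfl,
    finrank_dual k hX hW hWi hE (i := 2) (j := 0) rfl]
  ring

end Duality

section Algebra

/-- The kernel of a surjection from a finite free module to a cyclic module with principal annihilator is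
free. -/
theorem free_ker_of_principal {R : Type*} [CommRing R] [IsDomain R] [IsLocalRing R] [IsNoetherianRing R]
    {P M : Type*} [AddCommGroup P] [Module R P] [Module.Free R P] [Module.Finite R P]
    [AddCommGroup M] [Module R M] (φ : P →ₗ[R] M) (hφ : Function.Surjective φ) (p : R →ₗ[R] M)
    (hp : Function.Surjective p) {f : R} (hf : ∀ r, p r = 0 ↔ f ∣ r) :
    Module.Free R (LinearMap.ker φ) := by
  obtain ⟨t, ht⟩ := Module.projective_lifting_property p φ hp
  have ht' : ∀ x, p (t x) = φ x := fun x => LinearMap.congr_fun ht x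
  obtain ⟨v, hv⟩ := hφ (p 1)
  have hv' : ∀ r : R, φ (r • v) = p r := fun r => by rw [map_smul, hv, ← map_smul, smul_eq_mul, mul_one]
  obtain ⟨g, hg⟩ : ∃ g : LinearMap.ker φ →ₗ[R] R, ∀ w, f * g w = t (w : P) := by
    have hd : ∀ w : LinearMap.ker φ, f ∣ t (w : P) := fun w => (hf _).1 ((ht' _).trans w.2)
    rcases eq_or_ne f 0 with rfl | hf0
    · exact ⟨0, fun w => by simpa using (zero_dvd_iff.1 (hd w)).symm⟩
    choose c hc using hd
    refine ⟨{ toFun := c, map_add' := fun a b => mul_left_cancel₀ hf0 ?_,
              map_smul' := fun r a => mul_left_cancel₀ hf0 ?_ }, fun w => (hc w).symm⟩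
    · rw [← hc, mul_add, ← hc, ← hc, Submodule.coe_add, map_add]
    · rw [← hc, RingHom.id_apply, smul_eq_mul, mul_left_comm, ← hc, Submodule.coe_smul, map_smul, smul_eq_mul]
  let j : LinearMap.ker φ →ₗ[R] P × R := (LinearMap.ker φ).subtype.prod g
  let ρ₀ : P × R →ₗ[R] P :=
    (LinearMap.id - t.smulRight v).comp (LinearMap.fst R P R) +
      ((LinearMap.snd R P R).smulRight (f • v))
  have hρ : ∀ x, ρ₀ x ∈ LinearMap.ker φ := fun x => by
    simp [ρ₀, hv', ht', (hf f).2 dvd_rfl]
  let ρ := ρ₀.codRestrict _ hρ
  have hρj : ρ.comp j = LinearMap.id := LinearMap.ext fun w => Subtype.ext (by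
    simp [ρ, ρ₀, j, smul_smul, mul_comm (g w) f, hg])
  haveI := Module.Projective.of_split j ρ hρj
  haveI : Module.Flat R (LinearMap.ker φ) := inferInstance
  exact Module.free_of_flat_of_isLocalRing

end Algebra

end Groth.Agent.Surf15

namespace Groth.Agent.Surf15

section Kernel

variable {X C : Scheme.{u}}

/-- Germs of a pushforward along a closed immersion. -/
theorem pushGerm_bijective_imm (i : C ⟶ X) [IsClosedImmersion i] (M : C.Modules) (c : C) :
    Function.Bijective (CycLib28.pushGerm i M (i c) c rfl) := by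
  classical
  have huniq : ∀ z : C, i z = i c → z = c := fun z h => i.isClosedEmbedding.injective h
  have hbij := CycLib28.pushGerm_bijective i i.isClosedMap M Set.univ isClosed_univ
    (fun z hz => absurd (Set.mem_univ z) hz) (i c) {c}
    (fun z => ⟨fun hz => ⟨trivial, by rw [Finset.mem_singleton.1 hz]⟩,
      fun hz => Finset.mem_singleton.2 (huniq z hz.2)⟩)
    (fun _ => ⊤) (fun _ _ => trivial)
    (fun a ha b hb hab => absurd ((Finset.mem_singleton.1 ha).trans (Finset.mem_singleton.1 hb).symm) hab)
  refine ⟨fun a b hab => hbij.1 (funext fun z => ?_), fun v => ?_⟩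
  · obtain ⟨z, hz⟩ := z
    obtain rfl := Finset.mem_singleton.1 hz
    exact hab
  · obtain ⟨m, hm⟩ := hbij.2 fun z => (Finset.mem_singleton.1 z.2).symm ▸ v
    exact ⟨m, congrFun hm ⟨c, Finset.mem_singleton_self c⟩⟩

/-- The stalk of a line on an effective Cartier divisor is cyclic with principal annihilator. -/
theorem exists_cyclic_stalk [IsIntegral X] (i : C ⟶ X) [IsClosedImmersion i]
    (hD : BlowUp.IsEffCartierIdeal i.ker) {A : C.Modules} (hA : PicF.IsInvertible A) (x : X) :
    ∃ (p : X.presheaf.stalk x →ₗ[X.presheaf.stalk x] ((Coh.push i).obj A).presheaf.stalk x)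
      (f : X.presheaf.stalk x), Function.Surjective p ∧ ∀ r, p r = 0 ↔ f ∣ r := by
  classical
  by_cases hx : x ∈ Set.range i
  · obtain ⟨c, rfl⟩ := hx
    obtain ⟨U, hcU, e, he⟩ := exists_isGen hA c
    obtain ⟨f, -, hf⟩ := Misc15.DivDescent.exists_gen hD (i c)
    have hpush := pushGerm_bijective_imm i A c
    have hgen := VarietyLib.gen_germ_bijective he hcU
    obtain ⟨a, ha⟩ := hpush.2 (A.presheaf.germ U c hcU e)
    have hsm : ∀ r : X.presheaf.stalk (i c), CycLib28.pushGerm i A (i c) c rfl (r • a) =
        (i.stalkMap c).hom r • A.presheaf.germ U c hcU e := fun r => by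
      rw [CycLib28.pushGerm_smul, ha, TopCat.Presheaf.stalkSpecializes_refl]
      rfl
    refine ⟨LinearMap.toSpanSingleton _ _ a, f, fun m => ?_, fun r => ?_⟩
    · obtain ⟨s, hs⟩ := hgen.2 (CycLib28.pushGerm i A (i c) c rfl m)
      obtain ⟨r, rfl⟩ := i.stalkMap_surjective c s
      exact ⟨r, hpush.1 ((hsm r).trans hs)⟩
    · have h1 : f ∣ r ↔ (i.stalkMap c).hom r = 0 := by
        rw [← RingHom.mem_ker, Inters29.ker_stalkMap_eq_stk, hf, Ideal.mem_span_singleton]
      rw [h1]
      constructor
      · intro h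
        refine hgen.1 ?_
        show (i.stalkMap c).hom r • _ = (0 : C.presheaf.stalk c) • _
        rw [← hsm, zero_smul, show r • a = 0 from h, map_zero]
      · intro h
        refine hpush.1 ?_
        show CycLib28.pushGerm i A (i c) c rfl (r • a) = _
        rw [hsm, h, zero_smul, map_zero]
  · have hsub : Subsingleton (((Coh.push i).obj A).presheaf.stalk x) := by
      have hbij := CycLib28.pushGerm_bijective i i.isClosedMap A Set.univ isClosed_univ
        (fun z hz => absurd (Set.mem_univ z) hz) x ∅
        (fun z => ⟨fun hz => absurd hz (Finset.notMem_empty z), fun hz => absurd ⟨z, hz.2⟩ hx⟩)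
        (fun _ => ⊤) (fun _ _ => trivial) (fun a ha => absurd ha (Finset.notMem_empty a))
      exact hbij.1.subsingleton
    exact ⟨0, 1, fun m => ⟨0, Subsingleton.elim _ _⟩, fun r => ⟨fun _ => one_dvd r, fun _ => rfl⟩⟩

/-- The kernel of an epimorphism from a free module onto a line on a divisor is a bundle. -/
theorem isFinLocFree_kernel_push [IsIntegral X] [IsLocallyNoetherian X] (i : C ⟶ X) [IsClosedImmersion i]
    (hD : BlowUp.IsEffCartierIdeal i.ker) {A : C.Modules} (hA : PicF.IsInvertible A)
    (hAc : Coh.IsQCoh ((Coh.push i).obj A)) {n : ℕ} (lam : FlatMod.freeMod X n ⟶ (Coh.push i).obj A) [Epi lam] :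
    FlatMod.IsFinLocFree (kernel lam) := by
  have hfr := VarietyLib.isFinLocFree_of_rank (VarietyLib.isFinLocFreeOfRank_freeMod (X := X) n)
  have hfc := CohBC.isCoh_of_isFinLocFree hfr
  haveI := hfc.1
  have hK : Coh.IsCoh (kernel lam) := isCoh_kernel lam hfc hAc
  refine (RefHullLib.isFinLocFree_iff_free_stalks hK).2 fun x => ?_
  have hS : (ShortComplex.mk (kernel.ι lam) lam (kernel.condition lam)).ShortExact :=
    { exact := ShortComplex.exact_kernel lam }
  have hSt := hS.map_of_exact (DerSch.stalkFunctor X x)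
  let φ : (FlatMod.freeMod X n).presheaf.stalk x →ₗ[X.presheaf.stalk x]
      ((Coh.push i).obj A).presheaf.stalk x := ((DerSch.stalkFunctor X x).map lam).hom
  let ι : (kernel lam).presheaf.stalk x →ₗ[X.presheaf.stalk x] (FlatMod.freeMod X n).presheaf.stalk x :=
    ((DerSch.stalkFunctor X x).map (kernel.ι lam)).hom
  have hι : Function.Injective ι := (ModuleCat.mono_iff_injective _).1 hSt.mono_f
  have hφ : Function.Surjective φ := (ModuleCat.epi_iff_surjective _).1 hSt.epi_g
  have hker : LinearMap.ker φ = LinearMap.range ι :=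
    (ShortComplex.Exact.moduleCat_range_eq_ker hSt.exact).symm
  haveI := Props12.free_stalk_of_isFinLocFree _ hfr x
  haveI := AssSch12.finite_stalk hfc x
  obtain ⟨p, f, hp, hf⟩ := exists_cyclic_stalk i hD hA x
  haveI := free_ker_of_principal φ hφ p hp hf
  exact Module.Free.of_equiv ((LinearEquiv.ofEq _ _ hker).trans (LinearEquiv.ofInjective ι hι).symm)

end Kernel

end Groth.Agent.Surf15
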