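import Groth.Agent.Surf15.Hodge
import Groth.Agent.Inters29.Class
import Groth.Agent.Inters29.PrimeDiv
import Groth.Agent.VarietyLib.CurvePull
import Groth.Agent.VarietyLib.DivisorCut
import Groth.Agent.AbCubeLib.CanonicalSection
import Groth.Agent.AbCubeLib.StabilizerComponents
import Groth.Agent.CurveRR24.Section
import Groth.Agent.VarietyLib.Dual

/-!
# Surf15: effective Cartier divisors and curves on surfaces
-/

set_option autoImplicit false
set_option linter.style.haveILetI false
set_option backward.isDefEq.respectTransparency.types false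

universe u

open CategoryTheory CategoryTheory.Limits AlgebraicGeometry Opposite TopologicalSpace
open Groth.Agent.Coherent Groth.Agent.PicLib Groth.Agent.AmpleLib Groth.Agent.EulerLib
open Groth.Agent.CurveRR24 Groth.Agent.DimLib Groth.Agent.AssSch12

namespace Groth.Agent.Surf15

variable {X : Scheme.{u}}

theorem blowUp_of_fga {I : X.IdealSheafData} (h : FGA.IsEffCartier I) : BlowUp.IsEffCartierIdeal I := h

theorem fga_of_blowUp {I : X.IdealSheafData} (h : BlowUp.IsEffCartierIdeal I) : FGA.IsEffCartier I := h

/-- The class of the ideal of an effective Cartier divisor. -/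
noncomputable def clI' (I : X.IdealSheafData) (hI : BlowUp.IsEffCartierIdeal I) : InvCl X :=
  InvCl.mk (ClSub.idealMod I) (FlatMor12.IdealModGen.isInvertible_idealMod I hI)

theorem clI'_mul (I J : X.IdealSheafData) (hI : BlowUp.IsEffCartierIdeal I)
    (hJ : BlowUp.IsEffCartierIdeal J) :
    clI' (I * J) (ModPairLib.isEffCartier_mul hI hJ) = clI' I hI * clI' J hJ := by
  obtain ⟨e⟩ := Inters29.nonempty_mul_iso I J hI hJ
  exact (InvCl.mk_eq _ (isInvertible_tensorMod (FlatMor12.IdealModGen.isInvertible_idealMod I hI)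
    (FlatMor12.IdealModGen.isInvertible_idealMod J hJ)) e.symm).trans (InvCl.mk_mul _ _).symm

theorem mk_inverse_clI' {I : X.IdealSheafData} (hI : BlowUp.IsEffCartierIdeal I) {M : X.Modules}
    (hM : PicF.IsInvertible M) (h : ClSub.IsInverseOf M (ClSub.idealMod I)) :
    clI' I hI * InvCl.mk M hM = 1 :=
  let ⟨e⟩ := h
  InvCl.mk_eq _ _ (AmpleLib.tensorComm _ _ ≪≫ e)

/-- An integral closed subscheme is `clM` of its generic point. -/
theorem quotMod_eq_clM (C : X.IdealSheafData) [IsIntegral C.subscheme] :
    ClSub.quotMod C = clM (SDiv28.CartierPart.gen C) :=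
  congrArg ClSub.quotMod (VarietyLib.eq_clI_of_isIntegral C)

theorem support_eq_closure_gen (C : X.IdealSheafData) [IsIntegral C.subscheme] :
    (C.support : Set X) = closure {SDiv28.CartierPart.gen C} := by
  conv_lhs => rw [VarietyLib.eq_clI_of_isIntegral C]
  exact VarietyLib.support_clI _

variable (k : Type u) [Field k] [X.Over (Spec (CommRingCat.of k))]
  [IsProper (X ↘ Spec (CommRingCat.of k))]

include k in
/-- The degrees on an effective Cartier divisor are minus the intersections with its ideal. -/
theorem deg_quotMod {I : X.IdealSheafData} (hI : BlowUp.IsEffCartierIdeal I) (a : InvCl X) :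
    deg k (ClSub.quotMod I) a = - B k (clI' I hI) a := by
  haveI := isNoetherian_of_proper (X := X) k
  have hI' := FlatMor12.IdealModGen.isInvertible_idealMod I hI
  have h := chiCl_additive k _ (shortExact_ideal I) (isCoh_idealMod' I) (isCoh_structureModule X)
    (isCoh_quotMod I)
  have e : ∀ x, chiCl k (ClSub.idealMod I) x = chiCl k (Coh.structureModule X) (clI' I hI * x) :=
    fun x => by
      rw [clI', chiCl_mul k (Coh.structureModule X) hI' x, chiCl_congr k (unitTensorIso (ClSub.idealMod I))]
  have h1 : chiCl k (Coh.structureModule X) a =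
      chiCl k (ClSub.idealMod I) a + chiCl k (ClSub.quotMod I) a := congrFun h a
  have h2 : chiCl k (Coh.structureModule X) 1 =
      chiCl k (ClSub.idealMod I) 1 + chiCl k (ClSub.quotMod I) 1 := congrFun h 1
  rw [e] at h1 h2
  rw [mul_one] at h2
  rw [deg, B]
  linarith

include k in
/-- An effective Cartier divisor on a surface has dimension at most one. -/
theorem dim_quotMod_le (hX : topologicalKrullDim X ≤ ((2 : ℕ) : WithBot ℕ∞)) {I : X.IdealSheafData}
    (hI : BlowUp.IsEffCartierIdeal I) :
    topologicalKrullDim (CohB1.support (ClSub.quotMod I)) ≤ ((1 : ℕ) : WithBot ℕ∞) :=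
  (dim_mono (support_quotMod_subset I)).trans (VarietyLib.dim_support_le_of_effCartier k (e := 1) hX hI)

include k in
theorem ptDim_gen {C : X.IdealSheafData} [IsIntegral C.subscheme] {d : ℕ}
    (hC : topologicalKrullDim (C.support : Set X) = ((d : ℕ) : WithBot ℕ∞)) :
    ptDim (X ↘ Spec (CommRingCat.of k)) (SDiv28.CartierPart.gen C) = d := by
  rw [support_eq_closure_gen C, VarietyLib.dim_closure_eq_ptDim k] at hC
  exact_mod_cast hC

include k in
/-- On a regular surface integral curves are effective Cartier divisors. -/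
theorem isEffCartier_curve [IsIntegral X] (hX : topologicalKrullDim X = ((2 : ℕ) : WithBot ℕ∞))
    (hreg : ∀ x : X, IsRegularLocalRing (X.presheaf.stalk x)) (C : X.IdealSheafData)
    [IsIntegral C.subscheme] (hC : topologicalKrullDim (C.support : Set X) = ((1 : ℕ) : WithBot ℕ∞)) :
    BlowUp.IsEffCartierIdeal C := by
  haveI := isNoetherian_of_proper (X := X) k
  let p := X ↘ Spec (CommRingCat.of k)
  have h1 : ptDim p (SDiv28.CartierPart.gen C) = 1 := ptDim_gen k hC
  have hη : ptDim p (genericPoint X) = 2 := ptDim_genericPoint k hX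
  refine Inters29.isEffCartier_of_coheight_one hreg C ?_ fun h => by rw [h, hη] at h1; omega
  refine Order.coheight_le_coe_iff.2 fun y hy => ?_
  rw [show ((1 : ℕ) : ℕ∞) = 1 from rfl, ENat.lt_one_iff_eq_zero, Order.coheight_eq_zero]
  intro z hz
  have hgy : y ⤳ SDiv28.CartierPart.gen C := hy.le
  have hne : y ≠ SDiv28.CartierPart.gen C := fun h => hy.ne h.symm
  have h2 := ptDim_lt_of_specializes p hgy hne
  have h3 : ptDim p z ≤ 2 := by
    have := ptDim_le_of_specializes p (genericPoint_specializes z)
    omega
  have hzy : z ⤳ y := hz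
  rcases eq_or_ne z y with rfl | hne'
  · exact le_rfl
  · have := ptDim_lt_of_specializes p hzy hne'
    omega

include k in
/-- Degrees along a curve. -/
theorem deg_clM_gen {C : X.IdealSheafData} [IsIntegral C.subscheme] (hC : BlowUp.IsEffCartierIdeal C)
    (a : InvCl X) : deg k (clM (SDiv28.CartierPart.gen C)) a = - B k (clI' C hC) a := by
  rw [← deg_quotMod k hC, quotMod_eq_clM]

include k in
/-- A curve meets every ample module positively. -/
theorem B_curve_ample_neg (C : X.IdealSheafData) [IsIntegral C.subscheme]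
    (hC : topologicalKrullDim (C.support : Set X) = ((1 : ℕ) : WithBot ℕ∞))
    (hI : BlowUp.IsEffCartierIdeal C) {P : X.Modules} (hP : CohB1.IsAmple P) :
    B k (clI' C hI) (InvCl.mk P hP.1) < 0 := by
  haveI := isNoetherian_of_proper (X := X) k
  have hd : topologicalKrullDim (CohB1.support (clM (SDiv28.CartierPart.gen C))) = ((1 : ℕ) : WithBot ℕ∞) := by
    rw [support_clM, ← support_eq_closure_gen C, hC]
  have hpos := interDeg_pos k 1 ![P] (fun i => by fin_cases i; exact hP) _ (isCoh_clM (SDiv28.CartierPart.gen C)) hd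
  have h : 0 < deg k (clM (SDiv28.CartierPart.gen C)) (InvCl.mk P hP.1) := by
    rw [← interDeg_one_class k]
    convert hpos using 2
    funext i
    fin_cases i
    rfl
  rw [deg_clM_gen k hI] at h
  omega

/-- A proper effective Cartier divisor has nonempty support. -/
theorem support_nonempty {I : X.IdealSheafData} (h : I ≠ ⊤) : (I.support : Set X).Nonempty := by
  rw [Set.nonempty_iff_ne_empty]
  intro he
  exact h ((Scheme.IdealSheafData.support_eq_bot_iff I).1 (Closeds.ext (he.trans Closeds.coe_bot.symm)))

include k in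
omit [IsProper (X ↘ Spec (CommRingCat.of k))] in
/-- A nonzero section makes `H⁰` nontrivial. -/
theorem nontrivial_h0 {L : X.Modules} {s : Γ(L, ⊤)} (hs : s ≠ 0) : Nontrivial (Coh.HH X L 0) := by
  haveI : Nontrivial (GA (baseHom k X) L) := nontrivial_of_ne (show GA (baseHom k X) L from s) 0 hs
  exact (hhZero k L).toEquiv.nontrivial

include k in
/-- A section not vanishing at the generic point of a curve gives nonnegative degree on it. -/
theorem deg_nonneg_of_mem_glocus {L : X.Modules} (hL : PicF.IsInvertible L) {s : Γ(L, ⊤)} {y : X}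
    (hy : y ∈ glocus L s) (hd : topologicalKrullDim (closure {y} : Set X) ≤ ((1 : ℕ) : WithBot ℕ∞)) :
    0 ≤ deg k (clM y) (InvCl.mk L hL) := by
  haveI := isNoetherian_of_proper (X := X) k
  haveI := isSeparated_of_proper (X := X) k
  let i := (clI y).subschemeι
  letI : (clI y).subscheme.Over (Spec (CommRingCat.of k)) := ⟨i ≫ (X ↘ Spec (CommRingCat.of k))⟩
  haveI : IsProper ((clI y).subscheme ↘ Spec (CommRingCat.of k)) :=
    inferInstanceAs (IsProper (i ≫ (X ↘ Spec (CommRingCat.of k))))
  haveI := isNoetherian_of_proper (X := (clI y).subscheme) k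
  haveI : IsIntegral (clI y).subscheme := VarietyLib.isIntegral_clI y
  have hY : topologicalKrullDim (clI y).subscheme ≤ 1 := by
    rw [i.isClosedEmbedding.isEmbedding.toHomeomorph.isHomeomorph.topologicalKrullDim_eq]
    exact ((congrArg (fun S : Set X => topologicalKrullDim S) (range_clι y)).le.trans hd).trans
      (by exact_mod_cast le_rfl)
  have hLY := PicLoc.isInvertible_pullback i hL
  let L' := (Scheme.Modules.pullback i).obj L
  have hgen : genericPoint (clI y).subscheme ∈ glocus L' (pullSec i s) := by
    rw [glocus_pullSec i hL]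
    show i (genericPoint (clI y).subscheme) ∈ glocus L s
    rw [show i (genericPoint (clI y).subscheme) = y from VarietyLib.clI_genericPoint y]
    exact hy
  have hnt := nontrivial_h0 k (VarietyLib.ne_zero_of_mem_glocus (L := L') hgen)
  have h0 := (deg_nonneg_of_section k hY hLY hnt).1
  have hLF : FlatMod.IsFinLocFree L := fun x =>
    let ⟨U, hx, e⟩ := isFinLocFreeOfRank_one hL x; ⟨U, 1, hx, e⟩
  have e : CohB1.tensorMod (clM y) L ≅
      (Coh.push i).obj (CohB1.tensorMod (Coh.structureModule (clI y).subscheme) L') :=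
    AmpleLib.tensorComm _ _ ≪≫ (projIso (f := i) hLF).app _ ≪≫
      (Scheme.Modules.pushforward i).mapIso (AmpleLib.tensorComm _ _)
  have hO : Coh.IsCoh (Coh.structureModule (clI y).subscheme) := isCoh_structureModule _
  haveI : Coh.IsQCoh (CohB1.tensorMod (Coh.structureModule (clI y).subscheme) L') :=
    (isCoh_twist hLY hO).1
  haveI : Coh.IsQCoh (Coh.structureModule (clI y).subscheme) := hO.1
  rw [Curv2.deg, Nat.cast_one, one_mul, euler_congr k _ (unitTensorIso L').symm,
    AbCubeLib.euler_push k i rfl, AbCubeLib.euler_push k i rfl, ← euler_congr k X e] at h0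
  rw [deg_mk]
  exact h0

include k in
/-- The ideal of an effective divisor is nonpositive on the curves not inside it. -/
theorem deg_clI'_nonpos (hX : topologicalKrullDim X ≤ ((2 : ℕ) : WithBot ℕ∞)) {D : X.IdealSheafData}
    (hD : BlowUp.IsEffCartierIdeal D) {y : X} (hy : y ∉ (D.support : Set X))
    (hd : topologicalKrullDim (closure {y} : Set X) ≤ ((1 : ℕ) : WithBot ℕ∞)) :
    deg k (clM y) (clI' D hD) ≤ 0 := by
  haveI := isNoetherian_of_proper (X := X) k
  have hI := FlatMor12.IdealModGen.isInvertible_idealMod D hD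
  obtain ⟨L, ⟨e⟩⟩ := VarietyLib.exists_isInverseOf hI
  have hL : PicF.IsInvertible L :=
    PicM.isInvertible_of_tensor hI (glocus_isInvertible_of_iso e.symm isInvertible_structureModule)
  have hinv : ClSub.IsInverseOf L (ClSub.idealMod D) := ⟨AmpleLib.tensorComm _ _ ≪≫ e⟩
  obtain ⟨s, hs⟩ := AbCubeLib.exists_section_of_effCartier D hD hL hinv
  have h := deg_nonneg_of_mem_glocus k hL (s := s) (hs.ge hy) hd
  have hm := deg_inv k (F := clM y) (isCoh_clM y) (by rw [support_clM]; exact hd) (mk_inverse_clI' hD hL hinv)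
  omega

include k in
/-- Distinct curves and divisors not containing a curve meet it nonnegatively. -/
theorem B_clI'_nonneg (hX : topologicalKrullDim X ≤ ((2 : ℕ) : WithBot ℕ∞)) {D : X.IdealSheafData}
    (hD : BlowUp.IsEffCartierIdeal D) {C : X.IdealSheafData} [IsIntegral C.subscheme]
    (hC : BlowUp.IsEffCartierIdeal C) (hCd : topologicalKrullDim (C.support : Set X) = ((1 : ℕ) : WithBot ℕ∞))
    (hCD : ¬ (C.support : Set X) ⊆ (D.support : Set X)) :
    0 ≤ B k (clI' C hC) (clI' D hD) := by
  have hy : SDiv28.CartierPart.gen C ∉ (D.support : Set X) := fun h => hCD (by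
    rw [support_eq_closure_gen C]
    exact D.support.isClosed.closure_subset_iff.2 (Set.singleton_subset_iff.2 h))
  have h := deg_clI'_nonpos k hX hD hy (by rw [← support_eq_closure_gen C, hCd])
  rw [deg_clM_gen k hC] at h
  omega

include k in
/-- A nonempty effective divisor meets every ample module positively. -/
theorem B_clI'_ample_neg [IsIntegral X] (hX : topologicalKrullDim X = ((2 : ℕ) : WithBot ℕ∞))
    {D : X.IdealSheafData} (hD : BlowUp.IsEffCartierIdeal D) (hne : D ≠ ⊤) {P : X.Modules}
    (hP : CohB1.IsAmple P) : B k (clI' D hD) (InvCl.mk P hP.1) < 0 := by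
  haveI := isNoetherian_of_proper (X := X) k
  have hI := FlatMor12.IdealModGen.isInvertible_idealMod D hD
  obtain ⟨L, ⟨e⟩⟩ := VarietyLib.exists_isInverseOf hI
  have hL : PicF.IsInvertible L :=
    PicM.isInvertible_of_tensor hI (glocus_isInvertible_of_iso e.symm isInvertible_structureModule)
  have hinv : ClSub.IsInverseOf L (ClSub.idealMod D) := ⟨AmpleLib.tensorComm _ _ ≪≫ e⟩
  obtain ⟨s, hs⟩ := AbCubeLib.exists_section_of_effCartier D hD hL hinv
  obtain ⟨z, hz⟩ := support_nonempty hne
  have hs0 : s ≠ 0 := by
    refine VarietyLib.ne_zero_of_mem_glocus (x := genericPoint X) ?_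
    refine hs.ge fun h => ?_
    exact VarietyLib.notMem_support_of_effCartier hD
      (fun w hw => (hw.antisymm (genericPoint_specializes w)).eq) h
  rcases B_sec k hX hL hs0 hP with h | he
  · have := B_inv_left k hX.le (mk_inverse_clI' hD hL hinv) (InvCl.mk P hP.1)
    omega
  · exfalso
    have h := AbCubeLib.glocus_eq_top_of_eq_one (X ↘ Spec (CommRingCat.of k)) (hL := hL)
      ((PicM.of_eq_one_iff _).2 he) hs0
    exact hs.le (h.ge trivial : z ∈ glocus L s) hz

end Groth.Agent.Surf15
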