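import Groth.Agent.Surf15.Curve
import Groth.Agent.Surf15.Divisor
import Groth.Agent.DimLib.Zero
import Groth.Agent.QCohLoc.Basic
import Groth.Prelude.Def_TorSh
import Groth.Prelude.Def_DecSh2

/-!
# Surf15: multiplicities of coherent modules on reduced curves
-/

set_option autoImplicit false
set_option linter.style.haveILetI false
set_option backward.isDefEq.respectTransparency.types false

universe u

open CategoryTheory CategoryTheory.Limits AlgebraicGeometry Opposite TopologicalSpace
open Groth.Agent.Coherent Groth.Agent.PicLib Groth.Agent.AmpleLib Groth.Agent.EulerLib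
open Groth.Agent.CurveRR24 Groth.Agent.DimLib

namespace Groth.Agent.Surf15

/-- The sub of a torsion-free module is torsion-free. -/
theorem isTorsionFree_of_mono {X : Scheme.{u}} {F E : X.Modules} (i : F ⟶ E) [Mono i]
    (h : TorSh.IsTorsionFree E) : TorSh.IsTorsionFree F := by
  intro x
  haveI := h x
  have hinj : Function.Injective ((DerSch.stalkFunctor X x).map i) := (ModuleCat.mono_iff_injective _).1 inferInstance
  exact ⟨fun r hr a b hab => hinj (Module.IsTorsionFree.isSMulRegular (M := E.presheaf.stalk x) hr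
    (((((DerSch.stalkFunctor X x).map i).hom.map_smul r a).symm.trans
      (congrArg ((DerSch.stalkFunctor X x).map i) hab)).trans (((DerSch.stalkFunctor X x).map i).hom.map_smul r b)))⟩

/-- A closed point which is not open lies on a nonzerodivisor near it. -/
theorem exists_regular_mem {X : Scheme.{u}} [IsLocallyNoetherian X] [IsReduced X] {U : X.Opens}
    (hU : IsAffineOpen U) {x : X} (hx : x ∈ U) (hc : IsClosed ({x} : Set X)) (ho : ¬ IsOpen ({x} : Set X)) :
    ∃ a : Γ(X, U), x ∉ X.basicOpen a ∧ a ∈ nonZeroDivisors Γ(X, U) := by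
  haveI := IsLocallyNoetherian.component_noetherian ⟨U, hU⟩
  let p := hU.primeIdealOf ⟨x, hx⟩
  have hmax : p.asIdeal.IsMaximal := hU.primeIdealOf_isMaximal_of_isClosed ⟨x, hx⟩ hc
  have hfin : (minimalPrimes Γ(X, U)).Finite := minimalPrimes.finite_of_isNoetherianRing _
  have hnz : ∀ a : Γ(X, U), (∀ q ∈ minimalPrimes Γ(X, U), a ∉ q) → a ∈ nonZeroDivisors Γ(X, U) := by
    intro a ha
    refine mem_nonZeroDivisors_iff_right.2 fun b hb => ?_
    have hbn : b ∈ nilradical Γ(X, U) := by
      rw [nilradical, Ideal.radical_eq_sInf, Ideal.mem_sInf]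
      rintro q ⟨-, hq⟩
      haveI := hq
      obtain ⟨q', hq', hle⟩ := Ideal.exists_minimalPrimes_le (bot_le : (⊥ : Ideal Γ(X, U)) ≤ q)
      haveI := hq'.1.1
      exact hle ((Ideal.IsPrime.mem_or_mem inferInstance (by rw [hb]; exact q'.zero_mem)).resolve_right (ha q' hq'))
    exact (mem_nilradical.1 hbn).eq_zero
  by_contra hne
  push Not at hne
  have hsub : (p.asIdeal : Set Γ(X, U)) ⊆ ⋃ q ∈ hfin.toFinset, (q : Set Γ(X, U)) := by
    intro a ha
    by_contra hq
    simp only [Set.mem_iUnion, not_exists] at hq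
    refine hne a (fun hb => ?_) (hnz a fun q hq' h => hq q (hfin.mem_toFinset.2 hq') h)
    have h1 : p ∈ PrimeSpectrum.basicOpen a := by
      have : p ∈ hU.fromSpec ⁻¹ᵁ X.basicOpen a := by
        show hU.fromSpec p ∈ X.basicOpen a
        rw [hU.fromSpec_primeIdealOf ⟨x, hx⟩]
        exact hb
      rwa [hU.fromSpec_preimage_basicOpen] at this
    exact h1 ha
  obtain ⟨q, hq, hle⟩ := (Ideal.subset_union_prime ⊥ ⊥ (fun q hq _ _ => (hfin.mem_toFinset.1 hq).1.1)).1 hsub
  have hq' := hfin.mem_toFinset.1 hq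
  have heq : p.asIdeal = q := hmax.eq_of_le hq'.1.1.ne_top hle
  refine ho ?_
  have hclosed : IsClosed (⋃ r ∈ (hfin.toFinset.erase q : Finset (Ideal Γ(X, U))),
      (PrimeSpectrum.zeroLocus (r : Set Γ(X, U)))) :=
    isClosed_biUnion_finset fun r _ => PrimeSpectrum.isClosed_zeroLocus _
  have hset : ({p} : Set (PrimeSpectrum Γ(X, U))) = (⋃ r ∈ (hfin.toFinset.erase q : Finset (Ideal Γ(X, U))),
      (PrimeSpectrum.zeroLocus (r : Set Γ(X, U))))ᶜ := by
    ext s
    simp only [Set.mem_singleton_iff, Set.mem_compl_iff, Set.mem_iUnion, Finset.mem_erase, not_exists]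
    constructor
    · rintro rfl r ⟨hrq, hr⟩ hle'
      refine hrq (le_antisymm ?_ ?_)
      · exact fun a ha => heq ▸ hle' ha
      · exact (hq'.2 ⟨(hfin.mem_toFinset.1 hr).1.1, bot_le⟩ fun a ha => heq ▸ hle' ha)
    · intro hs
      obtain ⟨r, hr, hrs⟩ := Ideal.exists_minimalPrimes_le (bot_le : (⊥ : Ideal Γ(X, U)) ≤ s.asIdeal)
      by_cases hrq : r = q
      · subst hrq
        exact PrimeSpectrum.ext (hmax.eq_of_le s.2.ne_top (heq ▸ hrs)).symm
      · exact absurd hrs (hs r ⟨hrq, hfin.mem_toFinset.2 hr⟩)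
  have hopen : IsOpen ({p} : Set (PrimeSpectrum Γ(X, U))) := by rw [hset]; exact hclosed.isOpen_compl
  have h := hU.fromSpec.isOpenEmbedding.isOpenMap _ hopen
  have e : (hU.fromSpec '' {p} : Set X) = {x} :=
    (@Set.image_singleton _ _ hU.fromSpec p).trans (congrArg _ (hU.fromSpec_primeIdealOf ⟨x, hx⟩))
  exact e ▸ h

variable {X : Scheme.{u}} (k : Type u) [Field k] [X.Over (Spec (CommRingCat.of k))]
  [IsProper (X ↘ Spec (CommRingCat.of k))]

include k in
/-- On a reduced scheme without isolated points, torsion-free modules have no zero-dimensional support. -/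
theorem isZero_of_torsionFree_of_dim [IsReduced X] (hpure : ∀ x : X, ¬ IsOpen ({x} : Set X)) {F : X.Modules}
    (hF : Coh.IsCoh F) (ht : TorSh.IsTorsionFree F)
    (hd : topologicalKrullDim (CohB1.support F) < ((1 : ℕ) : WithBot ℕ∞)) : IsZero F := by
  haveI := isNoetherian_of_proper (X := X) k
  haveI : F.IsQuasicoherent := hF.1
  refine isZero_of_support_eq_empty (Set.eq_empty_iff_forall_notMem.2 fun x hx => ?_)
  have hSc : IsClosed (CohB1.support F) := isClosed_support F (locallyFinGen_of_isFT F hF.2)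
  let f := X ↘ Spec (CommRingCat.of k)
  let I := Scheme.IdealSheafData.vanishingIdeal ⟨_, hSc⟩
  have hrg : Set.range I.subschemeι = CohB1.support F := by
    rw [Scheme.IdealSheafData.range_subschemeι, Scheme.IdealSheafData.coe_support_vanishingIdeal]; rfl
  have he := I.subschemeι.isEmbedding
  have hdim : topologicalKrullDim I.subscheme ≤ 0 := by
    rw [he.toHomeomorph.isHomeomorph.topologicalKrullDim_eq, hrg]
    generalize topologicalKrullDim (CohB1.support F) = d at hd
    induction d with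
    | bot => exact bot_le
    | coe d =>
      have h' : d < ((1 : ℕ) : ℕ∞) := WithBot.coe_lt_coe.1 hd
      exact WithBot.coe_le_coe.2 (Order.lt_one_iff_nonpos.1 (by simpa using h'))
  haveI := finite_of_dim_le_zero (I.subschemeι ≫ f) hdim
  haveI := discreteTopology_of_dim_le_zero (I.subschemeι ≫ f) hdim
  have hfinS : (CohB1.support F).Finite := hrg ▸ Set.finite_range _
  have hclosed : ∀ y ∈ CohB1.support F, IsClosed ({y} : Set X) := by
    intro y hy
    obtain ⟨y', rfl⟩ := (hrg.symm ▸ hy : y ∈ Set.range I.subschemeι)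
    rw [← Set.image_singleton]
    exact I.subschemeι.isClosedEmbedding.isClosedMap _ (isClosed_discrete _)
  have hrest : IsClosed (CohB1.support F \ {x}) := by
    rw [← Set.biUnion_of_singleton (CohB1.support F \ {x})]
    exact hfinS.sdiff.isClosed_biUnion fun y hy => hclosed y hy.1
  obtain ⟨_, ⟨U, hU, rfl⟩, hxU, hUS⟩ := (X.isBasis_affineOpens).exists_subset_of_mem_open
    (show x ∈ (CohB1.support F \ {x})ᶜ from fun h => h.2 rfl) hrest.isOpen_compl
  obtain ⟨a, hax, ha⟩ := exists_regular_mem hU hxU (hclosed x hx) (hpure x)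
  refine hx (subsingleton_of_forall_eq 0 fun z => ?_)
  haveI := ht x
  obtain ⟨g, m, hg, hz⟩ := QCohLoc.exists_smul_stalk_eq_germ F hU hxU z
  have h0 : F.presheaf.map (homOfLE (X.basicOpen_le a)).op m = 0 := by
    refine TopCat.Presheaf.section_ext ⟨F.presheaf, F.isSheaf⟩ _ _ 0 fun y hy => ?_
    have hys : y ∉ CohB1.support F := fun h => hax ((by_contra fun hne => hUS (X.basicOpen_le a hy) ⟨h, hne⟩ : y = x) ▸ hy)
    haveI : Subsingleton (F.presheaf.stalk y) := not_nontrivial_iff_subsingleton.1 fun hn => hys (not_subsingleton_iff_nontrivial.2 hn)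
    exact Subsingleton.elim _ _
  obtain ⟨n, hn⟩ := QCohLoc.exists_pow_smul_eq_zero F hU a m h0
  have hreg : IsRegular (X.presheaf.germ U x hxU a) := by
    letI := X.presheaf.algebra_section_stalk ⟨x, hxU⟩
    haveI := hU.isLocalization_stalk ⟨x, hxU⟩
    haveI : Module.Flat Γ(X, U) (X.presheaf.stalk x) :=
      IsLocalization.flat _ (hU.primeIdealOf ⟨x, hxU⟩).asIdeal.primeCompl
    refine isRegular_iff_mem_nonZeroDivisors.2 ?_
    exact mem_nonZeroDivisors_iff_right.2 fun b hb =>
      (IsSMulRegular.of_flat (S := X.presheaf.stalk x) (fun u v h => (isRegular_iff_mem_nonZeroDivisors.2 ha).left h) :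
        IsSMulRegular (X.presheaf.stalk x) (algebraMap Γ(X, U) (X.presheaf.stalk x) a))
        (show _ • b = _ • (0 : X.presheaf.stalk x) by rw [smul_zero, smul_eq_mul, mul_comm]; exact hb)
  have hm : (X.presheaf.germ U x hxU a) ^ n • F.presheaf.germ U x hxU m = 0 := by
    rw [← map_pow, ← QCohLoc.germ_smul', hn, map_zero]
  have hm0 : F.presheaf.germ U x hxU m = 0 :=
    Module.IsTorsionFree.isSMulRegular (hreg.pow n) (hm.trans (smul_zero _).symm)
  exact (((Scheme.mem_basicOpen _ _ _ hxU).1 hg).smul_eq_zero).1 (hz.trans hm0)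

variable (hX : topologicalKrullDim X ≤ ((1 : ℕ) : WithBot ℕ∞)) {L : X.Modules} (hL : CohB1.IsAmple L)

omit [IsProper (X ↘ Spec (CommRingCat.of k))] in
theorem mult_eq_deg (F : X.Modules) : DecSh.mult k X L F = deg k F (InvCl.mk L hL.1) :=
  (deg_mk k F hL.1).symm

include hX hL

theorem mult_nonneg {F : X.Modules} (hF : Coh.IsCoh F) : 0 ≤ DecSh.mult k X L F := by
  rw [mult_eq_deg k hL]
  rcases ((Topology.IsInducing.subtypeVal.topologicalKrullDim_le).trans hX :
    topologicalKrullDim (CohB1.support F) ≤ ((1 : ℕ) : WithBot ℕ∞)).lt_or_eq with h | h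
  · exact (deg_eq_zero_of_dim k hF h _).ge
  · rw [← interDeg_one_class]
    exact (interDeg_pos k 1 (fun _ => L) (fun _ => hL) F hF h).le

theorem mult_pos [IsReduced X] (hpure : ∀ x : X, ¬ IsOpen ({x} : Set X)) {F : X.Modules}
    (hF : Coh.IsCoh F) (ht : TorSh.IsTorsionFree F) (h0 : ¬ IsZero F) : 0 < DecSh.mult k X L F := by
  rw [mult_eq_deg k hL]
  rcases ((Topology.IsInducing.subtypeVal.topologicalKrullDim_le).trans hX :
    topologicalKrullDim (CohB1.support F) ≤ ((1 : ℕ) : WithBot ℕ∞)).lt_or_eq with h | h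
  · exact absurd (isZero_of_torsionFree_of_dim k hpure hF ht h) h0
  · rw [← interDeg_one_class]
    exact interDeg_pos k 1 (fun _ => L) (fun _ => hL) F hF h

theorem mult_le {F E : X.Modules} (i : F ⟶ E) [Mono i] (hF : Coh.IsCoh F) (hE : Coh.IsCoh E) :
    DecSh.mult k X L F ≤ DecSh.mult k X L E := by
  haveI := isNoetherian_of_proper (X := X) k
  have hc : Coh.IsCoh (cokernel i) := isCoh_cokernel i hF.1 hE
  have e := deg_additive k (ShortComplex.mk i (cokernel.π i) (cokernel.condition i))
    { exact := ShortComplex.exact_cokernel i } hF hE hc (InvCl.mk L hL.1)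
  dsimp only at e
  have := mult_nonneg k hX hL hc
  rw [mult_eq_deg k hL] at this
  rw [mult_eq_deg k hL, mult_eq_deg k hL, e]
  linarith

end Groth.Agent.Surf15
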