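import Groth.Agent.Surf15.Divisor

/-!
# Surf15: configurations of curves on a surface
-/

set_option autoImplicit false
set_option linter.style.haveILetI false
set_option backward.isDefEq.respectTransparency.types false

universe u

open CategoryTheory CategoryTheory.Limits AlgebraicGeometry Opposite TopologicalSpace
open Groth.Agent.Coherent Groth.Agent.PicLib Groth.Agent.AmpleLib Groth.Agent.EulerLib

namespace Groth.Agent.Surf15

variable {X : Scheme.{u}} (k : Type u) [Field k] [X.Over (Spec (CommRingCat.of k))]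
  [IsProper (X ↘ Spec (CommRingCat.of k))]

include k in
theorem B_prod (hX : topologicalKrullDim X ≤ ((2 : ℕ) : WithBot ℕ∞)) {ι : Type*} (s : Finset ι)
    (c : ι → InvCl X) (n : ι → ℕ) (d : InvCl X) :
    B k (∏ i ∈ s, c i ^ n i) d = ∑ i ∈ s, (n i : ℤ) * B k (c i) d := by
  classical
  induction s using Finset.induction_on with
  | empty => simp [B_one_left k hX]
  | insert i s hi ih => rw [Finset.prod_insert hi, Finset.sum_insert hi, B_mul_left k hX, B_pow_left k hX, ih]

include k in
/-- Every integer combination of finitely many classes is realised. -/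
theorem exists_comb (hX : topologicalKrullDim X ≤ ((2 : ℕ) : WithBot ℕ∞)) {ι : Type*} [Fintype ι]
    (c : ι → InvCl X) (a : ι → ℤ) : ∃ e : InvCl X, ∀ d, B k e d = ∑ i, a i * B k (c i) d := by
  classical
  choose e he using fun i => exists_zcomb k hX (c i) (a i)
  refine ⟨∏ i, e i ^ 1, fun d => ?_⟩
  rw [B_prod k hX]
  exact Finset.sum_congr rfl fun i _ => by rw [Nat.cast_one, one_mul, he]

include k in
theorem B_sum_sum (hX : topologicalKrullDim X ≤ ((2 : ℕ) : WithBot ℕ∞)) {ι : Type*} [Fintype ι]
    (c : ι → InvCl X) (a b : ι → ℤ) {e f : InvCl X} (he : ∀ d, B k e d = ∑ i, a i * B k (c i) d)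
    (hf : ∀ d, B k f d = ∑ i, b i * B k (c i) d) :
    B k e f = ∑ i, ∑ j, a i * b j * B k (c i) (c j) := by
  rw [he]
  refine Finset.sum_congr rfl fun i _ => ?_
  rw [B_comm k, hf, Finset.mul_sum]
  exact Finset.sum_congr rfl fun j _ => by rw [B_comm k (c j) (c i)]; ring

include k in
/-- Disjoint nonnegative combinations of distinct curves meet nonnegatively. -/
theorem sum_pos_neg_nonneg (hX : topologicalKrullDim X ≤ ((2 : ℕ) : WithBot ℕ∞)) {ι : Type*} [Fintype ι]
    (C : ι → X.IdealSheafData) (hC : Function.Injective C) (hCi : ∀ i, IsIntegral (C i).subscheme)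
    (hCd : ∀ i, topologicalKrullDim ((C i).support : Set X) = ((1 : ℕ) : WithBot ℕ∞))
    (hCe : ∀ i, BlowUp.IsEffCartierIdeal (C i)) (a : ι → ℤ) :
    0 ≤ ∑ i, ∑ j, max (a i) 0 * max (-a j) 0 * B k (clI' (C i) (hCe i)) (clI' (C j) (hCe j)) := by
  refine Finset.sum_nonneg fun i _ => Finset.sum_nonneg fun j _ => ?_
  haveI := hCi i
  haveI := hCi j
  rcases eq_or_ne i j with rfl | hij
  · rcases le_total (a i) 0 with h | h <;> simp [h]
  · refine mul_nonneg (by positivity) (B_clI'_nonneg k hX (hCe j) (hCe i) (hCd i) fun hsub => hij (hC ?_))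
    rw [support_eq_closure_gen (C i), support_eq_closure_gen (C j)] at hsub
    have hji : SDiv28.CartierPart.gen (C j) ⤳ SDiv28.CartierPart.gen (C i) :=
      specializes_iff_mem_closure.2 (hsub (subset_closure rfl))
    have h1 := ptDim_gen k (hCd i)
    have h2 := ptDim_gen k (hCd j)
    have he := DimLib.eq_of_specializes_of_ptDim_le (X ↘ Spec (CommRingCat.of k)) hji (by omega)
    rw [VarietyLib.eq_clI_of_isIntegral (C i), VarietyLib.eq_clI_of_isIntegral (C j)]
    exact congrArg (AssSch12.clI) he.symm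

include k in
/-- The negative part of a combination with negative definite matrix: pairing the combination with it
is positive unless it vanishes. -/
theorem neg_part_spec (hX : topologicalKrullDim X ≤ ((2 : ℕ) : WithBot ℕ∞)) {ι : Type*} [Fintype ι]
    (C : ι → X.IdealSheafData) (hC : Function.Injective C) (hCi : ∀ i, IsIntegral (C i).subscheme)
    (hCd : ∀ i, topologicalKrullDim ((C i).support : Set X) = ((1 : ℕ) : WithBot ℕ∞))
    (hCe : ∀ i, BlowUp.IsEffCartierIdeal (C i))
    (hneg : ∀ a : ι → ℤ, a ≠ 0 →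
      ∑ i, ∑ j, a i * a j * B k (clI' (C i) (hCe i)) (clI' (C j) (hCe j)) < 0) (s : ι → ℤ)
    (h : ∑ j, max (-s j) 0 * ∑ i, s i * B k (clI' (C i) (hCe i)) (clI' (C j) (hCe j)) ≤ 0) :
    ∀ i, 0 ≤ s i := by
  classical
  let c := fun i => clI' (C i) (hCe i)
  let N : ι → ℤ := fun i => max (-s i) 0
  by_contra hcon
  push Not at hcon
  obtain ⟨i₀, hi₀⟩ := hcon
  have hN : N ≠ 0 := fun h0 => by
    have : max (-s i₀) 0 = 0 := congrFun h0 i₀
    omega
  have hQ : ∑ i, ∑ j, N i * N j * B k (c i) (c j) < 0 := hneg N hN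
  have hP := sum_pos_neg_nonneg k hX C hC hCi hCd hCe s
  have e : ∑ j, max (-s j) 0 * ∑ i, s i * B k (c i) (c j) =
      ∑ i, ∑ j, max (s i) 0 * N j * B k (c i) (c j) - ∑ i, ∑ j, N i * N j * B k (c i) (c j) := by
    rw [← Finset.sum_sub_distrib]
    conv_rhs => arg 2; intro i; rw [← Finset.sum_sub_distrib]
    rw [Finset.sum_comm]
    refine Finset.sum_congr rfl fun j _ => ?_
    rw [Finset.mul_sum]
    refine Finset.sum_congr rfl fun i _ => ?_
    have : max (s i) 0 - max (-s i) 0 = s i := by omega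
    linear_combination (-(max (-s j) 0 * B k (c i) (c j))) * this
  linarith [e, h]

end Groth.Agent.Surf15
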