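import Groth.Agent.Surf15.RealForm
import Groth.Agent.Surf15.Config
import Groth.Agent.VarietyLib.Nakai
import Groth.Agent.VarietyLib.SmoothStalk
import Groth.Agent.AbCubeLib.GenericRank
import Mathlib.Analysis.Convex.Topology

/-!
# Surf15: the nef and ample cones of a surface
-/

set_option autoImplicit false
set_option linter.style.haveILetI false
set_option backward.isDefEq.respectTransparency.types false

universe u

open CategoryTheory CategoryTheory.Limits AlgebraicGeometry Opposite TopologicalSpace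
open Groth.Agent.Coherent Groth.Agent.PicLib Groth.Agent.AmpleLib Groth.Agent.EulerLib
open Groth.Agent.DimLib Groth.Agent.AssSch12

namespace Groth.Agent.Surf15

variable {X : Scheme.{u}} (k : Type u) [Field k] [X.Over (Spec (CommRingCat.of k))]
  [IsProper (X ↘ Spec (CommRingCat.of k))] [IsIntegral X]

include k in
/-- Two distinct curves meet nonnegatively. -/
theorem B_curve_ne_nonneg (hX : topologicalKrullDim X ≤ ((2 : ℕ) : WithBot ℕ∞)) {I J : X.IdealSheafData}
    [IsIntegral I.subscheme] [IsIntegral J.subscheme]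
    (hI : BlowUp.IsEffCartierIdeal I) (hJ : BlowUp.IsEffCartierIdeal J)
    (hId : topologicalKrullDim (I.support : Set X) = ((1 : ℕ) : WithBot ℕ∞))
    (hJd : topologicalKrullDim (J.support : Set X) = ((1 : ℕ) : WithBot ℕ∞)) (hne : I ≠ J) :
    0 ≤ B k (clI' I hI) (clI' J hJ) := by
  refine B_clI'_nonneg k hX hJ hI hId fun hsub => hne ?_
  rw [support_eq_closure_gen I, support_eq_closure_gen J] at hsub
  have hs : SDiv28.CartierPart.gen J ⤳ SDiv28.CartierPart.gen I :=
    specializes_iff_mem_closure.2 (hsub (subset_closure rfl))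
  have h1 := ptDim_gen k hId
  have h2 := ptDim_gen k hJd
  have he := DimLib.eq_of_specializes_of_ptDim_le (X ↘ Spec (CommRingCat.of k)) hs (by omega)
  rw [VarietyLib.eq_clI_of_isIntegral I, VarietyLib.eq_clI_of_isIntegral J]
  exact congrArg (AssSch12.clI) he.symm

omit [IsProper (X ↘ Spec (CommRingCat.of k))] [IsIntegral X] in
theorem cast_dim {Y : Set X} (h : topologicalKrullDim Y = 1) :
    topologicalKrullDim Y = ((1 : ℕ) : WithBot ℕ∞) := by rw [h]; rfl

variable [PicGrp.Law X] {β : NumR.N1R k X →ₗ[ℝ] NumR.N1R k X →ₗ[ℝ] ℝ}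

include k in
theorem bil_curve (hX : topologicalKrullDim X = ((2 : ℕ) : WithBot ℕ∞)) (hβ : NumR.IsIntForm₂ k X β)
    {I : X.IdealSheafData} (hE : BlowUp.IsEffCartierIdeal I) (hI : PicF.IsInvertible (ClSub.idealMod I))
    (a : InvCl X) : β (cR k a) (NumR.curveCl k X I hI) = - (B k a (clI' I hE) : ℝ) := by
  rw [curveCl_eq k I hE hI, map_neg, bil_cR k hX.le hβ]

include k in
theorem bil_curve_curve (hX : topologicalKrullDim X = ((2 : ℕ) : WithBot ℕ∞)) (hβ : NumR.IsIntForm₂ k X β)
    {I J : X.IdealSheafData} (hI : BlowUp.IsEffCartierIdeal I) (hJ : BlowUp.IsEffCartierIdeal J)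
    (hI' : PicF.IsInvertible (ClSub.idealMod I)) (hJ' : PicF.IsInvertible (ClSub.idealMod J)) :
    β (NumR.curveCl k X I hI') (NumR.curveCl k X J hJ') = (B k (clI' I hI) (clI' J hJ) : ℝ) := by
  rw [curveCl_eq k I hI hI', curveCl_eq k J hJ hJ', map_neg, map_neg, LinearMap.neg_apply, neg_neg,
    bil_cR k hX.le hβ]

include k in
/-- An effective class is a nonnegative combination of curves. -/
theorem eff_decomp (hX : topologicalKrullDim X = ((2 : ℕ) : WithBot ℕ∞))
    (hreg : ∀ x : X, IsRegularLocalRing (X.presheaf.stalk x)) (hβ : NumR.IsIntForm₂ k X β)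
    {L : X.Modules} (hL : PicF.IsInvertible L) {s : Γ(L, ⊤)} (hs : s ≠ 0) :
    ∃ (ι : Type u) (_ : Fintype ι) (C : ι → NumR.Curve X) (m : ι → ℕ),
      ∀ x, β x (cR k (InvCl.mk L hL)) = ∑ i, (m i : ℝ) * β x (NumR.curveCl k X (C i).1 (C i).2.2.2) := by
  classical
  haveI := isNoetherian_of_proper (X := X) k
  obtain ⟨T, hT, -, -, hQ, -, hd, hdeg⟩ := exists_cut k hX.le hL hs
  have hcl := isClosed_support T.X₃ (locallyFinGen_of_isFT _ hQ.2)
  let S := (VarietyLib.finite_top_points hcl hd).toFinset
  have hS : ∀ z ∈ S, topologicalKrullDim (closure ({z} : Set X)) = ((1 : ℕ) : WithBot ℕ∞) :=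
    fun z hz => ((Set.Finite.mem_toFinset _).1 hz).2
  have hint : ∀ z : X, IsIntegral (clI z).subscheme := VarietyLib.isIntegral_clI
  have hsd : ∀ z : S, topologicalKrullDim ((clI z.1).support : Set X) = ((1 : ℕ) : WithBot ℕ∞) := fun z => by
    rw [VarietyLib.support_clI]; exact hS z.1 z.2
  have hE : ∀ z : S, BlowUp.IsEffCartierIdeal (clI z.1) := fun z =>
    haveI := hint z.1
    isEffCartier_curve k hX hreg _ (hsd z)
  let C : S → NumR.Curve X := fun z => ⟨clI z.1, hint _, by rw [hsd z]; rfl,
    FlatMor12.IdealModGen.isInvertible_idealMod _ (hE z)⟩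
  refine ⟨S, inferInstance, C, fun z => VarietyLib.mult T.X₃ z.1, fun x => ?_⟩
  have key : β.flip (cR k (InvCl.mk L hL)) =
      ∑ z : S, (VarietyLib.mult T.X₃ z.1 : ℝ) • β.flip (NumR.curveCl k X (C z).1 (C z).2.2.2) := by
    refine LinearMap.ext_on (span_range_cR k) ?_
    rintro _ ⟨a, rfl⟩
    simp only [LinearMap.coe_sum, Finset.sum_apply, LinearMap.smul_apply, LinearMap.flip_apply, smul_eq_mul,
      C, bil_cR k hX.le hβ]
    have h := VarietyLib.eq_sum_mult (ψ := fun M => deg k M a) (d := 1)
      (fun {M N} e => by rw [deg_congr k e])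
      (fun U hU h₁ h₂ h₃ => deg_additive k U hU h₁ h₂ h₃ a)
      (fun M hM hlt => deg_eq_zero_of_dim k hM hlt a)
      hQ hd S (fun z hz h => (Set.Finite.mem_toFinset _).2 ⟨hz, h⟩) hS
    rw [hdeg, B_comm k] at h
    rw [h, Int.cast_sum, ← Finset.sum_coe_sort S]
    refine Finset.sum_congr rfl fun z _ => ?_
    rw [bil_curve k hX hβ (hE z), show clM z.1 = ClSub.quotMod (clI z.1) from rfl, deg_quotMod k (hE z),
      B_comm k, nsmul_eq_mul]
    push_cast
    ring
  have := LinearMap.congr_fun key x
  simpa only [LinearMap.coe_sum, Finset.sum_apply, LinearMap.smul_apply, LinearMap.flip_apply,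
    smul_eq_mul] using this

include k in
/-- A nef class is nonnegative on effective classes. -/
theorem nef_eff_nonneg (hX : topologicalKrullDim X = ((2 : ℕ) : WithBot ℕ∞))
    (hreg : ∀ x : X, IsRegularLocalRing (X.presheaf.stalk x)) (hβ : NumR.IsIntForm₂ k X β)
    {x : NumR.N1R k X} (hx : x ∈ NumR.nefCone₂ k X β)
    {L : X.Modules} (hL : PicF.IsInvertible L) {s : Γ(L, ⊤)} (hs : s ≠ 0) :
    0 ≤ β x (cR k (InvCl.mk L hL)) := by
  obtain ⟨ι, _, C, m, h⟩ := eff_decomp k hX hreg hβ hL hs
  rw [h]
  exact Finset.sum_nonneg fun i _ => mul_nonneg (Nat.cast_nonneg _) (hx _ (C i).2.1 (C i).2.2.1 _)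

include k in
/-- Classes of positive square on the ample side have multiples with sections. -/
theorem exists_pow_sec (hX : topologicalKrullDim X = ((2 : ℕ) : WithBot ℕ∞))
    {H : X.Modules} (hH : CohB1.IsAmple H) {a : InvCl X} (haa : 0 < B k a a)
    (hah : 0 < B k a (InvCl.mk H hH.1)) :
    ∃ (n : ℕ) (L : X.Modules) (hL : PicF.IsInvertible L) (s : Γ(L, ⊤)),
      0 < n ∧ s ≠ 0 ∧ InvCl.mk L hL = a ^ n := by
  obtain ⟨L, hL, rfl⟩ := InvCl.exists_rep a
  obtain ⟨N, hN⟩ := exists_sec_pow k hX hH hL haa (by rwa [B_comm k])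
  obtain ⟨s, hs⟩ := CurveRR24.exists_ne_zero_of_nontrivial k (hN _ N.le_succ)
  exact ⟨N + 1, _, isInvertible_tensorPow hL (N + 1), s, N.succ_pos, hs, InvCl.mk_tensorPow hL (N + 1)⟩

variable [Module.Finite ℝ (NumR.N1R k X)]

omit [IsProper (X ↘ Spec (CommRingCat.of k))] [IsIntegral X] in
theorem isOpen_posCone {H : X.Modules} (hH : PicF.IsInvertible H) : IsOpen (NumR.posCone k X β H hH) :=
  (isOpen_lt continuous_const (continuous_self k β)).inter
    (isOpen_lt continuous_const (continuous_left k _ β))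

omit [IsProper (X ↘ Spec (CommRingCat.of k))] [IsIntegral X] [Module.Finite ℝ (NumR.N1R k X)] in
theorem continuous_sub_left (x : NumR.N1R k X) : Continuous fun w : NumR.N1R k X => x + -w :=
  continuous_const.add (IsModuleTopology.continuous_of_linearMap
    (-(LinearMap.id : NumR.N1R k X →ₗ[ℝ] NumR.N1R k X)))

omit [IsProper (X ↘ Spec (CommRingCat.of k))] [IsIntegral X] [Module.Finite ℝ (NumR.N1R k X)] in
theorem continuous_line (x h : NumR.N1R k X) : Continuous fun t : ℝ => x + t • h :=
  continuous_const.add (continuous_id'.smul continuous_const)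

omit [IsProper (X ↘ Spec (CommRingCat.of k))] [IsIntegral X] [Module.Finite ℝ (NumR.N1R k X)] in
theorem continuous_line_sub (x h : NumR.N1R k X) : Continuous fun t : ℝ => x + -(t • h) := by
  simp only [← smul_neg]
  exact continuous_line k x (-h)

include k in
/-- A nef class is nonnegative on the positive cone. -/
theorem nef_pos_nonneg (hX : topologicalKrullDim X = ((2 : ℕ) : WithBot ℕ∞))
    (hreg : ∀ x : X, IsRegularLocalRing (X.presheaf.stalk x)) (hβ : NumR.IsIntForm₂ k X β)
    {H : X.Modules} (hH : CohB1.IsAmple H) {x y : NumR.N1R k X} (hx : x ∈ NumR.nefCone₂ k X β)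
    (hy : y ∈ NumR.posCone k X β H hH.1) : 0 ≤ β x y := by
  have hS : IsClosed {z | 0 ≤ β x z} :=
    isClosed_le continuous_const (IsModuleTopology.continuous_of_linearMap (β x))
  refine hS.closure_subset_iff.2 ?_ ((dense_ratPts k).open_subset_closure_inter (isOpen_posCone k hH.1) hy)
  rintro z ⟨⟨hz1, hz2⟩, m, a, hm, ha⟩
  have hm' : (0 : ℝ) < m := by exact_mod_cast hm
  have e1 : (B k a a : ℝ) = (m * m : ℝ) * β z z := by rw [← bil_cR k hX.le hβ, ← ha]; simp; ring
  have e2 : (B k a (InvCl.mk H hH.1) : ℝ) = m * β z (NumR.clR k X H hH.1) := by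
    rw [← bil_cR k hX.le hβ, ← ha]; simp [cR_mk]
  have haa : 0 < B k a a := by
    have : (0 : ℝ) < (B k a a : ℝ) := by rw [e1]; positivity
    exact_mod_cast this
  have hah : 0 < B k a (InvCl.mk H hH.1) := by
    have : (0 : ℝ) < (B k a (InvCl.mk H hH.1) : ℝ) := by rw [e2]; positivity
    exact_mod_cast this
  obtain ⟨n, L, hL, s, hn, hs, he⟩ := exists_pow_sec k hX hH haa hah
  have := nef_eff_nonneg k hX hreg hβ hx hL hs
  rw [he, cR_pow, ← ha, map_smul, map_smul, smul_eq_mul, smul_eq_mul, ← mul_assoc] at this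
  exact nonneg_of_mul_nonneg_right this (by positivity)

include k in
/-- The class of an ample module lies in the positive cone. -/
theorem ample_mem_posCone (hX : topologicalKrullDim X = ((2 : ℕ) : WithBot ℕ∞))
    (hβ : NumR.IsIntForm₂ k X β) {H P : X.Modules} (hH : CohB1.IsAmple H) (hP : CohB1.IsAmple P) :
    NumR.clR k X P hP.1 ∈ NumR.posCone k X β H hH.1 := by
  refine ⟨?_, ?_⟩
  · rw [show NumR.clR k X P hP.1 = cR k (InvCl.mk P hP.1) from rfl, bil_cR k hX.le hβ]
    exact_mod_cast B_ample_pos k hX hP hP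
  · rw [show NumR.clR k X P hP.1 = cR k (InvCl.mk P hP.1) from rfl,
      show NumR.clR k X H hH.1 = cR k (InvCl.mk H hH.1) from rfl, bil_cR k hX.le hβ]
    exact_mod_cast B_ample_pos k hX hP hH

include k in
theorem nef_ample_nonneg (hX : topologicalKrullDim X = ((2 : ℕ) : WithBot ℕ∞))
    (hreg : ∀ x : X, IsRegularLocalRing (X.presheaf.stalk x)) (hβ : NumR.IsIntForm₂ k X β)
    {P : X.Modules} (hP : CohB1.IsAmple P) {x : NumR.N1R k X} (hx : x ∈ NumR.nefCone₂ k X β) :
    0 ≤ β x (NumR.clR k X P hP.1) :=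
  nef_pos_nonneg k hX hreg hβ hP hx (ample_mem_posCone k hX hβ hP hP)

include k in
/-- **Nef classes have nonnegative square.** -/
theorem nef_sq_nonneg (hX : topologicalKrullDim X = ((2 : ℕ) : WithBot ℕ∞))
    (hreg : ∀ x : X, IsRegularLocalRing (X.presheaf.stalk x)) (hβ : NumR.IsIntForm₂ k X β)
    {H : X.Modules} (hH : CohB1.IsAmple H) {x : NumR.N1R k X} (hx : x ∈ NumR.nefCone₂ k X β) :
    0 ≤ β x x := by
  set h := NumR.clR k X H hH.1
  have hc : 0 < β h h := (ample_mem_posCone k hX hβ hH hH).1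
  have ha : 0 ≤ β x h := nef_ample_nonneg k hX hreg hβ hH hx
  have hsymm : β h x = β x h := bil_comm k hX.le hβ h x
  by_contra hneg
  push Not at hneg
  obtain ⟨t, ht, h1, h2⟩ : ∃ t : ℝ, 0 < t ∧ β x x + t * β x h < 0 ∧
      0 < β x x + 2 * t * β x h + t * t * β h h := by
    rcases ha.eq_or_lt with h0 | h0
    · have hu : 0 < -β x x / β h h := div_pos (neg_pos.2 hneg) hc
      refine ⟨1 + -β x x / β h h, by linarith, ?_, ?_⟩
      · rw [← h0, mul_zero, add_zero]; exact hneg
      · have e : -β x x / β h h * β h h = -β x x := div_mul_cancel₀ _ hc.ne'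
        rw [← h0]
        nlinarith [mul_pos hu hc, mul_nonneg (mul_nonneg hu.le hu.le) hc.le]
    · refine ⟨3 * -β x x / (4 * β x h), div_pos (by linarith) (by linarith), ?_, ?_⟩
      · have : 3 * -β x x / (4 * β x h) * β x h = 3 * -β x x / 4 := by field_simp
        rw [this]; linarith
      · have : 2 * (3 * -β x x / (4 * β x h)) * β x h = 3 * -β x x / 2 := by field_simp; ring
        rw [this]
        nlinarith [mul_nonneg (mul_self_nonneg (3 * -β x x / (4 * β x h))) hc.le]
  have hy : x + t • h ∈ NumR.posCone k X β H hH.1 := by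
    refine ⟨?_, ?_⟩
    · simp [hsymm]; linarith
    · show 0 < β (x + t • h) h
      simp
      have := mul_pos ht hc
      linarith
  have := nef_pos_nonneg k hX hreg hβ hH hx hy
  simp at this
  linarith

include k in
/-- A nef class of positive square is positive on ample classes. -/
theorem nef_big_ample_pos (hX : topologicalKrullDim X = ((2 : ℕ) : WithBot ℕ∞))
    (hreg : ∀ x : X, IsRegularLocalRing (X.presheaf.stalk x)) (hβ : NumR.IsIntForm₂ k X β)
    {H : X.Modules} (hH : CohB1.IsAmple H) {x : NumR.N1R k X} (hx : x ∈ NumR.nefCone₂ k X β)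
    (hxx : 0 < β x x) : x ∈ NumR.posCone k X β H hH.1 :=
  ⟨hxx, (nef_ample_nonneg k hX hreg hβ hH hx).lt_of_ne' ((lorentz k hX hreg hβ hH).ne_zero hxx)⟩

omit [Module.Finite ℝ (NumR.N1R k X)] in
include k in
theorem ample_curve_pos (hX : topologicalKrullDim X = ((2 : ℕ) : WithBot ℕ∞))
    (hreg : ∀ x : X, IsRegularLocalRing (X.presheaf.stalk x)) (hβ : NumR.IsIntForm₂ k X β)
    {x : NumR.N1R k X} (hx : x ∈ NumR.ampleCone k X) {I : X.IdealSheafData} (hi : IsIntegral I.subscheme)
    (hd : topologicalKrullDim (I.support : Set X) = 1) (hI : PicF.IsInvertible (ClSub.idealMod I)) :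
    0 < β x (NumR.curveCl k X I hI) := by
  haveI := hi
  have hE := isEffCartier_curve k hX hreg I (cast_dim hd)
  let U : ConvexCone ℝ (NumR.N1R k X) :=
    { carrier := {y | 0 < β y (NumR.curveCl k X I hI)}
      smul_mem' := fun c hc y hy => by simpa using mul_pos hc hy
      add_mem' := fun y hy z hz => by
        show 0 < β (y + z) _
        rw [map_add, LinearMap.add_apply]; exact add_pos hy hz }
  have hsub : {y : NumR.N1R k X | ∃ (L : X.Modules) (hL : PicF.IsInvertible L),
      CohB1.IsAmple L ∧ y = NumR.clR k X L hL} ⊆ (U : Set (NumR.N1R k X)) := by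
    rintro _ ⟨L, hL, hA, rfl⟩
    show 0 < β _ _
    rw [← cR_mk, bil_curve k hX hβ hE hI, neg_pos, B_comm k]
    exact_mod_cast B_curve_ample_neg k I (cast_dim hd) hE hA
  exact ConvexCone.hull_min hsub hx

include k in
/-- The ample cone lies in the positive cone. -/
theorem ampleCone_subset_posCone (hX : topologicalKrullDim X = ((2 : ℕ) : WithBot ℕ∞))
    (hreg : ∀ x : X, IsRegularLocalRing (X.presheaf.stalk x)) (hβ : NumR.IsIntForm₂ k X β)
    {H : X.Modules} (hH : CohB1.IsAmple H) :
    (NumR.ampleCone k X : Set (NumR.N1R k X)) ⊆ NumR.posCone k X β H hH.1 := by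
  let U : ConvexCone ℝ (NumR.N1R k X) :=
    { carrier := NumR.posCone k X β H hH.1
      smul_mem' := fun c hc y hy => ⟨by simpa using mul_pos hc (mul_pos hc hy.1),
        by simpa using mul_pos hc hy.2⟩
      add_mem' := fun y hy z hz => ⟨by
          have h := (lorentz k hX hreg hβ hH).pos_pair hy.1 hy.2 hz.1.le hz.2
          simp [bil_comm k hX.le hβ z y]
          linarith [hy.1, hz.1],
        by simpa using add_pos hy.2 hz.2⟩ }
  have hsub : {y : NumR.N1R k X | ∃ (L : X.Modules) (hL : PicF.IsInvertible L),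
      CohB1.IsAmple L ∧ y = NumR.clR k X L hL} ⊆ (U : Set (NumR.N1R k X)) := by
    rintro _ ⟨L, hL, hA, rfl⟩
    exact ample_mem_posCone k hX hβ hH hA
  exact fun x hx => ConvexCone.hull_min hsub hx

omit [IsProper (X ↘ Spec (CommRingCat.of k))] [IsIntegral X] in
theorem ample_mem {L : X.Modules} (hL : CohB1.IsAmple L) : NumR.clR k X L hL.1 ∈ NumR.ampleCone k X :=
  ConvexCone.subset_hull ⟨L, hL.1, hL, rfl⟩

include k in
/-- The ample cone is open. -/
theorem isOpen_ampleCone : IsOpen (NumR.ampleCone k X : Set (NumR.N1R k X)) := by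
  classical
  obtain ⟨n, a, b, hb⟩ := exists_basis k (X := X)
  let A := NumR.ampleCone k X
  let I : ConvexCone ℝ (NumR.N1R k X) :=
    { carrier := interior (A : Set (NumR.N1R k X))
      smul_mem' := fun c hc y hy => by
        have ho : IsOpen ((fun z : NumR.N1R k X => c⁻¹ • z) ⁻¹' interior (A : Set (NumR.N1R k X))) :=
          isOpen_interior.preimage (continuous_const_smul _)
        refine interior_maximal (fun z hz => ?_) ho ?_
        · have := A.smul_mem hc (interior_subset hz)
          rwa [smul_smul, mul_inv_cancel₀ hc.ne', one_smul] at this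
        · show c⁻¹ • c • y ∈ interior (A : Set (NumR.N1R k X))
          rwa [smul_smul, inv_mul_cancel₀ hc.ne', one_smul]
      add_mem' := fun y hy z hz => by
        have ho : IsOpen ((fun w : NumR.N1R k X => w + -y) ⁻¹' interior (A : Set (NumR.N1R k X))) :=
          isOpen_interior.preimage (continuous_id.add continuous_const)
        refine interior_maximal (fun w hw => ?_) ho ?_
        · have := A.add_mem (interior_subset hy) (interior_subset hw)
          rwa [show y + (w + -y) = w by abel] at this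
        · show y + z + -y ∈ interior (A : Set (NumR.N1R k X))
          rwa [show y + z + -y = z by abel] }
  have hsub : {y : NumR.N1R k X | ∃ (L : X.Modules) (hL : PicF.IsInvertible L),
      CohB1.IsAmple L ∧ y = NumR.clR k X L hL} ⊆ (I : Set (NumR.N1R k X)) := by
    rintro _ ⟨P, hP', hP, rfl⟩
    set p := NumR.clR k X P hP'
    have hA : ∀ c : InvCl X, ∃ N : ℕ, ∀ m, N ≤ m → cR k c + (m : ℝ) • p ∈ A := by
      intro c
      obtain ⟨L, hL, rfl⟩ := InvCl.exists_rep c
      obtain ⟨N, hN⟩ := eventually_isAmple_twist hP hL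
      refine ⟨N, fun m hm => ?_⟩
      have := ample_mem k (hN m hm)
      rwa [← cR_mk, ← InvCl.mk_mul hL (isInvertible_tensorPow hP' m), InvCl.mk_tensorPow hP',
        cR_mul, cR_pow] at this
    choose N₁ hN₁ using fun i => hA (a i)
    choose e he using fun i => exists_inv (a i)
    choose N₂ hN₂ using fun i => hA (e i)
    let N : ℝ := (∑ i, (N₁ i + N₂ i) : ℕ)
    let f : NumR.N1R k X → ℝ := fun y => N * ∑ i, |b.repr (y + -p) i|
    have hf : Continuous f := continuous_const.mul (continuous_finsetSum _ fun i _ =>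
      ((IsModuleTopology.continuous_of_linearMap (b.coord i)).comp
        (continuous_id.add continuous_const)).abs)
    show p ∈ interior (A : Set (NumR.N1R k X))
    have hmax : {y | f y < 1} ⊆ (A : Set (NumR.N1R k X)) → p ∈ interior (A : Set (NumR.N1R k X)) := fun hs =>
      interior_maximal hs (isOpen_lt hf continuous_const) (show f p < 1 by simp [f])
    refine hmax fun y hy => ?_
    · have hy' : N * ∑ i, |b.repr (y + -p) i| < 1 := hy
      let v := fun i => b.repr (y + -p) i
      have hterm : ∀ i, v i • b i + (N * |v i|) • p = 0 ∨ v i • b i + (N * |v i|) • p ∈ A := by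
        intro i
        have hN : ∀ m : ℕ, m ≤ N₁ i + N₂ i → (m : ℝ) ≤ N := fun m hm => by
          refine Nat.cast_le.2 (hm.trans ?_)
          exact Finset.single_le_sum (f := fun i => N₁ i + N₂ i) (fun _ _ => Nat.zero_le _) (Finset.mem_univ i)
        rcases lt_trichotomy (v i) 0 with h | h | h
        · right
          have h1 : v i • b i + (N * |v i|) • p = (-v i) • (cR k (e i) + N • p) := by
            rw [cR_inv k (he i), hb, abs_of_neg h]; module
          rw [h1]
          exact A.smul_mem (neg_pos.2 h) (hN₂ i _ (le_refl _ |>.trans (by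
            exact Finset.single_le_sum (f := fun i => N₁ i + N₂ i) (fun _ _ => Nat.zero_le _)
              (Finset.mem_univ i) |>.trans' (Nat.le_add_left _ _))))
        · left; simp [h]
        · right
          have h1 : v i • b i + (N * |v i|) • p = v i • (cR k (a i) + N • p) := by
            rw [hb, abs_of_pos h]; module
          rw [h1]
          exact A.smul_mem h (hN₁ i _ (Finset.single_le_sum (f := fun i => N₁ i + N₂ i) (fun _ _ => Nat.zero_le _)
              (Finset.mem_univ i) |>.trans' (Nat.le_add_right _ _)))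
      have hsum : y = (1 - N * ∑ i, |v i|) • p + ∑ i, (v i • b i + (N * |v i|) • p) := by
        rw [Finset.sum_add_distrib, ← Finset.sum_smul, ← Finset.mul_sum, b.sum_repr]
        module
      rw [hsum]
      suffices H : ∀ s : Finset (Fin n), (1 - N * ∑ i, |v i|) • p + ∑ i ∈ s, (v i • b i + (N * |v i|) • p) ∈ A from
        H _
      intro s
      induction s using Finset.induction_on with
      | empty =>
        rw [Finset.sum_empty, add_zero]
        exact A.smul_mem (sub_pos.2 hy') (ample_mem k hP)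
      | insert i s hi ih =>
        rw [Finset.sum_insert hi, add_left_comm]
        rcases hterm i with h | h
        · rwa [h, zero_add]
        · exact A.add_mem h ih
  exact subset_interior_iff_isOpen.1 fun x hx => ConvexCone.hull_min hsub hx

include k in
/-- A class with positive square and positive on curves is positive on a neighbourhood. -/
theorem isOpen_posCurves (hX : topologicalKrullDim X = ((2 : ℕ) : WithBot ℕ∞))
    (hreg : ∀ x : X, IsRegularLocalRing (X.presheaf.stalk x)) (hβ : NumR.IsIntForm₂ k X β)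
    {H : X.Modules} (hH : CohB1.IsAmple H) :
    IsOpen {x | 0 < β x x ∧ ∀ (I : X.IdealSheafData), IsIntegral I.subscheme →
      topologicalKrullDim (I.support : Set X) = 1 → ∀ hI : PicF.IsInvertible (ClSub.idealMod I),
        0 < β x (NumR.curveCl k X I hI)} := by
  classical
  set h := NumR.clR k X H hH.1
  refine isOpen_iff_forall_mem_open.2 fun x hx => ?_
  have hxP := nef_big_ample_pos k hX hreg hβ hH (fun I h1 h2 h3 => (hx.2 I h1 h2 h3).le) hx.1
  have hopen := isOpen_posCone k (β := β) hH.1
  -- a positive `ε` with `x - εh` still positive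
  have hcont : Continuous fun t : ℝ => x + -(t • h) :=
    continuous_line_sub k x h
  have h0 : (0 : ℝ) ∈ (fun t : ℝ => x + -(t • h)) ⁻¹' NumR.posCone k X β H hH.1 := by simpa using hxP
  obtain ⟨ε, hε0, hε⟩ : ∃ ε : ℝ, 0 < ε ∧ x + -(ε • h) ∈ NumR.posCone k X β H hH.1 := by
    obtain ⟨r, hr, hball⟩ := Metric.isOpen_iff.1 (hopen.preimage hcont) 0 h0
    exact ⟨r / 2, by linarith, hball (by simp [abs_of_pos hr]; linarith)⟩
  -- a rational class `w` near it with `x - w` ample
  have hW : IsOpen ({w | x + -w ∈ (NumR.ampleCone k X : Set (NumR.N1R k X))} ∩ NumR.posCone k X β H hH.1) :=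
    ((isOpen_ampleCone k).preimage (continuous_sub_left k x)).inter hopen
  obtain ⟨w, ⟨hwA, hwP⟩, m, a, hm, ha⟩ := (dense_ratPts k).inter_open_nonempty _ hW
    ⟨x + -(ε • h), by
      show x + -(x + -(ε • h)) ∈ (NumR.ampleCone k X : Set (NumR.N1R k X))
      rw [show x + -(x + -(ε • h)) = ε • h by abel]
      exact (NumR.ampleCone k X).smul_mem hε0 (ample_mem k hH), hε⟩
  have hm' : (0 : ℝ) < m := by exact_mod_cast hm
  have haa : 0 < B k a a := by
    have : (0 : ℝ) < (B k a a : ℝ) := by
      rw [← bil_cR k hX.le hβ, ← ha]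
      simpa using mul_pos hm' (mul_pos hm' hwP.1)
    exact_mod_cast this
  have hah : 0 < B k a (InvCl.mk H hH.1) := by
    have : (0 : ℝ) < (B k a (InvCl.mk H hH.1) : ℝ) := by
      rw [← bil_cR k hX.le hβ, ← ha]
      simpa [cR_mk] using mul_pos hm' hwP.2
    exact_mod_cast this
  obtain ⟨n, L, hL, s, hn, hs, he⟩ := exists_pow_sec k hX hH haa hah
  obtain ⟨ι, _, C, μ, hC⟩ := eff_decomp k hX hreg hβ hL hs
  refine ⟨{y | (0 < β y y ∧ y + -w ∈ (NumR.ampleCone k X : Set (NumR.N1R k X))) ∧
    ∀ i, 0 < β y (NumR.curveCl k X (C i).1 (C i).2.2.2)}, ?_, ?_,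
    ⟨hx.1, hwA⟩, fun i => hx.2 _ (C i).2.1 (C i).2.2.1 _⟩
  · rintro y ⟨⟨hyy, hyw⟩, hyC⟩
    refine ⟨hyy, fun I hi hd hI => ?_⟩
    by_cases hmem : ∃ i, (C i).1 = I
    · obtain ⟨i, rfl⟩ := hmem
      exact hyC i
    · haveI := hi
      have hE := isEffCartier_curve k hX hreg I (cast_dim hd)
      have h1 := hC (NumR.curveCl k X I hI)
      rw [he, cR_pow, ← ha, map_smul, map_smul, smul_eq_mul, smul_eq_mul, ← mul_assoc] at h1
      have h2 : 0 ≤ (n : ℝ) * m * β (NumR.curveCl k X I hI) w := by
        rw [h1]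
        refine Finset.sum_nonneg fun i _ => mul_nonneg (Nat.cast_nonneg _) ?_
        haveI := (C i).2.1
        have hEi := isEffCartier_curve k hX hreg (C i).1 (cast_dim (C i).2.2.1)
        rw [bil_curve_curve k hX hβ hE hEi]
        exact_mod_cast B_curve_ne_nonneg k hX.le hE hEi (cast_dim hd) (cast_dim (C i).2.2.1)
          fun e => hmem ⟨i, e.symm⟩
      have h3 : 0 ≤ β w (NumR.curveCl k X I hI) := by
        rw [bil_comm k hX.le hβ]
        exact nonneg_of_mul_nonneg_right h2 (by positivity)
      have h4 := ample_curve_pos k hX hreg hβ hyw hi hd hI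
      rw [map_add, map_neg, LinearMap.add_apply, LinearMap.neg_apply] at h4
      linarith
  · refine ((isOpen_lt continuous_const (continuous_self k β)).inter
      ((isOpen_ampleCone k).preimage (continuous_id.add continuous_const))).inter ?_
    show IsOpen {y | ∀ i, 0 < β y (NumR.curveCl k X (C i).1 (C i).2.2.2)}
    rw [Set.setOf_forall]
    exact isOpen_iInter_of_finite fun i => isOpen_lt continuous_const (continuous_left k _ β)

omit [Module.Finite ℝ (NumR.N1R k X)] in
include k in
/-- **Nakai–Moishezon** on a surface, integral form. -/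
theorem isAmple_of_pos (hX : topologicalKrullDim X = ((2 : ℕ) : WithBot ℕ∞))
    (hreg : ∀ x : X, IsRegularLocalRing (X.presheaf.stalk x)) (hβ : NumR.IsIntForm₂ k X β)
    {L : X.Modules} (hL : PicF.IsInvertible L) (h2 : 0 < β (NumR.clR k X L hL) (NumR.clR k X L hL))
    (h1 : ∀ (I : X.IdealSheafData), IsIntegral I.subscheme → topologicalKrullDim (I.support : Set X) = 1 →
      ∀ hI : PicF.IsInvertible (ClSub.idealMod I), 0 < β (NumR.clR k X L hL) (NumR.curveCl k X I hI)) :
    CohB1.IsAmple L := by
  haveI := isNoetherian_of_proper (X := X) k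
  refine VarietyLib.isAmple_of_posInt k hL fun z r hr hz => ?_
  set a := InvCl.mk L hL
  have hle : r ≤ 2 := by
    have := (dim_mono (Set.subset_univ (closure ({z} : Set X)))).trans
      ((IsHomeomorph.topologicalKrullDim_eq _ (Homeomorph.Set.univ X).isHomeomorph).le.trans hX.le)
    rw [hz] at this
    exact_mod_cast this
  obtain rfl | rfl : r = 1 ∨ r = 2 := by omega
  · haveI := VarietyLib.isIntegral_clI z
    have hd : topologicalKrullDim ((clI z).support : Set X) = ((1 : ℕ) : WithBot ℕ∞) := by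
      rw [VarietyLib.support_clI]; exact hz
    have hE := isEffCartier_curve k hX hreg (clI z) hd
    have := h1 (clI z) (VarietyLib.isIntegral_clI z) (by rw [hd]; rfl)
      (FlatMor12.IdealModGen.isInvertible_idealMod _ hE)
    rw [← cR_mk, bil_curve k hX hβ hE, neg_pos] at this
    rw [interDeg_one_class, show clM z = ClSub.quotMod (clI z) from rfl, deg_quotMod k hE, neg_pos, B_comm k]
    exact_mod_cast this
  · obtain rfl : z = genericPoint X := by
      refine (DimLib.eq_of_specializes_of_ptDim_le (X ↘ Spec (CommRingCat.of k))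
        (genericPoint_specializes z) ?_).symm
      rw [VarietyLib.dim_closure_eq_ptDim k] at hz
      rw [ptDim_genericPoint k hX]
      exact le_of_eq (by exact_mod_cast hz.symm)
    have e := AbCubeLib.interDeg_eq_genRank k (X := X) (r := 2) hX.le (fun _ => a) (Coh.structureModule X) (isCoh_O k)
    have hB : 0 < interDeg (fun _ : Fin 2 => a) (chiCl k (Coh.structureModule X)) := by
      have e2 : (fun _ : Fin 2 => a) = (Fin.cons a (Fin.cons a Fin.elim0) : Fin 2 → InvCl X) := by
        funext i; fin_cases i <;> rfl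
      rw [e2, ← B_eq_interDeg]
      rw [← cR_mk, bil_cR k hX.le hβ] at h2
      exact_mod_cast h2
    rw [e] at hB
    exact pos_of_mul_pos_right hB (Int.natCast_nonneg _)

include k in
/-- **The ample cone** is the set of classes of positive square positive on all curves. -/
theorem mem_ampleCone_iff (hX : topologicalKrullDim X = ((2 : ℕ) : WithBot ℕ∞))
    (hreg : ∀ x : X, IsRegularLocalRing (X.presheaf.stalk x)) (hβ : NumR.IsIntForm₂ k X β)
    {H : X.Modules} (hH : CohB1.IsAmple H) (x : NumR.N1R k X) :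
    x ∈ (NumR.ampleCone k X : Set (NumR.N1R k X)) ↔
      (0 < β x x ∧ ∀ (I : X.IdealSheafData), IsIntegral I.subscheme →
        topologicalKrullDim (I.support : Set X) = 1 → ∀ hI : PicF.IsInvertible (ClSub.idealMod I),
          0 < β x (NumR.curveCl k X I hI)) := by
  refine ⟨fun hx => ⟨(ampleCone_subset_posCone k hX hreg hβ hH hx).1,
    fun I hi hd hI => ample_curve_pos k hX hreg hβ hx hi hd hI⟩, fun hx => ?_⟩
  set h := NumR.clR k X H hH.1
  have hU := isOpen_posCurves k hX hreg hβ hH
  obtain ⟨ε, hε0, hε⟩ : ∃ ε : ℝ, 0 < ε ∧ x + -(ε • h) ∈ {x | 0 < β x x ∧ ∀ (I : X.IdealSheafData),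
      IsIntegral I.subscheme → topologicalKrullDim (I.support : Set X) = 1 →
      ∀ hI : PicF.IsInvertible (ClSub.idealMod I), 0 < β x (NumR.curveCl k X I hI)} := by
    have hcont : Continuous fun t : ℝ => x + -(t • h) :=
      continuous_line_sub k x h
    obtain ⟨r, hr, hball⟩ := Metric.isOpen_iff.1 (hU.preimage hcont) 0
      (Set.mem_preimage.2 (by rw [zero_smul, neg_zero, add_zero]; exact hx))
    exact ⟨r / 2, by linarith, hball (by simp [abs_of_pos hr]; linarith)⟩
  have hW := ((isOpen_ampleCone k (X := X)).preimage (continuous_sub_left k x)).inter hU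
  obtain ⟨d, ⟨hdA, hd2, hdC⟩, m, a, hm, ha⟩ := (dense_ratPts k).inter_open_nonempty _ hW
    ⟨x + -(ε • h), by
      show x + -(x + -(ε • h)) ∈ (NumR.ampleCone k X : Set (NumR.N1R k X))
      rw [show x + -(x + -(ε • h)) = ε • h by abel]
      exact (NumR.ampleCone k X).smul_mem hε0 (ample_mem k hH), hε⟩
  have hm' : (0 : ℝ) < m := by exact_mod_cast hm
  obtain ⟨L, hL, rfl⟩ := InvCl.exists_rep a
  rw [cR_mk] at ha
  have hA : CohB1.IsAmple L := isAmple_of_pos k hX hreg hβ hL
    (by rw [← ha]; simpa using mul_pos hm' (mul_pos hm' hd2))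
    (fun I hi hI hinv => by rw [← ha]; simpa using mul_pos hm' (hdC I hi hI hinv))
  have hd : d ∈ (NumR.ampleCone k X : Set (NumR.N1R k X)) := by
    have := (NumR.ampleCone k X).smul_mem (inv_pos.2 hm') (ample_mem k hA)
    rwa [← ha, smul_smul, inv_mul_cancel₀ hm'.ne', one_smul] at this
  have := (NumR.ampleCone k X).add_mem hd hdA
  rwa [show d + (x + -d) = x by abel] at this

include k in
/-- Nef plus ample is ample. -/
theorem nef_add_ample (hX : topologicalKrullDim X = ((2 : ℕ) : WithBot ℕ∞))
    (hreg : ∀ x : X, IsRegularLocalRing (X.presheaf.stalk x)) (hβ : NumR.IsIntForm₂ k X β)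
    {H : X.Modules} (hH : CohB1.IsAmple H) {x y : NumR.N1R k X} (hx : x ∈ NumR.nefCone₂ k X β)
    (hy : y ∈ (NumR.ampleCone k X : Set (NumR.N1R k X))) :
    x + y ∈ (NumR.ampleCone k X : Set (NumR.N1R k X)) := by
  obtain ⟨hy2, hyC⟩ := (mem_ampleCone_iff k hX hreg hβ hH y).1 hy
  have hxx := nef_sq_nonneg k hX hreg hβ hH hx
  have hxy := nef_pos_nonneg k hX hreg hβ hH hx (ampleCone_subset_posCone k hX hreg hβ hH hy)
  refine (mem_ampleCone_iff k hX hreg hβ hH _).2 ⟨?_, fun I hi hd hI => ?_⟩
  · simp [bil_comm k hX.le hβ y x]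
    linarith
  · rw [map_add, LinearMap.add_apply]
    exact add_pos_of_nonneg_of_pos (hx I hi hd hI) (hyC I hi hd hI)

include k in
/-- The closure of the ample cone. -/
theorem closure_ampleCone (hX : topologicalKrullDim X = ((2 : ℕ) : WithBot ℕ∞))
    (hreg : ∀ x : X, IsRegularLocalRing (X.presheaf.stalk x)) (hβ : NumR.IsIntForm₂ k X β)
    {H : X.Modules} (hH : CohB1.IsAmple H) :
    closure (NumR.ampleCone k X : Set (NumR.N1R k X)) = {x | 0 ≤ β x x ∧ x ∈ NumR.nefCone₂ k X β} := by
  refine (closure_minimal ?_ ?_).antisymm ?_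
  · intro x hx
    obtain ⟨h2, h1⟩ := (mem_ampleCone_iff k hX hreg hβ hH x).1 hx
    exact ⟨h2.le, fun I hi hd hI => (h1 I hi hd hI).le⟩
  · refine (isClosed_le continuous_const (continuous_self k β)).inter ?_
    show IsClosed (NumR.nefCone₂ k X β)
    simp only [NumR.nefCone₂, Set.setOf_forall]
    exact isClosed_iInter fun I => isClosed_iInter fun _ => isClosed_iInter fun _ =>
      isClosed_iInter fun _ => isClosed_le continuous_const (continuous_left k _ β)
  · rintro x ⟨-, hx⟩
    have hlim : Filter.Tendsto (fun t : ℝ => x + t • NumR.clR k X H hH.1) (nhdsWithin 0 (Set.Ioi 0)) (nhds x) := by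
      have hc := continuous_line k x (NumR.clR k X H hH.1)
      simpa using (hc.tendsto 0).mono_left nhdsWithin_le_nhds
    refine mem_closure_of_tendsto hlim (eventually_nhdsWithin_of_forall fun t ht => ?_)
    exact nef_add_ample k hX hreg hβ hH hx ((NumR.ampleCone k X).smul_mem ht (ample_mem k hH))

end Groth.Agent.Surf15
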