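import Groth.Agent.Surf15.RRCor
import Groth.Agent.Surf15.Cones

/-!
# Surf15: Nakai–Moishezon in terms of the pairing
-/

set_option autoImplicit false
set_option linter.style.haveILetI false
set_option linter.unusedSectionVars false
set_option backward.isDefEq.respectTransparency.types false

universe u

open CategoryTheory CategoryTheory.Limits AlgebraicGeometry Opposite TopologicalSpace
open Groth.Agent.Coherent Groth.Agent.PicLib Groth.Agent.AmpleLib Groth.Agent.EulerLib
open Groth.Agent.CurveRR24 Groth.Agent.DimLib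

namespace Groth.Agent.Surf15

variable {X : Scheme.{u}} (k : Type u) [Field k] [X.Over (Spec (CommRingCat.of k))]
  [IsProper (X ↘ Spec (CommRingCat.of k))] [IsIntegral X]
  (hX : topologicalKrullDim X = ((2 : ℕ) : WithBot ℕ∞))
  (hreg : ∀ x : X, IsRegularLocalRing (X.presheaf.stalk x))
include k hX hreg

/-- Positive square and positive on every curve means ample. -/
theorem isAmple_of_B_pos {L : X.Modules} (hL : PicF.IsInvertible L)
    (h2 : 0 < B k (InvCl.mk L hL) (InvCl.mk L hL))
    (h1 : ∀ (I : X.IdealSheafData) (hI : BlowUp.IsEffCartierIdeal I), IsCrv I →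
      B k (clI' I hI) (InvCl.mk L hL) < 0) :
    CohB1.IsAmple L := by
  haveI := isNoetherian_of_proper (X := X) k
  refine VarietyLib.isAmple_of_posInt k hL fun z r hr hz => ?_
  set a := InvCl.mk L hL
  have hle : r ≤ 2 := by
    have := (dim_mono (Set.subset_univ (closure ({z} : Set X)))).trans
      ((IsHomeomorph.topologicalKrullDim_eq _ (Homeomorph.Set.univ X).isHomeomorph).le.trans hX.le)
    rw [hz] at this
    exact_mod_cast this
  obtain rfl | rfl : r = 1 ∨ r = 2 := by omega
  · have hc : IsCrv (AssSch12.clI z) :=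
      ⟨VarietyLib.isIntegral_clI z, by rw [VarietyLib.support_clI]; exact hz⟩
    have hE := hc.isEffCartier k hX hreg
    rw [interDeg_one_class, show AssSch12.clM z = ClSub.quotMod (AssSch12.clI z) from rfl, deg_quotMod k hE,
      neg_pos]
    exact h1 _ hE hc
  · obtain rfl : z = genericPoint X := by
      refine (DimLib.eq_of_specializes_of_ptDim_le (X ↘ Spec (CommRingCat.of k))
        (genericPoint_specializes z) ?_).symm
      rw [VarietyLib.dim_closure_eq_ptDim k] at hz
      rw [ptDim_genericPoint k hX]
      exact le_of_eq (by exact_mod_cast hz.symm)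
    have e := AbCubeLib.interDeg_eq_genRank k (X := X) (r := 2) hX.le (fun _ => a) (Coh.structureModule X) (isCoh_O k)
    have hB : 0 < interDeg (fun _ : Fin 2 => a) (chiCl k (Coh.structureModule X)) := by
      have e2 : (fun _ : Fin 2 => a) = (Fin.cons a (Fin.cons a Fin.elim0) : Fin 2 → InvCl X) := by
        funext i; fin_cases i <;> rfl
      rw [e2, ← B_eq_interDeg]
      exact h2
    rw [e] at hB
    exact pos_of_mul_pos_right hB (Int.natCast_nonneg _)

/-- A curve of nonnegative square is nef. -/
theorem deg_inv_crv_nonneg [IsAlgClosed k] {C : X.IdealSheafData} (hC : IsCrv C)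
    (hCc : BlowUp.IsEffCartierIdeal C) (hcc : 0 ≤ B k (clI' C hCc) (clI' C hCc)) {a : InvCl X}
    (ha : clI' C hCc * a = 1) (y : X) (hy : topologicalKrullDim (closure {y} : Set X) = ((1 : ℕ) : WithBot ℕ∞)) :
    0 ≤ deg k (AssSch12.clM y) a := by
  have hc : IsCrv (AssSch12.clI y) :=
    ⟨VarietyLib.isIntegral_clI y, by rw [VarietyLib.support_clI]; exact hy⟩
  have hE := hc.isEffCartier k hX hreg
  rw [show AssSch12.clM y = ClSub.quotMod (AssSch12.clI y) from rfl,
    deg_quotMod k hE, B_inv_right k hX.le ha, neg_neg]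
  by_cases hsub : ((AssSch12.clI y).support : Set X) ⊆ (C.support : Set X)
  · obtain ⟨-, e⟩ := exists_eq_of_crv k (fun _ : Unit => C) (fun _ => hC) hc le_rfl
      (hsub.trans (Set.subset_iUnion (fun _ : Unit => (C.support : Set X)) ()))
    rw [clI'_congr e hE hCc]
    exact hcc
  · haveI := hc.1
    exact B_clI'_nonneg k hX.le hCc hE hc.2 hsub

end Groth.Agent.Surf15
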