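import Groth.Agent.Surf15.SerreApps
import Groth.Agent.Surf15.PlaneNef
import Groth.Agent.CurveRR24.AlgClosed

/-!
# Surf15: surfaces with trivial canonical module
-/

set_option autoImplicit false
set_option linter.style.haveILetI false
set_option linter.unusedSectionVars false
set_option maxHeartbeats 1000000
set_option synthInstance.maxHeartbeats 200000
set_option backward.isDefEq.respectTransparency.types false

universe u

open CategoryTheory CategoryTheory.Limits AlgebraicGeometry Opposite TopologicalSpace
open Groth.Agent.Coherent Groth.Agent.PicLib Groth.Agent.AmpleLib Groth.Agent.EulerLib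
open Groth.Agent.CurveRR24

namespace Groth.Agent.Surf15

variable {X : Scheme.{u}} (k : Type u) [Field k] [IsAlgClosed k] [X.Over (Spec (CommRingCat.of k))]
  [IsProper (X ↘ Spec (CommRingCat.of k))] [IsIntegral X]
  (hX : topologicalKrullDim X = ((2 : ℕ) : WithBot ℕ∞))
include hX

/-- A module orthogonal to an ample class with a section is trivial. -/
theorem nonempty_iso_unit_of_orth {H L : X.Modules} (hH : CohB1.IsAmple H) (hL : PicF.IsInvertible L)
    (h : B k (InvCl.mk L hL) (InvCl.mk H hH.1) = 0) (hs : Nontrivial (Coh.HH X L 0)) :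
    Nonempty (L ≅ Coh.structureModule X) := by
  obtain ⟨s, hs⟩ := exists_section_ne_zero k hs
  rcases B_sec k hX hL hs hH with h' | h'
  · omega
  · exact h'

omit hX in
include k in
theorem finrank_h0_structure : Module.finrank k (Coh.HH X (Coh.structureModule X) 0) = 1 := by
  haveI := isNoetherian_of_proper (X := X) k
  haveI := isSeparated_of_proper (X := X) k
  exact CurveRR24.h0_structure k

include k in
/-- The ideal of a nonempty divisor has no sections. -/
theorem subsingleton_h0_idealMod {H : X.Modules} (hH : CohB1.IsAmple H) {C : X.IdealSheafData}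
    (hC : BlowUp.IsEffCartierIdeal C) (hC0 : C ≠ ⊤) : Subsingleton (Coh.HH X (ClSub.idealMod C) 0) := by
  by_contra hc
  have hlt := B_clI'_ample_neg k hX hC hC0 hH
  have hI := FlatMor12.IdealModGen.isInvertible_idealMod C hC
  obtain ⟨s, hs⟩ := exists_section_ne_zero k (not_subsingleton_iff_nontrivial.1 hc)
  rcases B_sec k hX hI hs hH with h' | h'
  · unfold clI' at hlt
    omega
  · rw [clI', InvCl.mk_eq hI isInvertible_structureModule h'.some,
      show InvCl.mk (Coh.structureModule X) isInvertible_structureModule = 1 from rfl] at hlt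
    have h1 := B_mul_left k hX.le 1 1 (InvCl.mk H hH.1)
    rw [one_mul] at h1
    omega

variable [Smooth (X ↘ Spec (CommRingCat.of k))]
  (hK : ExtPow.IsExtPow 2 (Omega.sheaf (X ↘ Spec (CommRingCat.of k))) (Coh.structureModule X))
  (hq : Module.finrank k (Coh.HH X (Coh.structureModule X) 1) = 0)
include hK hq

/-- `χ(O) = 2` on a surface with trivial canonical module and no irregularity. -/
theorem chiCl_one_k3 : chiCl k (Coh.structureModule X) 1 = 2 := by
  have hO : PicF.IsInvertible (Coh.structureModule X) := isInvertible_structureModule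
  have h2 := (serre_duality k hX hK hO hO hO (unitTensorIso _)).1
  rw [(HHCongr k (unitTensorIso (Coh.structureModule X)) 0).finrank_eq, finrank_h0_structure k] at h2
  rw [chiCl_one, euler_three k hX.le (isQCoh_of_isInvertible hO), h2, hq, finrank_h0_structure k]
  norm_num

/-- Numerically trivial modules on a K3 surface are trivial. -/
theorem nonempty_iso_unit_of_numTrivial {H : X.Modules} (hH : CohB1.IsAmple H) {L : X.Modules}
    (hL : PicF.IsInvertible L) (hnum : ∀ a, B k (InvCl.mk L hL) a = 0) :
    Nonempty (L ≅ Coh.structureModule X) := by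
  haveI := isNoetherian_of_proper (X := X) k
  have hO : PicF.IsInvertible (Coh.structureModule X) := isInvertible_structureModule
  obtain ⟨N, ⟨e⟩⟩ := VarietyLib.exists_isInverseOf hL
  have hN : PicF.IsInvertible N :=
    PicM.isInvertible_of_tensor hL (glocus_isInvertible_of_iso e.symm isInvertible_structureModule)
  have hgN : InvCl.mk L hL * InvCl.mk N hN = 1 := by
    rw [InvCl.mk_mul hL hN]; exact InvCl.mk_eq _ _ e
  have hle := euler_le_h0_add_h2 k hX hL
  have hr := riemannRoch_cl k hX hK hO (InvCl.mk L hL)
  rw [hnum, hnum, chiCl_one_k3 k hX hK hq] at hr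
  rw [(serre_duality k hX hK hO hL hN e).1,
    (HHCongr k (unitTensorIso N) 0).finrank_eq] at hle
  rcases subsingleton_or_nontrivial (Coh.HH X L 0) with h0 | h0
  · rcases subsingleton_or_nontrivial (Coh.HH X N 0) with h1 | h1
    · rw [Module.finrank_zero_of_subsingleton (M := Coh.HH X L 0),
        Module.finrank_zero_of_subsingleton (M := Coh.HH X N 0)] at hle
      simp at hle
      omega
    · have hz : B k (InvCl.mk N hN) (InvCl.mk H hH.1) = 0 := by
        have := B_inv_left k hX.le hgN (InvCl.mk H hH.1)
        rw [hnum] at this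
        omega
      obtain ⟨i⟩ := nonempty_iso_unit_of_orth k hX hH hN hz h1
      exact ⟨(unitTensorIso L).symm ≪≫ tensorComm _ _ ≪≫ AmpleLib.tensorIso (Iso.refl L) i.symm ≪≫ e⟩
  · exact nonempty_iso_unit_of_orth k hX hH hL (hnum _) h0

end Groth.Agent.Surf15
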