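import Groth.Agent.Surf15.BundleDual
import Groth.Agent.Surf15.HomShIso

/-!
# Surf15: Riemann–Roch with an invertible dualizing sheaf on Cohen–Macaulay surfaces
-/

set_option autoImplicit false
set_option linter.style.haveILetI false
set_option linter.unusedSectionVars false
set_option maxHeartbeats 1000000
set_option backward.isDefEq.respectTransparency.types false

universe u

open CategoryTheory CategoryTheory.Abelian CategoryTheory.Limits AlgebraicGeometry Opposite TopologicalSpace
open Groth.Agent.Coherent Groth.Agent.PicLib Groth.Agent.AmpleLib Groth.Agent.EulerLib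
open Groth.Agent.CurveRR24

namespace Groth.Agent.Surf15

variable {X : Scheme.{u}} (k : Type u) [Field k] [X.Over (Spec (CommRingCat.of k))]
  [IsProper (X ↘ Spec (CommRingCat.of k))] {H : X.Modules} (hH : CohB1.IsAmple H)
  (hX : topologicalKrullDim X ≤ ((2 : ℕ) : WithBot ℕ∞))
  (hCM : ∀ x : X, IsClosed ({x} : Set X) →
    LocCoh.IsCohenMacaulayLocalRing (X.presheaf.stalk x) ∧ ringKrullDim (X.presheaf.stalk x) = (2 : ℕ))
  {ω : X.Modules} (hω : PicF.IsInvertible ω) {t : Coh.HH X ω 2 →ₗ[k] k}
  (hrep : ∀ F : X.Modules, Coh.IsCoh F → SerreDual.Rep t F)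
include hH hX hCM hω hrep

/-- Duality for invertible modules with an invertible dualizing sheaf. -/
theorem chiCl_symm_gor {a g : InvCl X} (h : a * g = 1) :
    chiCl k (Coh.structureModule X) (InvCl.mk ω hω * g) = chiCl k (Coh.structureModule X) a := by
  haveI := isNoetherian_of_proper (X := X) k
  haveI := isSeparated_of_proper (X := X) k
  haveI : IsGrothendieckAbelian.{u} X.Modules := DCat.schemeModules_isGrothendieckAbelian X
  obtain ⟨L, hL, rfl⟩ := InvCl.exists_rep a
  have hO : PicF.IsInvertible (Coh.structureModule X) := isInvertible_structureModule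
  have hLf := VarietyLib.isFinLocFree_of_rank (isFinLocFreeOfRank_one hL)
  have hd : ∀ i j, i + j = 2 →
      Module.finrank k (Coh.HH X (internalHom L ω) i) = Module.finrank k (Coh.HH X L j) := fun i j hij => by
    obtain ⟨e⟩ := (SerreDual.duality_cm (k := k) hH hX hCM (isCoh_of_isInvertible k hω) t hrep L
      (isCoh_of_isInvertible k hL) i).1 j hij
    haveI := finite_HH_of_isCoh k (isCoh_of_isInvertible k hL) j
    exact ((SerreDual.extLocFreeEquiv k hLf ω i).symm.trans e).finrank_eq.trans Subspace.dual_finrank_eq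
  have hiso : Nonempty (internalHom L ω ≅ CohB1.tensorMod (RefHull.dual L) ω) := by
    obtain ⟨e1⟩ := SerreDual.nonempty_internalHom_eq_tensor hLf ω
    obtain ⟨e2⟩ := nonempty_homSh_iso L (Coh.structureModule X)
    exact ⟨e1 ≪≫ AmpleLib.tensorIso e2.symm (Iso.refl ω)⟩
  obtain ⟨eiso⟩ := hiso
  obtain ⟨eL⟩ := VarietyLib.isInverseOf_dual hL
  have hdi : PicF.IsInvertible (RefHull.dual L) :=
    PicM.isInvertible_of_tensor hL (glocus_isInvertible_of_iso eL.symm hO)
  have hg : g = InvCl.mk (RefHull.dual L) hdi := by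
    have h1 : InvCl.mk L hL * InvCl.mk (RefHull.dual L) hdi = 1 :=
      (InvCl.mk_mul hL hdi).trans (InvCl.mk_eq _ hO eL)
    rw [← one_mul (InvCl.mk (RefHull.dual L) hdi), ← h, mul_comm (InvCl.mk L hL) g, mul_assoc, h1, mul_one]
  subst hg
  rw [mul_comm, InvCl.mk_mul hdi hω, chiCl_mk, chiCl_mk, euler_congr k X (unitTensorIso _),
    euler_congr k X (unitTensorIso L), ← euler_congr k X eiso,
    euler_three k hX (CohBC.isCoh_of_isFinLocFree (CohBC.isFinLocFree_internalHom hLf
      (VarietyLib.isFinLocFree_of_rank (isFinLocFreeOfRank_one hω)))).1,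
    euler_three k hX (isQCoh_of_isInvertible hL), hd 0 2 rfl, hd 1 1 rfl, hd 2 0 rfl]
  ring

/-- **Riemann–Roch** with an invertible dualizing sheaf. -/
theorem riemannRoch_gor (a : InvCl X) :
    2 * chiCl k (Coh.structureModule X) a =
      B k a a - B k a (InvCl.mk ω hω) + 2 * chiCl k (Coh.structureModule X) 1 := by
  obtain ⟨g, hag⟩ := exists_inv a
  have h1 := chiCl_symm_gor k hH hX hCM hω hrep hag
  have h0 := chiCl_symm_gor k hH hX hCM hω hrep (mul_one (1 : InvCl X))
  rw [mul_one] at h0
  have e1 : B k (InvCl.mk ω hω) g = - B k a (InvCl.mk ω hω) := by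
    rw [B_inv_right k hX hag, B_comm k]
  have e2 : B k a g = - B k a a := B_inv_right k hX hag a
  rw [B] at e1 e2
  rw [hag] at e2
  linarith

end Groth.Agent.Surf15
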