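import Groth.Agent.Surf15.Cycle
import Groth.Agent.H8Top.SchemeBasic

/-!
# Surf15: inductions over the components of an effective divisor

Vanishing of `H¹` on the subdivisors of a cycle, and the sections of line bundles of nonpositive degree.
-/

set_option autoImplicit false
set_option linter.style.haveILetI false
set_option backward.isDefEq.respectTransparency.types false

universe u

open CategoryTheory CategoryTheory.Limits AlgebraicGeometry Opposite TopologicalSpace
open Groth.Agent.Coherent Groth.Agent.PicLib Groth.Agent.AmpleLib Groth.Agent.EulerLib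
open Groth.Agent.CurveRR24 Groth.Agent.DimLib Groth.Agent.AssSch12

namespace Groth.Agent.Surf15

variable {X : Scheme.{u}}

/-- An integral curve on the scheme. -/
def IsCrv (C : X.IdealSheafData) : Prop :=
  IsIntegral C.subscheme ∧ topologicalKrullDim (C.support : Set X) = ((1 : ℕ) : WithBot ℕ∞)

theorem mul_le_fst (A E : X.IdealSheafData) : A * E ≤ A := fun U => by
  rw [Scheme.IdealSheafData.ideal_mul, Pi.mul_apply]
  exact Ideal.mul_le_left

theorem mul_le_snd (A E : X.IdealSheafData) : A * E ≤ E := by rw [mul_comm]; exact mul_le_fst E A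

theorem IsCrv.ne_top {C : X.IdealSheafData} (h : IsCrv C) : C ≠ ⊤ := fun e => by
  haveI := h.1
  have hm : SDiv28.CartierPart.gen C ∈ (C.support : Set X) := (SDiv28.CartierPart.isGenericPoint_gen C).mem
  subst e
  rw [Scheme.IdealSheafData.support_top] at hm
  exact hm

theorem clI'_congr {I J : X.IdealSheafData} (h : I = J) (hI : BlowUp.IsEffCartierIdeal I)
    (hJ : BlowUp.IsEffCartierIdeal J) : clI' I hI = clI' J hJ := by
  subst h; rfl

variable (k : Type u) [Field k] [X.Over (Spec (CommRingCat.of k))]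
  [IsProper (X ↘ Spec (CommRingCat.of k))] [IsIntegral X]

variable (hX : topologicalKrullDim X = ((2 : ℕ) : WithBot ℕ∞))
  (hreg : ∀ x : X, IsRegularLocalRing (X.presheaf.stalk x))

include k hX hreg

theorem IsCrv.isEffCartier {C : X.IdealSheafData} (h : IsCrv C) : BlowUp.IsEffCartierIdeal C :=
  haveI := h.1
  isEffCartier_curve k hX hreg C h.2

/-- Every nonempty effective divisor is a curve plus an effective divisor. -/
theorem exists_split {Z : X.IdealSheafData} (hZ : BlowUp.IsEffCartierIdeal Z) (hZ0 : Z ≠ ⊤) :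
    ∃ W C : X.IdealSheafData, BlowUp.IsEffCartierIdeal W ∧ IsCrv C ∧ Z = W * C ∧ Z < W := by
  obtain ⟨C, hCi, hCd, hC, hle⟩ := exists_curve k hX hreg hZ hZ0
  obtain ⟨W, hW⟩ := ModPairLib.exists_mul_eq hC hle
  have hWc : BlowUp.IsEffCartierIdeal W := ModPairLib.isEffCartier_of_mul (hW.symm ▸ hZ) hC
  have hcrv : IsCrv C := ⟨hCi, hCd⟩
  refine ⟨W, C, hWc, hcrv, hW.symm, lt_of_le_of_ne (hW ▸ mul_le_fst W C) fun h => ?_⟩
  exact hcrv.ne_top (ModPairLib.eq_top_of_mul_eq hWc (by rw [mul_comm, hW, h]))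

/-- Induction over the components. -/
theorem cycle_rec {P : ∀ Z : X.IdealSheafData, BlowUp.IsEffCartierIdeal Z → Prop}
    (hmul : ∀ W C (hW : BlowUp.IsEffCartierIdeal W) (hC : BlowUp.IsEffCartierIdeal C),
      W ≠ ⊤ → IsCrv C → P W hW → P C hC → P (W * C) (ModPairLib.isEffCartier_mul hW hC))
    {Z : X.IdealSheafData} (hZ : BlowUp.IsEffCartierIdeal Z) (hZ0 : Z ≠ ⊤)
    (hcrv : ∀ C (hC : BlowUp.IsEffCartierIdeal C), IsCrv C → Z ≤ C → P C hC) : P Z hZ := by
  haveI := isNoetherian_of_proper (X := X) k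
  haveI := H8Top.wellFoundedGT_idealSheafData X
  induction Z using WellFoundedGT.induction with
  | ind Z ih =>
    obtain ⟨W, C, hW, hC, rfl, hlt⟩ := exists_split k hX hreg hZ hZ0
    by_cases h : W = ⊤
    · have hPC := hcrv C (hC.isEffCartier k hX hreg) hC (mul_le_snd W C)
      have e : W * C = C := by rw [h, Scheme.IdealSheafData.top_mul]
      convert hPC
    · exact hmul W C hW _ h hC (ih W hlt hW h fun D hD hDc hle => hcrv D hD hDc ((mul_le_fst W C).trans hle))
        (hcrv C (hC.isEffCartier k hX hreg) hC (mul_le_snd W C))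

/-- Negative self-intersections of supported cycles. -/
theorem exists_class_eq_prod {ι : Type*} [Fintype ι] (c : ι → InvCl X) {Z : X.IdealSheafData}
    (hZ : BlowUp.IsEffCartierIdeal Z) (hZ0 : Z ≠ ⊤)
    (hc : ∀ C (hC : BlowUp.IsEffCartierIdeal C), IsCrv C → Z ≤ C → ∃ i, clI' C hC = c i) :
    ∃ a : ι → ℕ, a ≠ 0 ∧ clI' Z hZ = ∏ i, c i ^ a i := by
  classical
  refine cycle_rec k hX hreg (P := fun Z hZ => ∃ a : ι → ℕ, a ≠ 0 ∧ clI' Z hZ = ∏ i, c i ^ a i)
    (fun W C hW hC _ _ ⟨a, ha, haW⟩ ⟨b, _, hbC⟩ => ⟨a + b, fun h => ha ?_, ?_⟩) hZ hZ0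
    fun C hC hCc hle => ?_
  · funext i
    have := congrFun h i
    simp only [Pi.add_apply, Pi.zero_apply] at this ⊢
    omega
  · rw [clI'_mul W C hW hC, haW, hbC, ← Finset.prod_mul_distrib]
    exact Finset.prod_congr rfl fun i _ => (pow_add _ _ _).symm
  · obtain ⟨i, hi⟩ := hc C hC hCc hle
    refine ⟨Pi.single i 1, fun h => ?_, ?_⟩
    · simpa using congrFun h i
    · rw [hi, Finset.prod_eq_single i (fun j _ hj => by simp [Pi.single_eq_of_ne hj]) (by simp)]
      simp

omit [IsIntegral X] hreg in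
theorem deg_twist {A C : X.IdealSheafData} (hA : BlowUp.IsEffCartierIdeal A)
    (hC : BlowUp.IsEffCartierIdeal C) {L : X.Modules} (hL : PicF.IsInvertible L)
    (hM : PicF.IsInvertible (CohB1.tensorMod (ClSub.idealMod A) L)) :
    deg k (ClSub.quotMod C) (InvCl.mk (CohB1.tensorMod (ClSub.idealMod A) L) hM) =
      deg k (ClSub.quotMod C) (InvCl.mk L hL) - B k (clI' C hC) (clI' A hA) := by
  rw [← InvCl.mk_mul (FlatMor12.IdealModGen.isInvertible_idealMod A hA) hL, deg_quotMod k hC,
    deg_quotMod k hC, B_mul_right k hX.le]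
  simp only [clI']
  ring

omit [IsIntegral X] hX hreg in
/-- The Euler characteristic of a sum of effective divisors. -/
theorem euler_mul {A E : X.IdealSheafData} (hA : BlowUp.IsEffCartierIdeal A)
    (hE : BlowUp.IsEffCartierIdeal E) :
    Curv2.euler k X (ClSub.quotMod (A * E)) =
      Curv2.euler k X (ClSub.quotMod A) + Curv2.euler k X (ClSub.quotMod E) -
        B k (clI' A hA) (clI' E hE) := by
  have hIA := FlatMor12.IdealModGen.isInvertible_idealMod A hA
  have hO := isInvertible_structureModule (X := X)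
  have h := euler_ses_twist k hA hE hO
  have u : ∀ M : X.Modules, CohB1.tensorMod M (Coh.structureModule X) ≅ M := fun M =>
    AmpleLib.tensorComm _ _ ≪≫ unitTensorIso M
  rw [euler_congr k X (u _), euler_congr k X (u (ClSub.quotMod A)),
    euler_congr k X (AmpleLib.tensorIso (Iso.refl (ClSub.quotMod E)) (u (ClSub.idealMod A)))] at h
  have h2 := deg_mk k (ClSub.quotMod E) hIA
  rw [deg_quotMod k hE, B_comm] at h2
  simp only [clI'] at *
  linarith

/-- `2χ(O_Z) + Z²` is additive, so bounded by bounds on the components. -/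
theorem two_euler_add_self_le (w : InvCl X) {Z : X.IdealSheafData} (hZ : BlowUp.IsEffCartierIdeal Z)
    (hZ0 : Z ≠ ⊤)
    (hcrv : ∀ C (hC : BlowUp.IsEffCartierIdeal C), IsCrv C → Z ≤ C →
      2 * Curv2.euler k X (ClSub.quotMod C) + B k (clI' C hC) (clI' C hC) ≤ B k (clI' C hC) w) :
    2 * Curv2.euler k X (ClSub.quotMod Z) + B k (clI' Z hZ) (clI' Z hZ) ≤ B k (clI' Z hZ) w := by
  refine cycle_rec k hX hreg (P := fun Z hZ =>
    2 * Curv2.euler k X (ClSub.quotMod Z) + B k (clI' Z hZ) (clI' Z hZ) ≤ B k (clI' Z hZ) w)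
    (fun W C hW hC _ _ h1 h2 => ?_) hZ hZ0 hcrv
  rw [euler_mul k hW hC, clI'_mul W C hW hC, B_mul_left k hX.le, B_mul_left k hX.le, B_mul_right k hX.le, B_mul_right k hX.le,
    B_comm k (clI' C hC) (clI' W hW)]
  linarith

variable [IsAlgClosed k]

/-- If all subdivisors have positive Euler characteristic, `H¹` vanishes on them. -/
theorem h1_vanish_of_euler {Z : X.IdealSheafData} (hZ : BlowUp.IsEffCartierIdeal Z) (hZ0 : Z ≠ ⊤)
    (hpos : ∀ A J : X.IdealSheafData, BlowUp.IsEffCartierIdeal A → BlowUp.IsEffCartierIdeal J →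
      A ≠ ⊤ → Z = A * J → 1 ≤ Curv2.euler k X (ClSub.quotMod A)) :
    Subsingleton (Coh.HH X (ClSub.quotMod Z) 1) := by
  haveI := isNoetherian_of_proper (X := X) k
  haveI := H8Top.wellFoundedGT_idealSheafData X
  induction Z using WellFoundedGT.induction with
  | ind Z ih =>
    have hO := isInvertible_structureModule (X := X)
    have u : ∀ M : X.Modules, CohB1.tensorMod M (Coh.structureModule X) ≅ M := fun M =>
      AmpleLib.tensorComm _ _ ≪≫ unitTensorIso M
    have hcrvH : ∀ C, IsCrv C → Z ≤ C → Subsingleton (Coh.HH X (ClSub.quotMod C) 1) := fun C hC hle => by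
      haveI := hC.1
      have hCc := hC.isEffCartier k hX hreg
      obtain ⟨J, hJ⟩ := ModPairLib.exists_mul_eq hCc hle
      have h := hpos C J hCc (ModPairLib.isEffCartier_of_mul (hJ.symm ▸ hZ) hCc) hC.ne_top
        (by rw [mul_comm, hJ])
      have h2 := (curve_facts k C hC.2 hO).2.1
      haveI := finite_HH_of_isCoh k (isCoh_quotMod C) 1
      have h3 : Module.finrank k (Coh.HH X (ClSub.quotMod C) 1) = 0 := by omega
      exact Module.finrank_zero_iff.1 h3
    have hex : ∃ W C : X.IdealSheafData, ∃ (hW : BlowUp.IsEffCartierIdeal W)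
        (hC : BlowUp.IsEffCartierIdeal C), IsCrv C ∧ Z = W * C ∧ B k (clI' C hC) (clI' W hW) ≤ 1 := by
      by_contra hcon
      push Not at hcon
      have h := two_euler_add_self_le k hX hreg (clI' Z hZ) hZ hZ0 fun C hC hCc hle => by
        obtain ⟨W, hW⟩ := ModPairLib.exists_mul_eq hC hle
        have hWc : BlowUp.IsEffCartierIdeal W := ModPairLib.isEffCartier_of_mul (hW.symm ▸ hZ) hC
        have h1 := hcon W C hWc hC hCc hW.symm
        haveI := hCc.1
        have h2 := (curve_facts k C hCc.2 hO).2.1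
        have e : clI' Z hZ = clI' W hWc * clI' C hC :=
          (clI'_congr hW.symm hZ (ModPairLib.isEffCartier_mul hWc hC)).trans (clI'_mul W C hWc hC)
        rw [e, B_mul_right k hX.le]
        omega
      have h3 := hpos Z ⊤ hZ (Scheme.IdealSheafData.one_eq_top (X := X) ▸ Inters29.isEffCartier_one) hZ0
        (Scheme.IdealSheafData.mul_top Z).symm
      omega
    obtain ⟨W, C, hW, hC, hCc, rfl, hB⟩ := hex
    by_cases hW0 : W = ⊤
    · rw [hW0, Scheme.IdealSheafData.top_mul]
      exact hcrvH C hCc (mul_le_snd W C)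
    · haveI := hCc.1
      have hWlt : W * C < W := lt_of_le_of_ne (mul_le_fst W C) fun h =>
        hCc.ne_top (ModPairLib.eq_top_of_mul_eq hW (by rw [mul_comm]; exact h))
      have hM := isInvertible_tensorMod (FlatMor12.IdealModGen.isInvertible_idealMod W hW) hO
      have h1 := (curve_facts k C hCc.2 hM).2.2.2.2 (hcrvH C hCc (mul_le_snd W C)) (by
        rw [deg_twist k hX hW hC hO hM, deg_mk, euler_congr k X (u _)]
        omega)
      have h2 := ih W hWlt hW hW0 fun A J hA hJ hA0 e => hpos A (J * C) hA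
        (ModPairLib.isEffCartier_mul hJ hC) hA0 (by rw [e, mul_assoc])
      exact subsingleton_HH_congr (u _) 1 ((h1_ses_twist k hX.le hW hC hO).1 h1
        (subsingleton_HH_congr (u _).symm 1 h2))

omit [IsAlgClosed k] [IsIntegral X] hX hreg in
include k in
/-- The Euler characteristic of a divisor on a surface. -/
theorem euler_quotMod_eq (hX' : topologicalKrullDim X ≤ ((2 : ℕ) : WithBot ℕ∞)) {A : X.IdealSheafData}
    (hA : BlowUp.IsEffCartierIdeal A) :
    Curv2.euler k X (ClSub.quotMod A) = (Module.finrank k (Coh.HH X (ClSub.quotMod A) 0) : ℤ) -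
      Module.finrank k (Coh.HH X (ClSub.quotMod A) 1) := by
  haveI := isNoetherian_of_proper (X := X) k
  haveI := isSeparated_of_proper (X := X) k
  rw [euler_eq_sum k X (ClSub.quotMod A) 1 fun q hq => subsingleton_HH_of_support A.support _
    (isCoh_quotMod A).1 (support_quotMod_subset A) q
    (lt_of_le_of_lt (VarietyLib.dim_support_le_of_effCartier k (e := 1) hX' hA) (by exact_mod_cast hq))]
  simp [Finset.sum_range_succ]
  ring

omit [IsAlgClosed k] [IsIntegral X] hX hreg in
include k in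
/-- A nonempty divisor has a nonzero global function. -/
theorem one_le_h0_quotMod {A : X.IdealSheafData} (hA0 : A ≠ ⊤) :
    1 ≤ Module.finrank k (Coh.HH X (ClSub.quotMod A) 0) := by
  haveI := isNoetherian_of_proper (X := X) k
  haveI : Nonempty A.subscheme := by
    obtain ⟨x, hx⟩ := support_nonempty hA0
    obtain ⟨y, -⟩ := A.range_subschemeι.ge hx
    exact ⟨y⟩
  haveI := finite_HH_of_isCoh k (isCoh_quotMod A) 0
  haveI : Nonempty (A.subschemeι ⁻¹ᵁ ⊤ : A.subscheme.Opens) := ⟨⟨Classical.arbitrary _, trivial⟩⟩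
  haveI := nontrivial_h0 k (L := ClSub.quotMod A) (s := (show Γ(ClSub.quotMod A, ⊤) from (1 : Γ(A.subscheme, A.subschemeι ⁻¹ᵁ ⊤))))
    (one_ne_zero (α := Γ(A.subscheme, A.subschemeι ⁻¹ᵁ ⊤)))
  exact Module.finrank_pos

omit [IsAlgClosed k] [IsIntegral X] hX hreg in
include k in
/-- A curve inside a configuration is one of its curves. -/
theorem exists_eq_of_crv {ι : Type*} (D : ι → X.IdealSheafData) (hD : ∀ i, IsCrv (D i))
    {C A : X.IdealSheafData} (hC : IsCrv C) (hle : A ≤ C)
    (hs : (A.support : Set X) ⊆ ⋃ i, ((D i).support : Set X)) : ∃ i, C = D i := by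
  haveI := hC.1
  have hg : SDiv28.CartierPart.gen C ∈ (C.support : Set X) := (SDiv28.CartierPart.isGenericPoint_gen C).mem
  obtain ⟨i, hi⟩ := Set.mem_iUnion.1 (hs (Scheme.IdealSheafData.support_antitone hle hg))
  refine ⟨i, ?_⟩
  haveI := (hD i).1
  rw [support_eq_closure_gen (D i)] at hi
  have hsp : SDiv28.CartierPart.gen (D i) ⤳ SDiv28.CartierPart.gen C := specializes_iff_mem_closure.2 hi
  have h1 := ptDim_gen k hC.2
  have h2 := ptDim_gen k (hD i).2
  have he := DimLib.eq_of_specializes_of_ptDim_le (X ↘ Spec (CommRingCat.of k)) hsp (by omega)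
  rw [VarietyLib.eq_clI_of_isIntegral C, VarietyLib.eq_clI_of_isIntegral (D i)]
  exact congrArg AssSch12.clI he.symm

omit [IsAlgClosed k] [IsIntegral X] hreg in
theorem B_prod_pow {ι : Type*} [Fintype ι] (c : ι → InvCl X) (a b : ι → ℕ) :
    B k (∏ i, c i ^ a i) (∏ i, c i ^ b i) = ∑ i, ∑ j, (a i : ℤ) * (b j : ℤ) * B k (c i) (c j) := by
  classical
  have key : ∀ (x : InvCl X) (s : Finset ι) (e : ι → ℕ),
      B k (∏ i ∈ s, c i ^ e i) x = ∑ i ∈ s, (e i : ℤ) * B k (c i) x := fun x s e => by
    induction s using Finset.induction_on with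
    | empty => rw [Finset.prod_empty, Finset.sum_empty, B_one_left k hX.le]
    | insert i s hi ih => rw [Finset.prod_insert hi, Finset.sum_insert hi, B_mul_left k hX.le, ih,
        B_pow_left k hX.le]
  rw [key]
  refine Finset.sum_congr rfl fun i _ => ?_
  rw [B_comm k (c i), key, Finset.mul_sum]
  exact Finset.sum_congr rfl fun j _ => by rw [B_comm k (c j)]; ring

end Groth.Agent.Surf15
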