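import Groth.Agent.Surf15.BundleDual
import Groth.Agent.CommAlg6.DepthOne
import Groth.Agent.CAlgH3.ProjDim
import Groth.Agent.FlatMor12.MiracleScheme

/-!
# Surf15: torsion free sheaves pushed forward from curves to surfaces
-/

set_option autoImplicit false
set_option linter.style.haveILetI false
set_option linter.unusedSectionVars false
set_option backward.isDefEq.respectTransparency.types false

universe u

open CategoryTheory CategoryTheory.Limits AlgebraicGeometry Opposite TopologicalSpace IsLocalRing
open Groth.Agent.Coherent Groth.Agent.PicLib Groth.Agent.AmpleLib Groth.Agent.EulerLib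

namespace Groth.Agent.Surf15

variable {S C : Scheme.{u}}

/-- Embedding dimensions on a regular surface; two is only attained at closed points. -/
theorem spanFinrank_le_two {k : Type u} [Field k] [IsIntegral S] {p : S ⟶ Spec (CommRingCat.of k)}
    [LocallyOfFiniteType p] (hη : DimLib.ptDim p (genericPoint S) = 2) (x : S)
    [IsRegularLocalRing (S.presheaf.stalk x)] :
    (maximalIdeal (S.presheaf.stalk x)).spanFinrank ≤ 2 ∧
      (2 ≤ (maximalIdeal (S.presheaf.stalk x)).spanFinrank → IsClosed ({x} : Set S)) := by
  obtain ⟨hle, hco⟩ := FlatMor12.coheight_add_ptDim p 2 (fun η h => by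
    rw [h (genericPoint S) (genericPoint_specializes η), hη]) x
  have h := IsRegularLocalRing.spanFinrank_maximalIdeal (R := S.presheaf.stalk x)
  rw [ringKrullDim_stalk_eq_coheight, hco] at h
  have h' : (maximalIdeal (S.presheaf.stalk x)).spanFinrank = 2 - DimLib.ptDim p x := by exact_mod_cast h
  exact ⟨by omega, fun h2 => (DimLib.ptDim_eq_zero_iff p x).1 (by omega)⟩

/-- Stalks of torsion free sheaves pushed from a curve have positive depth at closed points. -/
theorem maximalIdeal_notMem_associatedPrimes_push [IsLocallyNoetherian S] [IsIntegral C] (j : C ⟶ S) [IsClosedImmersion j]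
    (hC : topologicalKrullDim C = 1) (M : C.Modules) (hM : TorSh.IsTorsionFree M) (x : S)
    (hx : IsClosed ({x} : Set S)) :
    maximalIdeal (S.presheaf.stalk x) ∉
      associatedPrimes (S.presheaf.stalk x) (((Coh.push j).obj M).presheaf.stalk x) := by
  intro hm
  obtain ⟨-, z, hz⟩ := (isAssociatedPrime_iff (R := S.presheaf.stalk x)).1 hm
  have hz0 : z ≠ 0 := fun h => (maximalIdeal.isMaximal (S.presheaf.stalk x)).ne_top <| by
    rw [hz, h]; exact eq_top_iff.2 fun r _ => by simp [Submodule.mem_colon_singleton]
  by_cases hxr : x ∈ Set.range j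
  swap
  · have hbij := CycLib28.pushGerm_bijective j j.isClosedMap M Set.univ isClosed_univ
      (fun z hz => absurd (Set.mem_univ z) hz) x ∅
      (fun z => ⟨fun hz => absurd hz (Finset.notMem_empty z), fun hz => absurd ⟨z, hz.2⟩ hxr⟩)
      (fun _ => ⊤) (fun _ _ => trivial) (fun a ha => absurd ha (Finset.notMem_empty a))
    haveI := hbij.1.subsingleton
    exact hz0 (Subsingleton.elim _ _)
  obtain ⟨c, rfl⟩ := hxr
  have hpush := pushGerm_bijective_imm j M c
  set v := CycLib28.pushGerm j M (j c) c rfl z
  have hv : v ≠ 0 := fun h => hz0 (hpush.1 (h.trans (map_zero _).symm))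
  haveI : Module.IsTorsionFree (C.presheaf.stalk c) (M.presheaf.stalk c) := hM c
  have hfield : IsField (C.presheaf.stalk c) := by
    rw [IsLocalRing.isField_iff_maximalIdeal_eq, eq_bot_iff]
    intro a ha
    obtain ⟨r, rfl⟩ := j.stalkMap_surjective c a
    have hr : r ∈ maximalIdeal (S.presheaf.stalk (j c)) := by
      rw [IsLocalRing.mem_maximalIdeal, mem_nonunits_iff] at ha ⊢
      exact fun h => ha (h.map _)
    rw [hz, Submodule.mem_colon_singleton, Submodule.mem_bot] at hr
    have h2 : (j.stalkMap c).hom r • v = 0 := by
      have h3 := CycLib28.pushGerm_smul j M (j c) c rfl r z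
      rw [TopCat.Presheaf.stalkSpecializes_refl, hr, map_zero] at h3
      exact h3.symm
    exact Ideal.mem_bot.2 ((smul_eq_zero.1 h2).resolve_right hv)
  have hgen : genericPoint C = c := by
    haveI : Subsingleton (PrimeSpectrum (C.presheaf.stalk c)) := by
      have h : ∀ q : PrimeSpectrum (C.presheaf.stalk c), q.asIdeal = ⊥ := fun q => by
        letI := hfield.toField
        exact (Ideal.eq_bot_or_top q.asIdeal).resolve_right q.isPrime.ne_top
      exact ⟨fun a b => PrimeSpectrum.ext ((h a).trans (h b).symm)⟩
    have h1 : genericPoint C ∈ Set.range (C.fromSpecStalk c) := by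
      rw [Scheme.range_fromSpecStalk]; exact genericPoint_specializes c
    obtain ⟨a, ha⟩ := h1
    obtain ⟨b, hb⟩ : c ∈ Set.range (C.fromSpecStalk c) := by
      rw [Scheme.range_fromSpecStalk]; exact specializes_refl c
    exact ha.symm.trans ((congrArg _ (Subsingleton.elim (α := PrimeSpectrum (C.presheaf.stalk c)) a b)).trans hb)
  have hc : IsClosed ({c} : Set C) := by
    have h1 := hx.preimage j.continuous
    rwa [show j ⁻¹' {j c} = ({c} : Set C) from Set.ext fun z =>
      ⟨fun h => j.isClosedEmbedding.injective h, fun h => congrArg j h⟩] at h1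
  haveI : Subsingleton C := ⟨fun a b => by
    have h1 : ∀ a : C, a = c := fun a => by
      have := hc.closure_eq ▸ specializes_iff_mem_closure.1 (hgen ▸ genericPoint_specializes a)
      simpa using this
    rw [h1 a, h1 b]⟩
  have h0 : topologicalKrullDim C ≤ 0 := topologicalKrullDim_zero_of_discreteTopology C
  rw [hC] at h0
  exact absurd h0 (by norm_num)

end Groth.Agent.Surf15
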