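import Groth.Agent.Surf15.SerreDual

/-!
# Surf15: Serre duality with the canonical module on smooth projective surfaces, main theorem
-/

set_option autoImplicit false
set_option linter.style.haveILetI false
set_option linter.unusedSectionVars false
set_option maxHeartbeats 1000000
set_option synthInstance.maxHeartbeats 200000
set_option backward.isDefEq.respectTransparency.types false

universe u

open CategoryTheory CategoryTheory.Abelian CategoryTheory.Limits AlgebraicGeometry Opposite TopologicalSpace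
open Groth.Agent.Coherent Groth.Agent.PicLib Groth.Agent.AmpleLib Groth.Agent.EulerLib
open Groth.Agent.CurveRR24

namespace Groth.Agent.Surf15

theorem subsingleton_of_dual {k V : Type*} [Field k] [AddCommGroup V] [Module k V]
    (h : Subsingleton (Module.Dual k V)) : Subsingleton V := (Module.subsingleton_dual_iff k).1 h

theorem nontrivial_dual {k V : Type*} [Field k] [AddCommGroup V] [Module k V]
    (h : Nontrivial V) : Nontrivial (Module.Dual k V) := (Module.nontrivial_dual_iff k).2 h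

variable {X : Scheme.{u}} (k : Type u) [Field k] [X.Over (Spec (CommRingCat.of k))]
  [IsProper (X ↘ Spec (CommRingCat.of k))]

include k in
/-- The Euler characteristic in dimension at most two. -/
theorem euler_three (hX : topologicalKrullDim X ≤ ((2 : ℕ) : WithBot ℕ∞)) {M : X.Modules} (hM : Coh.IsQCoh M) :
    Curv2.euler k X M = (Module.finrank k (Coh.HH X M 0) : ℤ) - (Module.finrank k (Coh.HH X M 1) : ℤ) +
      (Module.finrank k (Coh.HH X M 2) : ℤ) := by
  haveI := isNoetherian_of_proper (X := X) k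
  haveI := isSeparated_of_proper (X := X) k
  haveI := hM
  rw [euler_eq_sum k X M 2 (fun q hq => subsingleton_HH_of_dim M hX hq)]
  simp only [Finset.sum_range_succ, Finset.sum_range_zero, zero_add, pow_zero, pow_one, one_mul]
  ring

section Mono

variable [IsIntegral X] (hX : topologicalKrullDim X ≤ ((2 : ℕ) : WithBot ℕ∞))
  {ω : X.Modules} {t : Coh.HH X ω 2 →ₗ[k] k} (hrep : ∀ F : X.Modules, Coh.IsQCoh F → SerreDual.Rep t F)
include hX hrep

theorem hom_eq_zero_of_app (hω : Coh.IsQCoh ω) {F : X.Modules}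
    (hF : Coh.IsCoh F) (φ : F ⟶ ω) {V : X.Opens} (hV : (V : Set X).Nonempty)
    (h : ∀ W : X.Opens, W ≤ V → ∀ a : Γ(F, W), φ.app W a = 0) : φ = 0 := by
  haveI := isNoetherian_of_proper (X := X) k
  haveI := isSeparated_of_proper (X := X) k
  haveI := hω
  haveI := hF.1
  have hq : Coh.IsQCoh (Abelian.image φ) := isQCoh_image φ
  have hη : genericPoint X ∉ ((V : Set X)ᶜ) := fun h' =>
    h' ((genericPoint_spec X).mem_open_set_iff V.2 |>.2 (by simpa using hV))
  have hsupp : CohB1.support (Abelian.image φ) ⊆ (V : Set X)ᶜ := by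
    intro z hz hzV
    refine hz (subsingleton_of_forall_eq 0 fun a => ?_)
    obtain ⟨w, rfl⟩ := (ModuleCat.epi_iff_surjective
      ((DerSch.stalkFunctor X z).map (Abelian.factorThruImage φ))).1 inferInstance a
    apply (ModuleCat.mono_iff_injective ((DerSch.stalkFunctor X z).map (Abelian.image.ι φ))).1 inferInstance
    refine Eq.trans ?_ (map_zero ((DerSch.stalkFunctor X z).map (Abelian.image.ι φ)).hom).symm
    rw [← ConcreteCategory.comp_apply, ← CategoryTheory.Functor.map_comp, Abelian.image.fac]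
    obtain ⟨W, hW, s, rfl⟩ := TopCat.Presheaf.exists_germ_eq F.presheaf w
    rw [← TopCat.Presheaf.germ_res_apply F.presheaf (homOfLE (inf_le_left : W ⊓ V ≤ W)) z ⟨hW, hzV⟩ s]
    refine (stalk_map_germ φ (W := W ⊓ V) ⟨hW, hzV⟩ _).trans ?_
    exact (congrArg _ (h _ inf_le_right _)).trans (map_zero _)
  haveI : Subsingleton (Coh.HH X (Abelian.image φ) 2) :=
    subsingleton_HH_of_support (X := X) ⟨_, V.2.isClosed_compl⟩ _ hq hsupp 2
      (dim_lt_of_notMem V.2.isClosed_compl (Set.subset_univ _) isClosed_univ (genericPoint_spec X) hη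
        ((Topology.IsInducing.subtypeVal.topologicalKrullDim_le).trans hX))
  have h0 : Abelian.image.ι φ = 0 := (hrep _ hq).1 <| LinearMap.ext fun x => by
    rw [Subsingleton.elim x 0, map_zero, map_zero]
  rw [← Abelian.image.fac φ, h0, comp_zero]

/-- Nonzero maps from invertible modules to the dualizing module are injective. -/
theorem mono_of_ne_zero (hω : Coh.IsQCoh ω) {M : X.Modules}
    (hM : PicF.IsInvertible M) (φ : M ⟶ ω) (hne : φ ≠ 0) : Mono φ := by
  refine SerreDual.mono_of_app_injective φ fun V => (injective_iff_map_eq_zero _).2 fun s hs => ?_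
  refine sec_ext M s 0 fun y hy => ?_
  obtain ⟨U, hyU, e, he⟩ := exists_isGen hM y
  refine ⟨V ⊓ U, inf_le_left, ⟨hy, hyU⟩, ?_⟩
  rw [map_zero]
  obtain ⟨c, hc⟩ := (he (V ⊓ U) inf_le_right).2 (resM M inf_le_left s)
  beta_reduce at hc
  rcases eq_or_ne c 0 with rfl | hc0
  · rw [← hc, zero_smul]
  exfalso
  haveI := isNoetherian_of_proper (X := X) k
  refine hne (hom_eq_zero_of_app k hX hrep hω (isCoh_of_isInvertible k hM) φ (V := X.basicOpen c) ?_ ?_)
  · refine Set.nonempty_iff_ne_empty.2 fun h => hc0 ?_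
    exact (basicOpen_eq_bot_iff c).1 (Opens.ext h)
  intro W hW a
  have hWVU : W ≤ V ⊓ U := hW.trans (X.basicOpen_le c)
  obtain ⟨r, hr⟩ := (he W (hWVU.trans inf_le_right)).2 a
  beta_reduce at hr
  have hu : IsUnit (res hWVU c) := by
    have h1 := (RingedSpace.isUnit_res_basicOpen X.toRingedSpace c).map (res hW)
    exact (PicLib.res_res (X.basicOpen_le c) hW c) ▸ h1
  obtain ⟨v, hv⟩ := hu.exists_left_inv
  have h1 : φ.app W (res hWVU c • resM M (hWVU.trans inf_le_right) e) = 0 := by
    rw [← resM_resM M (inf_le_right : V ⊓ U ≤ U) hWVU e, ← resM_smul, hc, resM_resM, app_resM, hs, map_zero]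
  rw [← hr, Scheme.Modules.Hom.app_smul]
  rw [Scheme.Modules.Hom.app_smul] at h1
  have h2 := congrArg (v • ·) h1
  simp only [smul_smul, hv, one_smul, smul_zero] at h2
  rw [h2, smul_zero]

theorem finrank_h0_twist_dualizing {L N : X.Modules} (hL : PicF.IsInvertible L) (hN : PicF.IsInvertible N)
    (e : CohB1.tensorMod L N ≅ Coh.structureModule X) :
    Module.finrank k (Coh.HH X (CohB1.tensorMod ω N) 0) = Module.finrank k (Coh.HH X L 2) := by
  haveI := isNoetherian_of_proper (X := X) k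
  have hLc := isCoh_of_isInvertible k hL
  haveI := finite_HH_of_isCoh k hLc 2
  let d := SerreDual.dualEquiv t (hrep L hLc.1)
  haveI : Module.Finite k (L ⟶ ω) := Module.Finite.equiv d.symm
  exact (SerreDual.finrank_hom_eq k ω hL hN e).2.trans (d.finrank_eq.trans Subspace.dual_finrank_eq)

end Mono

variable [IsAlgClosed k] [IsIntegral X] [Smooth (X ↘ Spec (CommRingCat.of k))]
  (hX : topologicalKrullDim X = ((2 : ℕ) : WithBot ℕ∞))
  {W : X.Modules} (hW : ExtPow.IsExtPow 2 (Omega.sheaf (X ↘ Spec (CommRingCat.of k))) W)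
  (hWi : PicF.IsInvertible W)
include hX hW hWi

/-- Riemann–Roch is symmetric. -/
theorem chiCl_symm {a g : InvCl X} (h : a * g = 1) :
    chiCl k (Coh.structureModule X) (InvCl.mk W hWi * g) = chiCl k (Coh.structureModule X) a := by
  have h1 := riemannRoch_cl k hX hW hWi (InvCl.mk W hWi * g)
  have h2 := riemannRoch_cl k hX hW hWi a
  have ha := fun d => B_inv_left k hX.le h d
  simp only [B_mul_left k hX.le, B_mul_right k hX.le] at h1
  have e1 := ha (InvCl.mk W hWi)
  have e2 := ha g
  have e3 := ha a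
  rw [B_comm k a g] at e2
  rw [B_comm k g (InvCl.mk W hWi)] at e1 h1
  linarith

/-- **The canonical module of a smooth projective surface is dualizing.** -/
theorem exists_dualizing_canonical :
    ∃ t : Coh.HH X W 2 →ₗ[k] k, ∀ F : X.Modules, Coh.IsQCoh F → SerreDual.Rep t F := by
  haveI := isNoetherian_of_proper (X := X) k
  haveI := isSeparated_of_proper (X := X) k
  have hreg := smooth_regular k hX
  obtain ⟨H, hH⟩ := exists_ample k hX hreg
  obtain ⟨ω, t, hω, hrep⟩ := SerreDual.exists_coh_dualizing (k := k) hH hX.le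
  have hWc := isCoh_of_isInvertible k hWi
  haveI := hWc.1
  haveI := hω.1
  -- a nonzero map
  have hnt : Nontrivial (W ⟶ ω) := by
    have h2 := nontrivial_dual (k := k) (nontrivial_h2_canonical k hX hW hWi)
    exact @Equiv.nontrivial _ _ (SerreDual.dualEquiv t (hrep W hWc.1)).toEquiv h2
  obtain ⟨φ, hφ⟩ := exists_ne (0 : W ⟶ ω)
  haveI := mono_of_ne_zero k hX.le hrep hω.1 hWi φ hφ
  let S := ShortComplex.mk φ (cokernel.π φ) (cokernel.condition φ)
  have hS : S.ShortExact := { exact := ShortComplex.exact_cokernel φ }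
  have hQ : Coh.IsCoh (cokernel φ) := isCoh_cokernel φ hWc.1 hω
  -- vanishing
  obtain ⟨n₁, hn₁⟩ := Coherent.Serre.exists_subsingleton_HH_twist k hH ω hω
  obtain ⟨n₂, hn₂⟩ := Coherent.Serre.exists_subsingleton_HH_twist k hH (cokernel φ) hQ
  obtain ⟨n₃, hn₃⟩ := eventually_globallyGenerated hH (cokernel φ) hQ
  obtain ⟨m, hm₁, hm₂, hm₃, hm0⟩ : ∃ m, n₁ ≤ m ∧ n₂ ≤ m ∧ n₃ ≤ m ∧ 1 ≤ m :=
    ⟨n₁ + n₂ + n₃ + 1, by omega, by omega, by omega, by omega⟩
  have hHm := isInvertible_tensorPow hH.1 m
  set Hm := CohB1.tensorPow H m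
  obtain ⟨g, hg⟩ := exists_inv (InvCl.mk Hm hHm)
  obtain ⟨G, hG, rfl⟩ := InvCl.exists_rep g
  obtain ⟨eG⟩ : Nonempty (CohB1.tensorMod G Hm ≅ Coh.structureModule X) := by
    have h1 := (InvCl.mk_mul hG hHm).symm.trans ((mul_comm _ _).trans hg)
    exact Quotient.exact h1
  -- the sections of the negative power vanish
  have hhh : 0 < B k (InvCl.mk H hH.1) (InvCl.mk H hH.1) := B_ample_pos k hX hH hH
  have hGH : B k (InvCl.mk G hG) (InvCl.mk H hH.1) < 0 := by
    have h1 := B_inv_left k hX.le ((mul_comm _ _).trans hg) (InvCl.mk H hH.1)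
    rw [InvCl.mk_tensorPow hH.1 m, B_pow_left k hX.le] at h1
    have : (1 : ℤ) ≤ m := by exact_mod_cast hm0
    nlinarith
  have hG0 : Subsingleton (Coh.HH X G 0) := by
    by_contra hc
    obtain ⟨s, hs⟩ := exists_section_ne_zero k (not_subsingleton_iff_nontrivial.1 hc)
    rcases B_sec k hX hG hs hH with h | he
    · omega
    · rw [InvCl.mk_eq hG isInvertible_structureModule he.some,
        show InvCl.mk (Coh.structureModule X) isInvertible_structureModule = 1 from rfl] at hGH
      have h1 := B_mul_left k hX.le 1 1 (InvCl.mk H hH.1)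
      rw [one_mul] at h1
      omega
  have hCM : ∀ x : X, IsClosed ({x} : Set X) →
      LocCoh.IsCohenMacaulayLocalRing (X.presheaf.stalk x) ∧ ringKrullDim (X.presheaf.stalk x) = (2 : ℕ) :=
    fun x hx => ⟨haveI := hreg x; CAlgH3.isCohenMacaulayLocalRing_of_regular _,
      ringKrullDim_stalk_closed k (dim_components k hX) hx⟩
  have hG1 : Subsingleton (Coh.HH X G 1) := by
    obtain ⟨e⟩ := (SerreDual.duality_cm (k := k) hH hX.le hCM hω t (fun F hF => hrep F hF.1) G
      (isCoh_of_isInvertible k hG) 1).1 1 rfl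
    have h1 := SerreDual.subsingleton_ext_of_invertible hG hHm eG ω 1 (hn₁ m hm₁ 1 one_pos)
    exact subsingleton_of_dual (k := k) e.symm.toEquiv.subsingleton
  -- the two Euler characteristics agree
  have hωm : Coh.IsCoh (CohB1.tensorMod ω Hm) := EulerLib.isCoh_twist hHm hω
  have hQm : Coh.IsCoh (CohB1.tensorMod (cokernel φ) Hm) := EulerLib.isCoh_twist hHm hQ
  have hWm : PicF.IsInvertible (CohB1.tensorMod W Hm) := isInvertible_tensorMod hWi hHm
  have hadd := euler_additive k X _ (twistSeq_shortExact hHm hS) (isCoh_of_isInvertible k hWm) hωm hQm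
  change Curv2.euler k X (CohB1.tensorMod ω Hm) = Curv2.euler k X (CohB1.tensorMod W Hm) +
    Curv2.euler k X (CohB1.tensorMod (cokernel φ) Hm) at hadd
  have hsymm := chiCl_symm k hX hW hWi (a := InvCl.mk G hG) (g := InvCl.mk Hm hHm) ((mul_comm _ _).trans hg)
  rw [InvCl.mk_mul hWi hHm, ← euler_eq_chiCl k hX.le hWm, ← euler_eq_chiCl k hX.le hG] at hsymm
  rw [hsymm, euler_three k hX.le hωm.1, euler_three k hX.le (isQCoh_of_isInvertible hG),
    euler_three k hX.le hQm.1, finrank_h0_twist_dualizing k hX.le hrep hG hHm eG] at hadd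
  haveI := hn₁ m hm₁ 1 one_pos
  haveI := hn₁ m hm₁ 2 two_pos
  haveI := hn₂ m hm₂ 1 one_pos
  haveI := hn₂ m hm₂ 2 two_pos
  haveI := hG0
  haveI := hG1
  rw [Module.finrank_zero_of_subsingleton (M := Coh.HH X (CohB1.tensorMod ω Hm) 1),
    Module.finrank_zero_of_subsingleton (M := Coh.HH X (CohB1.tensorMod ω Hm) 2),
    Module.finrank_zero_of_subsingleton (M := Coh.HH X (CohB1.tensorMod (cokernel φ) Hm) 1),
    Module.finrank_zero_of_subsingleton (M := Coh.HH X (CohB1.tensorMod (cokernel φ) Hm) 2),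
    Module.finrank_zero_of_subsingleton (M := Coh.HH X G 0),
    Module.finrank_zero_of_subsingleton (M := Coh.HH X G 1)] at hadd
  simp only [Nat.cast_zero] at hadd
  haveI := finite_HH_of_isCoh k hQm 0
  have hQ0 : Subsingleton (Coh.HH X (CohB1.tensorMod (cokernel φ) Hm) 0) :=
    (Module.finrank_zero_iff (R := k)).1 (by omega)
  have hz : IsZero (CohB1.tensorMod (cokernel φ) Hm) := by
    refine isZero_of_globallyGenerated (hn₃ m hm₃) ?_
    exact (SerreDual.homUnitHH k _).toEquiv.subsingleton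
  have hQz : IsZero (cokernel φ) := by
    obtain ⟨a⟩ := exists_assocIso' (cokernel φ) hHm hG
    exact IsZero.of_iso (isZero_tensorMod hz G) ((unitTensorIso _).symm ≪≫ tensorComm _ _ ≪≫
      AmpleLib.tensorIso (Iso.refl _) ((tensorComm Hm G ≪≫ eG).symm) ≪≫ a.symm)
  haveI : Epi φ := Preadditive.epi_of_isZero_cokernel φ hQz
  haveI := isIso_of_mono_of_epi φ
  refine ⟨t ∘ₗ SerreDual.hmap k φ 2, fun F hF => ?_⟩
  refine ⟨fun a b hab => ?_, fun ψ => ?_⟩
  · refine (cancel_mono φ).1 ((hrep F hF).1 ?_)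
    show t ∘ₗ SerreDual.hmap k (a ≫ φ) 2 = t ∘ₗ SerreDual.hmap k (b ≫ φ) 2
    rw [SerreDual.hmap_comp, SerreDual.hmap_comp, ← LinearMap.comp_assoc, ← LinearMap.comp_assoc]
    exact hab
  · obtain ⟨a, ha⟩ := (hrep F hF).2 ψ
    refine ⟨a ≫ inv φ, ?_⟩
    show (t ∘ₗ SerreDual.hmap k φ 2) ∘ₗ SerreDual.hmap k (a ≫ inv φ) 2 = ψ
    rw [LinearMap.comp_assoc, ← SerreDual.hmap_comp, Category.assoc, IsIso.inv_hom_id, Category.comp_id]
    exact ha

/-- **Serre duality** for invertible modules on a smooth projective surface. -/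
theorem serre_duality {L N : X.Modules} (hL : PicF.IsInvertible L) (hN : PicF.IsInvertible N)
    (e : CohB1.tensorMod L N ≅ Coh.structureModule X) :
    Module.finrank k (Coh.HH X L 2) = Module.finrank k (Coh.HH X (CohB1.tensorMod W N) 0) ∧
      Module.finrank k (Coh.HH X L 1) = Module.finrank k (Coh.HH X (CohB1.tensorMod W N) 1) ∧
      Module.finrank k (Coh.HH X L 0) = Module.finrank k (Coh.HH X (CohB1.tensorMod W N) 2) := by
  haveI := isNoetherian_of_proper (X := X) k
  obtain ⟨t, ht⟩ := exists_dualizing_canonical k hX hW hWi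
  have h2 : ∀ {L N : X.Modules}, PicF.IsInvertible L → PicF.IsInvertible N →
      (CohB1.tensorMod L N ≅ Coh.structureModule X) →
      Module.finrank k (Coh.HH X L 2) = Module.finrank k (Coh.HH X (CohB1.tensorMod W N) 0) :=
    fun hL hN e => (finrank_h0_twist_dualizing k hX.le ht hL hN e).symm
  -- the adjoint twist and its inverse
  have hM : PicF.IsInvertible (CohB1.tensorMod W N) := isInvertible_tensorMod hWi hN
  have hgN : InvCl.mk L hL * InvCl.mk N hN = 1 := by
    rw [InvCl.mk_mul hL hN]; exact InvCl.mk_eq _ _ e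
  obtain ⟨v, hv⟩ := exists_inv (InvCl.mk W hWi)
  obtain ⟨V, hV, rfl⟩ := InvCl.exists_rep v
  have hVL : PicF.IsInvertible (CohB1.tensorMod L V) := isInvertible_tensorMod hL hV
  have hinv : InvCl.mk _ hM * InvCl.mk _ hVL = 1 := by
    rw [← InvCl.mk_mul hWi hN, ← InvCl.mk_mul hL hV]
    calc _ = (InvCl.mk W hWi * InvCl.mk V hV) * (InvCl.mk L hL * InvCl.mk N hN) := by ac_rfl
      _ = 1 := by rw [hv, hgN, mul_one]
  obtain ⟨e'⟩ : Nonempty (CohB1.tensorMod (CohB1.tensorMod W N) (CohB1.tensorMod L V) ≅ Coh.structureModule X) :=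
    Quotient.exact ((InvCl.mk_mul hM hVL).symm.trans hinv)
  have h0 : Module.finrank k (Coh.HH X (CohB1.tensorMod W N) 2) = Module.finrank k (Coh.HH X L 0) := by
    rw [h2 hM hVL e']
    have hback : InvCl.mk _ (isInvertible_tensorMod hWi hVL) = InvCl.mk L hL := by
      rw [← InvCl.mk_mul hWi hVL, ← InvCl.mk_mul hL hV]
      calc _ = InvCl.mk L hL * (InvCl.mk W hWi * InvCl.mk V hV) := by ac_rfl
        _ = _ := by rw [hv, mul_one]
    obtain ⟨eb⟩ : Nonempty (CohB1.tensorMod W (CohB1.tensorMod L V) ≅ L) := Quotient.exact hback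
    exact (HHCongr k eb 0).finrank_eq
  have hχ := chiCl_symm k hX hW hWi (a := InvCl.mk L hL) (g := InvCl.mk N hN) hgN
  rw [InvCl.mk_mul hWi hN, ← euler_eq_chiCl k hX.le hM, ← euler_eq_chiCl k hX.le hL,
    euler_three k hX.le (isQCoh_of_isInvertible hM), euler_three k hX.le (isQCoh_of_isInvertible hL),
    h0, h2 hL hN e] at hχ
  exact ⟨h2 hL hN e, by omega, h0.symm⟩

end Groth.Agent.Surf15
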