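import Groth.Agent.Surf15.Divisor
import Groth.Agent.CurveRR24.Degree
import Groth.Agent.CurveRR24.AlgClosed
import Groth.Agent.SerreDual.CurveAmple
import Groth.Agent.Inters29.PrimeDiv
import Groth.Agent.Surf15.FiniteInter
import Groth.Agent.ModPairLib.Colon
import Mathlib.CategoryTheory.Abelian.DiagramLemmas.KernelCokernelComp

/-!
# Surf15: cycles on surfaces — the decomposition sequence and the curves of a divisor

For effective Cartier divisors `A`, `E` there is a short exact sequence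
`0 → O_E(-A) → O_{A+E} → O_A → 0`.
-/

set_option autoImplicit false
set_option linter.style.haveILetI false
set_option backward.isDefEq.respectTransparency.types false

universe u

open CategoryTheory CategoryTheory.Limits AlgebraicGeometry Opposite TopologicalSpace IsLocalRing
open Groth.Agent.Coherent Groth.Agent.PicLib Groth.Agent.AmpleLib Groth.Agent.EulerLib
open Groth.Agent.CurveRR24 Groth.Agent.DimLib Groth.Agent.AssSch12 Groth.Agent.Misc15.DivDescent

namespace Groth.Agent.Surf15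

variable {X : Scheme.{u}}

/-- The product of two effective Cartier ideals as a tensor product, compatibly with the inclusions. -/
theorem exists_mul_iso (I J : X.IdealSheafData) (hI : BlowUp.IsEffCartierIdeal I)
    (hJ : BlowUp.IsEffCartierIdeal J) :
    ∃ e : CohB1.tensorMod (ClSub.idealMod I) (ClSub.idealMod J) ≅ ClSub.idealMod (I * J),
      e.hom ≫ ClSub.idealModι (I * J) = twistMul I (ClSub.idealMod J) ≫ ClSub.idealModι J := by
  let ψ : CohB1.tensorMod (ClSub.idealMod I) (ClSub.idealMod J) ⟶ Coh.structureModule X :=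
    twistMul I (ClSub.idealMod J) ≫ ClSub.idealModι J
  have hloc : ∀ x : X, ∃ (V : X.Opens) (t : Γ(CohB1.tensorMod (ClSub.idealMod I) (ClSub.idealMod J), V))
      (k' : Γ(ClSub.idealMod (I * J), V)), x ∈ V ∧ IsGen _ V t ∧ IsGen (ClSub.idealMod (I * J)) V k' ∧
        (ClSub.idealModι (I * J)).app V k' = ψ.app V t := by
    intro x
    obtain ⟨U, hxU, f, hf, hfI⟩ := hI x
    obtain ⟨V, hxV, hVU, g, hg, hgJ⟩ := ModPairLib.exists_local hJ x U.1 hxU
    let f' : Γ(X, V.1) := PicLib.res hVU f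
    have hf' : f' ∈ nonZeroDivisors Γ(X, V.1) := ModPairLib.res_mem_nonZeroDivisors hVU hf
    have hfI' : I.ideal V = Ideal.span {f'} := ModPairLib.ideal_restrict I hVU hfI
    obtain ⟨k, hk, hkf⟩ := Inters29.exists_gen_idealMod I V hf' hfI'
    obtain ⟨l, hl, hlg⟩ := Inters29.exists_gen_idealMod J V hg hgJ
    have hfg : (I * J).ideal V = Ideal.span {f' * g} := by
      rw [Scheme.IdealSheafData.ideal_mul, Pi.mul_apply, hfI', hgJ, Ideal.span_singleton_mul_span_singleton]
    obtain ⟨k', hk', hk'f⟩ := Inters29.exists_gen_idealMod (I * J) V (mul_mem hf' hg) hfg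
    refine ⟨V.1, tmul k l, k', hxV, isGen_tmul hk hl, hk', ?_⟩
    rw [hk'f]
    show f' * g = (ClSub.idealModι J).app V.1 ((twistMul I (ClSub.idealMod J)).app V.1 (tmul k l))
    rw [twistMul_tmul, Scheme.Modules.Hom.app_smul, hkf, hlg]
    rfl
  choose V t k' hxV ht hk' hψk using hloc
  haveI := AmpleLib.mono_idealModι (I * J)
  have hcov : iSup V = ⊤ := top_le_iff.1 fun y _ => Opens.mem_iSup.2 ⟨y, hxV y⟩
  obtain ⟨e, he⟩ := AmpleLib.exists_iso_of_gens V hcov t ht k' hk' (fun a b W ha hb c hc => by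
      apply Coherent.app_injective_of_mono (ClSub.idealModι (I * J)) W
      rw [Scheme.Modules.Hom.app_smul, app_resM, app_resM, hψk, hψk, ← app_resM, ← app_resM,
        ← Scheme.Modules.Hom.app_smul, hc])
  refine ⟨e, PicLib.hom_ext_gen V hcov t ht _ _ fun x => ?_⟩
  show (ClSub.idealModι (I * J)).app (V x) (e.hom.app (V x) (t x)) = _
  rw [he x, hψk x]

/-- `0 → O_E(-A) → O_{A+E} → O_A → 0`. -/
theorem exists_ses {A E : X.IdealSheafData} (hA : BlowUp.IsEffCartierIdeal A)
    (hE : BlowUp.IsEffCartierIdeal E) :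
    ∃ S : ShortComplex X.Modules, S.ShortExact ∧
      Nonempty (S.X₁ ≅ CohB1.tensorMod (ClSub.quotMod E) (ClSub.idealMod A)) ∧
      Nonempty (S.X₂ ≅ ClSub.quotMod (A * E)) ∧ Nonempty (S.X₃ ≅ ClSub.quotMod A) := by
  have hIA := FlatMor12.IdealModGen.isInvertible_idealMod A hA
  let f := twistMul E (ClSub.idealMod A)
  let g := ClSub.idealModι A
  let T := twistSeq (ShortComplex.mk (ClSub.idealModι E) (ClSub.toSubscheme E)
    (kernel.condition (ClSub.toSubscheme E))) (ClSub.idealMod A)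
  have hT : T.ShortExact := twistSeq_shortExact hIA (shortExact_ideal E)
  have e1 : cokernel f ≅ CohB1.tensorMod (ClSub.quotMod E) (ClSub.idealMod A) :=
    cokernelCompIsIso T.f (unitTensorIso (ClSub.idealMod A)).hom ≪≫
      (colimit.isColimit _).coconePointUniqueUpToIso hT.gIsCokernel
  have e3 : cokernel g ≅ ClSub.quotMod A :=
    (colimit.isColimit _).coconePointUniqueUpToIso (shortExact_ideal A).gIsCokernel
  obtain ⟨e, he⟩ := exists_mul_iso E A hE hA
  have e2 : cokernel (f ≫ g) ≅ ClSub.quotMod (A * E) :=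
    cokernelIsoOfEq he.symm ≪≫ cokernelEpiComp e.hom _ ≪≫
      (colimit.isColimit _).coconePointUniqueUpToIso (shortExact_ideal (E * A)).gIsCokernel ≪≫
        eqToIso (congrArg ClSub.quotMod (mul_comm E A))
  let S := kernelCokernelCompSequence.snakeInput f g
  haveI : Mono g := AmpleLib.mono_idealModι A
  haveI : Mono S.L₃.f := by
    refine S.L₂'_exact.mono_g (IsZero.eq_of_src ?_ _ _)
    exact KernelFork.IsLimit.isZero_of_mono (limit.isLimit _)
  haveI : Epi S.L₂.g := inferInstanceAs (Epi (biprod.snd : ClSub.idealMod A ⊞ Coh.structureModule X ⟶ Coh.structureModule X))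
  haveI : Epi S.L₃.g := S.epi_L₃_g
  exact ⟨S.L₃, { exact := S.L₃_exact }, ⟨e1⟩, ⟨e2⟩, ⟨e3⟩⟩

variable (k : Type u) [Field k] [X.Over (Spec (CommRingCat.of k))]
  [IsProper (X ↘ Spec (CommRingCat.of k))]

include k in
/-- The twisted sequence `0 → O_E ⊗ L(-A) → O_{A+E} ⊗ L → O_A ⊗ L → 0`. -/
theorem exists_ses_twist {A E : X.IdealSheafData} (hA : BlowUp.IsEffCartierIdeal A)
    (hE : BlowUp.IsEffCartierIdeal E) {L : X.Modules} (hL : PicF.IsInvertible L) :
    ∃ S : ShortComplex X.Modules, S.ShortExact ∧ Coh.IsCoh S.X₁ ∧ Coh.IsCoh S.X₂ ∧ Coh.IsCoh S.X₃ ∧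
      Nonempty (S.X₁ ≅ CohB1.tensorMod (ClSub.quotMod E) (CohB1.tensorMod (ClSub.idealMod A) L)) ∧
      Nonempty (S.X₂ ≅ CohB1.tensorMod (ClSub.quotMod (A * E)) L) ∧
      Nonempty (S.X₃ ≅ CohB1.tensorMod (ClSub.quotMod A) L) := by
  haveI := isNoetherian_of_proper (X := X) k
  obtain ⟨S, hS, ⟨e1⟩, ⟨e2⟩, ⟨e3⟩⟩ := exists_ses hA hE
  have hIA := FlatMor12.IdealModGen.isInvertible_idealMod A hA
  obtain ⟨α⟩ := exists_assocIso' (ClSub.quotMod E) hIA hL
  exact ⟨twistSeq S L, twistSeq_shortExact hL hS,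
    isCoh_twist hL (isCoh_iso e1.symm (isCoh_twist hIA (isCoh_quotMod E))),
    isCoh_twist hL (isCoh_iso e2.symm (isCoh_quotMod _)), isCoh_twist hL (isCoh_iso e3.symm (isCoh_quotMod _)),
    ⟨AmpleLib.tensorIso e1 (Iso.refl L) ≪≫ α⟩, ⟨AmpleLib.tensorIso e2 (Iso.refl L)⟩, ⟨AmpleLib.tensorIso e3 (Iso.refl L)⟩⟩

include k in
theorem h0_ses_twist {A E : X.IdealSheafData} (hA : BlowUp.IsEffCartierIdeal A)
    (hE : BlowUp.IsEffCartierIdeal E) {L : X.Modules} (hL : PicF.IsInvertible L) :
    Module.finrank k (Coh.HH X (CohB1.tensorMod (ClSub.quotMod E) (CohB1.tensorMod (ClSub.idealMod A) L)) 0) ≤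
        Module.finrank k (Coh.HH X (CohB1.tensorMod (ClSub.quotMod (A * E)) L) 0) ∧
      Module.finrank k (Coh.HH X (CohB1.tensorMod (ClSub.quotMod (A * E)) L) 0) ≤
        Module.finrank k (Coh.HH X (CohB1.tensorMod (ClSub.quotMod E) (CohB1.tensorMod (ClSub.idealMod A) L)) 0) +
          Module.finrank k (Coh.HH X (CohB1.tensorMod (ClSub.quotMod A) L) 0) := by
  obtain ⟨S, hS, h1, h2, h3, ⟨e1⟩, ⟨e2⟩, ⟨e3⟩⟩ := exists_ses_twist k hA hE hL
  rw [← finrank_HH_congr k e1 0, ← finrank_HH_congr k e2 0, ← finrank_HH_congr k e3 0]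
  exact h0_le k hS h1 h2 h3

include k in
theorem euler_ses_twist {A E : X.IdealSheafData} (hA : BlowUp.IsEffCartierIdeal A)
    (hE : BlowUp.IsEffCartierIdeal E) {L : X.Modules} (hL : PicF.IsInvertible L) :
    Curv2.euler k X (CohB1.tensorMod (ClSub.quotMod (A * E)) L) =
      Curv2.euler k X (CohB1.tensorMod (ClSub.quotMod E) (CohB1.tensorMod (ClSub.idealMod A) L)) +
        Curv2.euler k X (CohB1.tensorMod (ClSub.quotMod A) L) := by
  obtain ⟨S, hS, h1, h2, h3, ⟨e1⟩, ⟨e2⟩, ⟨e3⟩⟩ := exists_ses_twist k hA hE hL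
  rw [← euler_congr k X e1, ← euler_congr k X e2, ← euler_congr k X e3]
  exact euler_additive k X S hS h1 h2 h3

include k in
/-- Vanishing of `H¹` passes to the total divisor and to the smaller one. -/
theorem h1_ses_twist (hX : topologicalKrullDim X ≤ ((2 : ℕ) : WithBot ℕ∞)) {A E : X.IdealSheafData}
    (hA : BlowUp.IsEffCartierIdeal A) (hE : BlowUp.IsEffCartierIdeal E) {L : X.Modules}
    (hL : PicF.IsInvertible L) :
    (Subsingleton (Coh.HH X (CohB1.tensorMod (ClSub.quotMod E) (CohB1.tensorMod (ClSub.idealMod A) L)) 1) →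
      Subsingleton (Coh.HH X (CohB1.tensorMod (ClSub.quotMod A) L) 1) →
        Subsingleton (Coh.HH X (CohB1.tensorMod (ClSub.quotMod (A * E)) L) 1)) ∧
    (Subsingleton (Coh.HH X (CohB1.tensorMod (ClSub.quotMod (A * E)) L) 1) →
        Subsingleton (Coh.HH X (CohB1.tensorMod (ClSub.quotMod A) L) 1)) := by
  haveI := isNoetherian_of_proper (X := X) k
  haveI := isSeparated_of_proper (X := X) k
  obtain ⟨S, hS, h1, h2, h3, ⟨e1⟩, ⟨e2⟩, ⟨e3⟩⟩ := exists_ses_twist k hA hE hL
  refine ⟨fun hE1 hA1 => subsingleton_HH_congr e2 1 (subsingleton_HH_X₂ hS 1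
    (subsingleton_HH_congr e1.symm 1 hE1) (subsingleton_HH_congr e3.symm 1 hA1)), fun h => ?_⟩
  have hIA := FlatMor12.IdealModGen.isInvertible_idealMod A hA
  have hsupp : CohB1.support S.X₁ ⊆ (E.support : Set X) := by
    rw [Coherent.support_eq_of_iso e1, EulerLib.support_twist (isInvertible_tensorMod hIA hL)]
    exact support_quotMod_subset E
  have h12 : Subsingleton (Coh.HH X S.X₁ 2) := subsingleton_HH_of_support E.support S.X₁ h1.1 hsupp 2
    (lt_of_le_of_lt (VarietyLib.dim_support_le_of_effCartier k (e := 1) hX hE) (by exact_mod_cast Nat.one_lt_two))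
  refine subsingleton_HH_congr e3 1 ?_
  have h' := subsingleton_HH_congr e2.symm 1 h
  rw [subsingleton_HH_iff] at h' h12 ⊢
  refine subsingleton_of_forall_eq 0 fun x => ?_
  obtain ⟨y, rfl⟩ := (exact_postA_deltaA (RingHom.id Γ(X, ⊤)) hS (⊤ : X.Opens) 1 x).1
    (Subsingleton.elim _ _)
  rw [Subsingleton.elim y 0, map_zero]

include k in
/-- Every nonempty effective divisor contains a curve, and the curve splits off. -/
theorem exists_curve [IsIntegral X] (hX : topologicalKrullDim X = ((2 : ℕ) : WithBot ℕ∞))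
    (hreg : ∀ x : X, IsRegularLocalRing (X.presheaf.stalk x)) {Z : X.IdealSheafData}
    (hZ : BlowUp.IsEffCartierIdeal Z) (hZ0 : Z ≠ ⊤) :
    ∃ C : X.IdealSheafData, IsIntegral C.subscheme ∧
      topologicalKrullDim (C.support : Set X) = ((1 : ℕ) : WithBot ℕ∞) ∧
      BlowUp.IsEffCartierIdeal C ∧ Z ≤ C := by
  classical
  haveI := isNoetherian_of_proper (X := X) k
  let p := X ↘ Spec (CommRingCat.of k)
  have hle : ∀ z ∈ (Z.support : Set X), ptDim p z ≤ 1 := fun z hz => by
    have h := (dim_mono (Z.support.isClosed.closure_subset_iff.2 (Set.singleton_subset_iff.2 hz))).trans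
      (VarietyLib.dim_support_le_of_effCartier k (e := 1) hX.le hZ)
    rw [VarietyLib.dim_closure_eq_ptDim k] at h
    exact_mod_cast h
  obtain ⟨z₀, hz₀⟩ := support_nonempty hZ0
  by_cases hex : ∃ z ∈ (Z.support : Set X), ptDim p z = 1
  · obtain ⟨z, hz, hz1⟩ := hex
    haveI := VarietyLib.isIntegral_clI z
    have hd : topologicalKrullDim ((clI z).support : Set X) = ((1 : ℕ) : WithBot ℕ∞) := by
      rw [VarietyLib.support_clI, VarietyLib.dim_closure_eq_ptDim k, hz1]
    refine ⟨clI z, inferInstance, hd, isEffCartier_curve k hX hreg _ hd, ?_⟩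
    refine Scheme.IdealSheafData.le_support_iff_le_vanishingIdeal.1 ?_
    exact Z.support.isClosed.closure_subset_iff.2 (Set.singleton_subset_iff.2 hz)
  · push Not at hex
    exfalso
    have hz0 : ptDim p z₀ = 0 := by
      have := hle z₀ hz₀
      have := hex z₀ hz₀
      omega
    have hcl : IsClosed ({z₀} : Set X) := (ptDim_eq_zero_iff p z₀).1 hz0
    have hdimX : ∀ T ∈ irreducibleComponents (X : Type u), topologicalKrullDim T = 2 := by
      intro T hT
      rw [irreducibleComponents_eq_singleton, Set.mem_singleton_iff] at hT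
      subst hT
      rw [(Homeomorph.Set.univ X).isHomeomorph.topologicalKrullDim_eq, hX]
      rfl
    obtain ⟨g, -, hg⟩ := Misc15.DivDescent.exists_gen hZ z₀
    have hmin : maximalIdeal (X.presheaf.stalk z₀) ∈ (stk Z z₀).minimalPrimes := by
      refine ⟨⟨inferInstance, le_maximalIdeal ((SDiv28.CartierPart.mem_support_iff_stk Z z₀).1 hz₀ |>
        ne_top_of_le_ne_top (maximalIdeal.isMaximal _).ne_top)⟩, fun Q hQ _ => ?_⟩
      have hmem := (Inters29.fromSpecStalk_mem_support_iff Z ⟨Q, hQ.1⟩).2 hQ.2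
      have hsp : X.fromSpecStalk z₀ ⟨Q, hQ.1⟩ ⤳ z₀ := Scheme.range_fromSpecStalk.le ⟨_, rfl⟩
      have e : X.fromSpecStalk z₀ ⟨Q, hQ.1⟩ = z₀ := by
        by_contra hne
        have h1 := ptDim_lt_of_specializes p hsp hne
        have h2 := hle _ hmem
        have h3 := hex _ hmem
        omega
      have := (X.fromSpecStalk z₀).isEmbedding.injective (e.trans Scheme.fromSpecStalk_closedPoint.symm)
      exact (congrArg PrimeSpectrum.asIdeal this).ge
    haveI : (stk Z z₀).IsPrincipal := ⟨g, hg⟩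
    have hht := Ideal.height_le_one_of_isPrincipal_of_mem_minimalPrimes (stk Z z₀) _ hmin
    have h2 := ringKrullDim_stalk_closed k hdimX hcl
    rw [← IsLocalRing.maximalIdeal_height_eq_ringKrullDim] at h2
    have : (maximalIdeal (X.presheaf.stalk z₀)).height = ((2 : ℕ) : ℕ∞) := WithBot.coe_inj.1 h2
    rw [this] at hht
    exact absurd hht (by norm_num)

omit [X.Over (Spec (CommRingCat.of k))] [IsProper (X ↘ Spec (CommRingCat.of k))] in
/-- Restriction to a closed subscheme: `O_C ⊗ L` is the direct image of `L|_C`. -/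
theorem exists_restrict_iso (C : X.IdealSheafData) {L : X.Modules} (hL : PicF.IsInvertible L) :
    Nonempty (CohB1.tensorMod (ClSub.quotMod C) L ≅
      (Coh.push C.subschemeι).obj ((Scheme.Modules.pullback C.subschemeι).obj L)) := by
  have hLF : FlatMod.IsFinLocFree L := fun x =>
    let ⟨U, hx, e⟩ := isFinLocFreeOfRank_one hL x; ⟨U, 1, hx, e⟩
  exact ⟨AmpleLib.tensorComm _ _ ≪≫ (projIso (f := C.subschemeι) hLF).app _ ≪≫
    (Scheme.Modules.pushforward C.subschemeι).mapIso (AmpleLib.tensorComm _ _ ≪≫ unitTensorIso _)⟩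

variable [IsAlgClosed k]

include k in
/-- Line bundles on an integral curve of the surface. -/
theorem curve_facts (C : X.IdealSheafData) [IsIntegral C.subscheme]
    (hd : topologicalKrullDim (C.support : Set X) = ((1 : ℕ) : WithBot ℕ∞)) {L : X.Modules}
    (hL : PicF.IsInvertible L) :
    Module.finrank k (Coh.HH X (ClSub.quotMod C) 0) = 1 ∧
    Curv2.euler k X (ClSub.quotMod C) = 1 - (Module.finrank k (Coh.HH X (ClSub.quotMod C) 1) : ℤ) ∧
    (deg k (ClSub.quotMod C) (InvCl.mk L hL) < 0 →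
      Module.finrank k (Coh.HH X (CohB1.tensorMod (ClSub.quotMod C) L) 0) = 0) ∧
    (deg k (ClSub.quotMod C) (InvCl.mk L hL) ≤ 0 →
      Module.finrank k (Coh.HH X (CohB1.tensorMod (ClSub.quotMod C) L) 0) ≤ 1 ∧
      (Module.finrank k (Coh.HH X (CohB1.tensorMod (ClSub.quotMod C) L) 0) ≠ 0 →
        Nonempty (CohB1.tensorMod (ClSub.quotMod C) L ≅ ClSub.quotMod C))) ∧
    (Subsingleton (Coh.HH X (ClSub.quotMod C) 1) → -1 ≤ deg k (ClSub.quotMod C) (InvCl.mk L hL) →
      Subsingleton (Coh.HH X (CohB1.tensorMod (ClSub.quotMod C) L) 1)) := by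
  haveI := isNoetherian_of_proper (X := X) k
  haveI := isSeparated_of_proper (X := X) k
  let i := C.subschemeι
  letI : C.subscheme.Over (Spec (CommRingCat.of k)) := ⟨i ≫ (X ↘ Spec (CommRingCat.of k))⟩
  haveI : IsProper (C.subscheme ↘ Spec (CommRingCat.of k)) :=
    inferInstanceAs (IsProper (i ≫ (X ↘ Spec (CommRingCat.of k))))
  haveI := isNoetherian_of_proper (X := C.subscheme) k
  have hY : topologicalKrullDim C.subscheme ≤ 1 := by
    rw [i.isClosedEmbedding.isEmbedding.toHomeomorph.isHomeomorph.topologicalKrullDim_eq]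
    exact ((congrArg (fun S : Set X => topologicalKrullDim S) C.range_subschemeι).le.trans hd.le).trans
      (by exact_mod_cast le_rfl)
  let L' := (Scheme.Modules.pullback i).obj L
  have hL' : PicF.IsInvertible L' := PicLoc.isInvertible_pullback i hL
  obtain ⟨e⟩ := exists_restrict_iso C hL
  haveI : Coh.IsQCoh L' := (CurveRR24.isCoh_of_isInvertible k hL').1
  haveI : Coh.IsQCoh (Coh.structureModule C.subscheme) := (isCoh_structureModule _).1
  have hH : ∀ q, Module.finrank k (Coh.HH X (CohB1.tensorMod (ClSub.quotMod C) L) q) =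
      Module.finrank k (Coh.HH C.subscheme L' q) := fun q =>
    (finrank_HH_congr k e q).trans (SerreDual.hpush i k rfl L' q).finrank_eq.symm
  have hO : ∀ q, Module.finrank k (Coh.HH X (ClSub.quotMod C) q) =
      Module.finrank k (Coh.HH C.subscheme (Coh.structureModule C.subscheme) q) := fun q =>
    (SerreDual.hpush i k rfl (Coh.structureModule C.subscheme) q).finrank_eq.symm
  have h01 := h0_structure k (X := C.subscheme)
  have hdeg : deg k (ClSub.quotMod C) (InvCl.mk L hL) = Curv2.deg k C.subscheme L' 1 := by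
    rw [deg_mk, euler_congr k X e]
    simp only [Curv2.deg, Nat.cast_one, one_mul]
    rw [AbCubeLib.euler_push k i rfl, AbCubeLib.euler_push k i rfl]
  refine ⟨(hO 0).trans h01, ?_, fun h => ?_, fun h => ⟨?_, fun hne => ?_⟩, fun h1 h => ?_⟩
  · have h2 := euler_structure k hY (X := C.subscheme)
    rw [h01, AbCubeLib.euler_push k i rfl] at h2
    rw [hO 1]
    exact h2
  · rw [hH 0]
    haveI := subsingleton_h0_of_deg_neg k hY hL' (hdeg ▸ h)
    exact Module.finrank_zero_of_subsingleton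
  · have h2 := Surf15.h0_le_deg k hY hL' (D := 0) (hdeg ▸ h)
    rw [h01] at h2
    rw [hH 0]
    simpa using h2
  · have hnt : Nontrivial (Coh.HH C.subscheme L' 0) := by
      rw [hH 0] at hne
      exact Module.nontrivial_of_finrank_pos (Nat.pos_of_ne_zero hne)
    obtain ⟨h0', hiso, -⟩ := deg_nonneg_of_section k hY hL' hnt
    obtain ⟨u⟩ := hiso (le_antisymm (hdeg ▸ h) h0')
    exact ⟨e ≪≫ (Coh.push i).mapIso u⟩
  · have hg : Curv2.genus k C.subscheme = 0 := by
      have := h1
      haveI := (SerreDual.hpush i k rfl (Coh.structureModule C.subscheme) 1).toEquiv.subsingleton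
      exact Module.finrank_zero_of_subsingleton
    haveI := subsingleton_h1_of_deg k hY h01 hL' (by rw [hg]; omega)
    exact subsingleton_HH_congr e.symm 1 (SerreDual.hpush i k rfl L' 1).symm.toEquiv.subsingleton

end Groth.Agent.Surf15
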