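import Groth.Agent.Surf15.RRCor
import Groth.Agent.Surf15.PlaneNef
import Groth.Agent.BlowUpPlane.PointEuler
import Groth.Agent.BlowUpPlane.Chart
import Groth.Agent.BlowUpCoh.EulerPush
import Groth.Agent.SerreDual.CMVanishing
import Groth.Agent.S4466

/-!
# Surf15: numerical invariants of blown-up planes
-/

set_option autoImplicit false
set_option linter.style.haveILetI false
set_option linter.unusedSectionVars false
set_option maxHeartbeats 1000000
set_option backward.isDefEq.respectTransparency.types false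

universe u

open CategoryTheory CategoryTheory.Limits AlgebraicGeometry Opposite TopologicalSpace
open Groth.Agent.Coherent Groth.Agent.PicLib Groth.Agent.AmpleLib Groth.Agent.EulerLib
open Groth.Agent.CurveRR24

namespace Groth.Agent.Surf15

variable (k : Type u) [Field k] [IsAlgClosed k] {r : ℕ} (P : Fin r → ↥(CohB1.ProjSpace 2 k))
  (hPc : ∀ i, IsClosed ({P i} : Set ↥(CohB1.ProjSpace 2 k))) (hZ : IsClosed (Set.range P))
include hPc hZ

/-- The ideal of finitely many points of the plane has a Koszul basis of length two. -/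
theorem koszulBasis_range_points :
    BlowUpCoh.KoszulBasis (Scheme.IdealSheafData.vanishingIdeal ⟨Set.range P, hZ⟩) 1 := by
  refine BlowUpCoh.koszulBasis_of_local fun x hx => ?_
  have hx' : x ∈ Set.range P :=
    (Scheme.IdealSheafData.coe_support_vanishingIdeal (Z := (⟨Set.range P, hZ⟩ : Closeds _))).le hx
  obtain ⟨i, rfl⟩ := hx'
  let T : Set ↥(CohB1.ProjSpace 2 k) := Set.range P \ {P i}
  have hT : IsClosed T := by
    have hfin : T.Finite := (Set.finite_range P).subset Set.sdiff_subset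
    rw [← Set.biUnion_of_singleton T]
    refine hfin.isClosed_biUnion fun y hy => ?_
    obtain ⟨j, rfl⟩ := hy.1
    exact hPc j
  let U : (CohB1.ProjSpace 2 k).Opens := ⟨Tᶜ, hT.isOpen_compl⟩
  obtain ⟨V, ⟨hV, n, f, hn, hf, hk⟩, hiV, hVU⟩ :=
    Opens.isBasis_iff_nbhd.mp (BlowUpPlane.koszulBasis_point k (P i) (hPc i))
      (show P i ∈ U from fun h => h.2 rfl)
  refine ⟨⟨V, hV⟩, n, f, hiV, hn, ?_, hk⟩
  rw [← hf, Scheme.IdealSheafData.vanishingIdeal_ideal, Scheme.IdealSheafData.vanishingIdeal_ideal]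
  congr 1
  ext q
  refine ⟨fun hq => ?_, fun hq => ?_⟩
  · have hqV : hV.fromSpec q ∈ V := hV.range_fromSpec.le (Set.mem_range_self q)
    by_contra hne
    exact hVU hqV ⟨hq, hne⟩
  · exact ⟨i, (Set.mem_singleton_iff.1 hq).symm⟩

variable {X : Scheme.{u}} [X.Over (Spec (CommRingCat.of k))] [IsProper (X ↘ Spec (CommRingCat.of k))]
  [IsIntegral X] (σ : X ⟶ CohB1.ProjSpace 2 k)
  (hσk : σ ≫ CohB1.ProjSpace.toSpec 2 k = X ↘ (Spec (CommRingCat.of k)))
  (hσ : BlowUp.IsBlowUp σ (Scheme.IdealSheafData.vanishingIdeal ⟨Set.range P, hZ⟩))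
include hσk hσ

/-- The Euler characteristic of the pullback of a twist. -/
theorem euler_pullback_twist (n : ℕ) :
    Curv2.euler k X ((Scheme.Modules.pullback σ).obj (Twist.twistProjSpace 2 k (n : ℤ))) =
      ((n + 2).choose 2 : ℤ) := by
  letI : (CohB1.ProjSpace 2 k).Over (Spec (CommRingCat.of k)) := ⟨CohB1.ProjSpace.toSpec 2 k⟩
  haveI : IsProper (CohB1.ProjSpace 2 k ↘ Spec (CommRingCat.of k)) := isProper_projSpace_toSpec 2 k
  haveI := isNoetherian_of_proper (X := CohB1.ProjSpace 2 k) k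
  haveI := isSeparated_of_proper (X := CohB1.ProjSpace 2 k) k
  have hL := SerreDual.isInvertible_twist 2 k (n : ℤ)
  set I := Scheme.IdealSheafData.vanishingIdeal (⟨Set.range P, hZ⟩ : Closeds ↥(CohB1.ProjSpace 2 k))
  haveI := BlowUpLib.isProper_of_isBlowUp hσ
    (BlowUpCoh.isFiniteType_of_koszulBasis (koszulBasis_range_points k P hPc hZ))
  have h := BlowUpCoh.euler_twist_idealPow k hσ (koszulBasis_range_points k P hPc hZ) hσk hL 0
  rw [pow_zero, pow_zero, Scheme.IdealSheafData.one_eq_top, Scheme.IdealSheafData.one_eq_top] at h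
  have key : ∀ {Y : Scheme.{u}} [Y.Over (Spec (CommRingCat.of k))]
      [IsProper (Y ↘ Spec (CommRingCat.of k))] [Nonempty Y] {L : Y.Modules}, PicF.IsInvertible L →
      Curv2.euler k Y (CohB1.tensorMod L (ClSub.idealMod (⊤ : Y.IdealSheafData))) = Curv2.euler k Y L := by
    intro Y _ _ _ L hL
    have hsupp : ((⊤ : Y.IdealSheafData).support : Set Y) = ∅ := by simp
    obtain ⟨y⟩ := ‹Nonempty Y›
    rw [BlowUpPlane.euler_twist_idealMod k ⊤ (x := y) (by rw [hsupp]; exact Set.empty_subset _) hL,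
      euler_eq_sum k Y (ClSub.quotMod (⊤ : Y.IdealSheafData)) 0 fun q _ =>
        subsingleton_HH_of_isZero (isZero_of_support_eq_empty
          (Set.eq_empty_of_subset_empty (hsupp ▸ support_quotMod_subset (⊤ : Y.IdealSheafData)))) q]
    haveI : Subsingleton (Coh.HH Y (ClSub.quotMod (⊤ : Y.IdealSheafData)) 0) :=
      subsingleton_HH_of_isZero (isZero_of_support_eq_empty
        (Set.eq_empty_of_subset_empty (hsupp ▸ support_quotMod_subset (⊤ : Y.IdealSheafData)))) 0
    simp [Module.finrank_zero_of_subsingleton]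
  have hcomap : (⊤ : (CohB1.ProjSpace 2 k).IdealSheafData).comap σ = ⊤ := by simp
  haveI : Nonempty ↥(CohB1.ProjSpace 2 k) := ⟨σ (genericPoint X)⟩
  rw [key hL, key (PicLoc.isInvertible_pullback σ hL)] at h
  rw [h]
  haveI := isQCoh_of_isInvertible hL
  rw [euler_eq_sum k _ _ 2 fun q hq =>
    subsingleton_HH_of_dim _ (DimLib.PN.topologicalKrullDim_projSpace 2 k).le hq,
    PnChi.euler_twist (k := k) (r := 2) two_pos, ← Nat.cast_add, Ring.choose_natCast]

end Groth.Agent.Surf15

namespace Groth.Agent.Surf15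

variable (k : Type u) [Field k] [IsAlgClosed k] {r : ℕ} (P : Fin r → ↥(CohB1.ProjSpace 2 k))
  (hPc : ∀ i, IsClosed ({P i} : Set ↥(CohB1.ProjSpace 2 k))) (hZ : IsClosed (Set.range P))
  {X : Scheme.{u}} [X.Over (Spec (CommRingCat.of k))] [IsProper (X ↘ Spec (CommRingCat.of k))]
  [IsIntegral X] [Smooth (X ↘ Spec (CommRingCat.of k))] (σ : X ⟶ CohB1.ProjSpace 2 k)
  (hσk : σ ≫ CohB1.ProjSpace.toSpec 2 k = X ↘ (Spec (CommRingCat.of k)))
  (hσ : BlowUp.IsBlowUp σ (Scheme.IdealSheafData.vanishingIdeal ⟨Set.range P, hZ⟩))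
include hPc hσk hσ

/-- `χ(O) = 1`, `H² = 1` and `H·K = -3` on a blown-up plane. -/
theorem planeBlowup_invariants (hX : topologicalKrullDim X = ((2 : ℕ) : WithBot ℕ∞)) {W : X.Modules}
    (hW : ExtPow.IsExtPow 2 (Omega.sheaf (X ↘ Spec (CommRingCat.of k))) W) (hWi : PicF.IsInvertible W) :
    chiCl k (Coh.structureModule X) 1 = 1 ∧
      B k (InvCl.mk ((Scheme.Modules.pullback σ).obj (Twist.twistProjSpace 2 k 1))
          (PicLoc.isInvertible_pullback σ (isInvertible_twist_one_field k 2)))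
        (InvCl.mk ((Scheme.Modules.pullback σ).obj (Twist.twistProjSpace 2 k 1))
          (PicLoc.isInvertible_pullback σ (isInvertible_twist_one_field k 2))) = 1 ∧
      B k (InvCl.mk ((Scheme.Modules.pullback σ).obj (Twist.twistProjSpace 2 k 1))
          (PicLoc.isInvertible_pullback σ (isInvertible_twist_one_field k 2))) (InvCl.mk W hWi) = -3 := by
  have hH := PicLoc.isInvertible_pullback σ (isInvertible_twist_one_field k 2)
  set H := (Scheme.Modules.pullback σ).obj (Twist.twistProjSpace 2 k 1) with hHdef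
  have e0 := euler_pullback_twist k P hPc hZ σ hσk hσ 0
  obtain ⟨i₀⟩ := exists_pullStructureIso σ
  obtain ⟨t₀⟩ := TwistLib.nonempty_twist_zero_iso (𝒜 := CohB1.polyGrading 2 k)
  let t₀' : Twist.twistProjSpace 2 k ((0 : ℕ) : ℤ) ≅ Coh.structureModule (CohB1.ProjSpace 2 k) := t₀
  rw [euler_congr k X ((Scheme.Modules.pullback σ).mapIso t₀' ≪≫ i₀),
    ← chiCl_one k] at e0
  have e1 := euler_pullback_twist k P hPc hZ σ hσk hσ 1
  change Curv2.euler k X H = _ at e1
  rw [euler_eq_chiCl k hX.le hH] at e1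
  have e2 := euler_pullback_twist k P hPc hZ σ hσk hσ 2
  obtain ⟨i₂⟩ := SerreDual.nonempty_pull_twist_pow (k := k) σ 2
  rw [euler_congr k X i₂, euler_eq_chiCl k hX.le (isInvertible_tensorPow hH 2), InvCl.mk_tensorPow hH 2,
    pow_two] at e2
  rw [show (0 + 2 : ℕ).choose 2 = 1 from rfl, Nat.cast_one] at e0
  rw [show (1 + 2 : ℕ).choose 2 = 3 from rfl] at e1
  rw [show (2 + 2 : ℕ).choose 2 = 6 from rfl] at e2
  push_cast at e1 e2
  have hB : B k (InvCl.mk H hH) (InvCl.mk H hH) = 1 := by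
    show chiCl k _ _ - chiCl k _ _ - chiCl k _ _ + chiCl k _ 1 = 1
    omega
  have hRR := riemannRoch_cl k hX hW hWi (InvCl.mk H hH)
  refine ⟨e0, hB, ?_⟩
  linarith

end Groth.Agent.Surf15
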