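import Groth.Agent.Surf15.BundleDual
import Groth.Agent.Surf15.HomShIso
import Groth.Agent.Surf15.IntPush
import Groth.Agent.Surf15.Adjunction
import Groth.Agent.Surf15.K3
import Groth.Agent.Surf15.CurveRestrict
import Groth.Agent.Coherent.ProjFormula
import Groth.Agent.AbCubeLib.FiniteDegree
import Groth.Agent.AbVarLib.AlgClosedIntegral
import Groth.Agent.FlatMorAdm.LocFreeApps
import Groth.Agent.CAlgH3.LocFreeFactor

/-!
# Surf15: Euler characteristics of Lazarsfeld–Mukai bundles
-/

set_option autoImplicit false
set_option linter.style.haveILetI false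
set_option linter.unusedSectionVars false
set_option maxHeartbeats 1000000
set_option backward.isDefEq.respectTransparency.types false

universe u

open CategoryTheory CategoryTheory.Limits AlgebraicGeometry Opposite TopologicalSpace
open Groth.Agent.Coherent Groth.Agent.PicLib Groth.Agent.AmpleLib Groth.Agent.EulerLib
open Groth.Agent.CurveRR24

namespace Groth.Agent.Surf15

section General

variable {X : Scheme.{u}}

/-- The free module of rank `n + 1` is a split extension. -/
theorem exists_free_split (n : ℕ) :
    ∃ (f : FlatMod.freeMod X n ⟶ FlatMod.freeMod X (n + 1)) (g : FlatMod.freeMod X (n + 1) ⟶ Coh.structureModule X)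
      (w : f ≫ g = 0), Nonempty (ShortComplex.mk f g w).Splitting := by
  classical
  let O : Fin (n + 1) → X.Modules := fun _ => Coh.structureModule X
  let O' : Fin n → X.Modules := fun _ => Coh.structureModule X
  let f : ∐ O' ⟶ ∐ O := Sigma.desc fun i => Sigma.ι O i.castSucc
  let g : ∐ O ⟶ Coh.structureModule X := Sigma.desc fun i => if i = Fin.last n then 𝟙 _ else 0
  let r : ∐ O ⟶ ∐ O' := Sigma.desc (Fin.lastCases (motive := fun i => O i ⟶ ∐ O') 0 fun i => Sigma.ι O' i)
  let S := ShortComplex.mk f g (Sigma.hom_ext _ _ fun i => by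
    simp [f, g, (Fin.castSucc_lt_last i).ne])
  let sp : S.Splitting :=
    { r := r
      s := Sigma.ι O (Fin.last n)
      f_r := Sigma.hom_ext _ _ fun i => by simp [S, f, r]
      s_g := by simp [S, g]; rfl
      id := Sigma.hom_ext _ _ fun i => by
        induction i using Fin.lastCases with
        | last => simp [S, f, g, r]
        | cast i => simp [S, f, g, r, (Fin.castSucc_lt_last i).ne] }
  exact ⟨f, g, S.zero, ⟨sp⟩⟩

theorem isZero_freeMod_zero' : IsZero (FlatMod.freeMod X 0) := by
  rw [IsZero.iff_id_eq_zero]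
  exact Sigma.hom_ext (f := fun _ : Fin 0 => Coh.structureModule X) _ _ fun i => i.elim0

theorem isFinLocFree_freeMod' (n : ℕ) : FlatMod.IsFinLocFree (FlatMod.freeMod X n) :=
  VarietyLib.isFinLocFree_of_rank (VarietyLib.isFinLocFreeOfRank_freeMod n)

theorem isFinLocFree_structure : FlatMod.IsFinLocFree (Coh.structureModule X) :=
  CohBC.isFinLocFree_structureModule X

/-- Hom into a free module. -/
theorem euler_hom_free (k : Type u) [Field k] [X.Over (Spec (CommRingCat.of k))]
    [IsProper (X ↘ Spec (CommRingCat.of k))] {F : X.Modules} (hF : FlatMod.IsFinLocFree F) :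
    ∀ n : ℕ, Curv2.euler k X (internalHom F (FlatMod.freeMod X n)) =
      n * Curv2.euler k X (internalHom F (Coh.structureModule X)) := by
  haveI := isNoetherian_of_proper (X := X) k
  let T := internalHomFunctor F
  haveI : T.Additive := SerreDual.additive_internalHomFunctor F
  have hc : ∀ m, Coh.IsCoh (internalHom F (FlatMod.freeMod X m)) := fun m =>
    CohBC.isCoh_of_isFinLocFree (CohBC.isFinLocFree_internalHom hF (isFinLocFree_freeMod' m))
  intro n
  induction n with
  | zero =>
    have h0 : IsZero (FlatMod.freeMod X 0) := isZero_freeMod_zero'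
    rw [euler_of_isZero k X (show IsZero (internalHom F (FlatMod.freeMod X 0)) from T.map_isZero h0)]
    simp
  | succ n ih =>
    obtain ⟨f, g, w, ⟨sp⟩⟩ := exists_free_split (X := X) n
    have h := euler_additive k X _ (sp.map T).shortExact (hc n) (hc (n + 1))
      (CohBC.isCoh_of_isFinLocFree (CohBC.isFinLocFree_internalHom hF isFinLocFree_structure))
    change Curv2.euler k X (internalHom F (FlatMod.freeMod X (n + 1))) =
      Curv2.euler k X (internalHom F (FlatMod.freeMod X n)) +
        Curv2.euler k X (internalHom F (Coh.structureModule X)) at h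
    rw [h, ih]; push_cast; ring

/-- Cohomology vanishing of Homs into free modules. -/
theorem subsingleton_hom_free (k : Type u) [Field k] [X.Over (Spec (CommRingCat.of k))]
    {F : X.Modules} (q : ℕ)
    (h : Subsingleton (Coh.HH X (internalHom F (Coh.structureModule X)) q)) :
    ∀ n : ℕ, Subsingleton (Coh.HH X (internalHom F (FlatMod.freeMod X n)) q) := by
  let T := internalHomFunctor F
  haveI : T.Additive := SerreDual.additive_internalHomFunctor F
  intro n
  induction n with
  | zero => exact subsingleton_HH_of_isZero (show IsZero (T.obj (FlatMod.freeMod X 0)) from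
      T.map_isZero isZero_freeMod_zero') q
  | succ n ih =>
    obtain ⟨f, g, w, ⟨sp⟩⟩ := exists_free_split (X := X) n
    refine subsingleton_of_forall_eq 0 fun x => ?_
    haveI : Subsingleton (Coh.HH X ((ShortComplex.mk f g w).map T).X₃ q) := h
    obtain ⟨y, rfl⟩ := (SerreDual.exact_hmap k (sp.map T).shortExact q x).1 (Subsingleton.elim _ _)
    haveI : Subsingleton (Coh.HH X ((ShortComplex.mk f g w).map T).X₁ q) := ih
    exact (congrArg _ (Subsingleton.elim y 0)).trans (map_zero _)

/-- Twisting a free module. -/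
theorem euler_free_tensor (k : Type u) [Field k] [X.Over (Spec (CommRingCat.of k))]
    [IsProper (X ↘ Spec (CommRingCat.of k))] (n : ℕ) {N : X.Modules} (hN : PicF.IsInvertible N) :
    Curv2.euler k X (CohB1.tensorMod (FlatMod.freeMod X n) N) = n * Curv2.euler k X N := by
  haveI := isNoetherian_of_proper (X := X) k
  have hc : ∀ m, Coh.IsCoh (CohB1.tensorMod (FlatMod.freeMod X m) N) := fun m =>
    EulerLib.isCoh_twist hN (CohBC.isCoh_of_isFinLocFree (isFinLocFree_freeMod' m))
  induction n with
  | zero =>
    rw [euler_of_isZero k X (isZero_tensorMod isZero_freeMod_zero' N)]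
    simp
  | succ n ih =>
    obtain ⟨f, g, w, ⟨sp⟩⟩ := exists_free_split (X := X) n
    have h := euler_additive k X _ (twistSeq_shortExact hN sp.shortExact) (hc n) (hc (n + 1))
      (EulerLib.isCoh_twist hN (isCoh_structureModule X))
    change Curv2.euler k X (CohB1.tensorMod (FlatMod.freeMod X (n + 1)) N) =
      Curv2.euler k X (CohB1.tensorMod (FlatMod.freeMod X n) N) +
        Curv2.euler k X (CohB1.tensorMod (Coh.structureModule X) N) at h
    rw [h, ih, euler_congr k X (unitTensorIso N)]; push_cast; ring

/-- Tensoring a coherent module with a bundle. -/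
theorem isCoh_tensor_bundle [IsLocallyNoetherian X] {D M : X.Modules} (hD : FlatMod.IsFinLocFree D)
    (hM : Coh.IsCoh M) : Coh.IsCoh (CohB1.tensorMod D M) :=
  VarietyLib.isCoh_tensor' (CohBC.isCoh_of_isFinLocFree hD) hM

/-- Sections of a free module. -/
theorem finrank_h0_free (k : Type u) [Field k] [X.Over (Spec (CommRingCat.of k))]
    (h1 : Module.finrank k (Coh.HH X (Coh.structureModule X) 0) = 1) (n : ℕ) :
    Module.finrank k (Coh.HH X (FlatMod.freeMod X n) 0) = n := by
  classical
  let O := Coh.structureModule X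
  let ι' : Fin n → (O ⟶ FlatMod.freeMod X n) := fun i => Sigma.ι (fun _ : Fin n => O) i
  let π : Fin n → (FlatMod.freeMod X n ⟶ O) := fun i => Sigma.desc fun j => if j = i then 𝟙 _ else 0
  have hid : ∑ i, π i ≫ ι' i = 𝟙 (FlatMod.freeMod X n) := by
    refine Sigma.hom_ext _ _ fun j => ?_
    rw [Preadditive.comp_sum, Category.comp_id, Finset.sum_eq_single j]
    · simp [π, ι', O]
    · intro i _ hi
      simp [π, ι', O, Ne.symm hi]
    · exact fun h => absurd (Finset.mem_univ j) h
  have hιπ : ∀ i j, ι' i ≫ π j = if i = j then 𝟙 O else 0 := fun i j => by simp [π, ι', O]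
  let T : (O ⟶ FlatMod.freeMod X n) →ₗ[k] (Fin n → (O ⟶ O)) :=
    LinearMap.pi fun i => Linear.rightComp k O (π i)
  have hT : Function.Bijective T := by
    refine ⟨(injective_iff_map_eq_zero _).2 fun a h => ?_, fun c => ⟨∑ j, c j ≫ ι' j, funext fun i => ?_⟩⟩
    · rw [← Category.comp_id a, ← hid, Preadditive.comp_sum]
      refine Finset.sum_eq_zero fun i _ => ?_
      rw [← Category.assoc, show a ≫ π i = 0 from congrFun h i, zero_comp]
    · show (∑ j, c j ≫ ι' j) ≫ π i = c i
      simp [Preadditive.sum_comp, hιπ, comp_ite, Finset.sum_ite_eq']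
  haveI : Module.Finite k (Coh.HH X O 0) := Module.finite_of_finrank_eq_succ h1
  haveI : Module.Finite k (O ⟶ O) := Module.Finite.equiv (SerreDual.homUnitHH k _).symm
  rw [← (SerreDual.homUnitHH k _).finrank_eq, (LinearEquiv.ofBijective T hT).finrank_eq,
    Module.finrank_pi_fintype, (SerreDual.homUnitHH k O).finrank_eq, h1]
  simp

variable [IsIntegral X] [IsLocallyNoetherian X]

/-- The generic rank from a basis. -/
theorem grk_of_isBasisOn {M : X.Modules} [Coh.IsQCoh M] {U : X.Opens} (hU : genericPoint X ∈ U) {I : Type u}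
    [Fintype I] {e : I → Γ(M, U)} (hb : IsBasisOn M U e) : VB5.grk M = Fintype.card I := by
  obtain ⟨V, hV, hxV, hVU'⟩ := exists_isAffineOpen_mem_and_subset (x := genericPoint X) (U := U) hU
  have hVU : V ≤ U := hVU'
  have hbV := CAlgH3.LocFreeFactor.IsBasisOn.mono hb hVU
  haveI : IsAffine V.toScheme := hV
  obtain ⟨b⟩ := Props12.exists_basis_restrict_top M V
    ((CohBC.moduleBasisOfIsBasisOn hbV).reindex (Fintype.equivFin I))
  obtain ⟨φ⟩ := Props12.exists_iso_freeMod_of_basis (M.restrict V.ι) b
  obtain ⟨c⟩ := Clifford24.nonempty_basis_stalk_local φ hxV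
  exact (Module.finrank_eq_card_basis (R := X.functionField) c).trans (Fintype.card_fin _)

/-- The rank of the dual. -/
theorem grk_dual {F : X.Modules} (hF : FlatMod.IsFinLocFree F) :
    VB5.grk (internalHom F (Coh.structureModule X)) = VB5.grk F := by
  classical
  haveI := (CohBC.isCoh_of_isFinLocFree hF).1
  haveI := (CohBC.isCoh_of_isFinLocFree (CohBC.isFinLocFree_internalHom hF isFinLocFree_structure (X := X))).1
  obtain ⟨U, n, e, hU, he⟩ := exists_isBasisOn hF (genericPoint X)
  have hO : IsBasisOn (Coh.structureModule X) U (fun _ : PUnit.{u + 1} => oneSec U) := fun V hV => by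
    refine (Function.Bijective.of_comp_iff' ((isGen_oneSec U) V hV)
      (fun c : PUnit.{u + 1} → Γ(X, V) => c PUnit.unit)).2 ?_ |> fun h => by
        convert h using 1
        funext c
        simp
    exact ⟨fun a b h => funext fun _ => h, fun r => ⟨fun _ => r, rfl⟩⟩
  rw [grk_of_isBasisOn hU (CohBC.isBasisOn_elemHom he hO), grk_of_isBasisOn hU he]
  simp

end General

section Curve

variable {C : Scheme.{u}} (k : Type u) [Field k] [IsAlgClosed k] [C.Over (Spec (CommRingCat.of k))]
  [IsProper (C ↘ Spec (CommRingCat.of k))] [IsIntegral C] [Smooth (C ↘ Spec (CommRingCat.of k))]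
  (hC : topologicalKrullDim C = 1)
include k hC

/-- Twisting a bundle on a curve by a line. -/
theorem euler_twist_line {r : ℕ} {T A : C.Modules} (hT : FlatMod.IsFinLocFreeOfRank r T) (hA : PicF.IsInvertible A) :
    Curv2.euler k C (CohB1.tensorMod T A) = Curv2.euler k C T +
      r * (Curv2.euler k C A - Curv2.euler k C (Coh.structureModule C)) := by
  haveI := isNoetherian_of_proper (X := C) k
  have hn : ∀ x : C, IsIntegrallyClosed (C.presheaf.stalk x) := fun x => by
    haveI := VarietyLib.isRegularLocalRing_stalk_of_smooth k _ (C ↘ Spec (CommRingCat.of k)) x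
    haveI := CAlgH3.isDomain_of_isRegularLocalRing (C.presheaf.stalk x)
    exact CAlgH3.isIntegrallyClosed_of_regular _
  have h := VB5.gdeg_twist k hC hn hA r hT
  rw [VB5.gdeg, VB5.gdeg, VB5.gdeg, VB5.grk_twist hT hA, VB5.grk_eq hT, VB5.rank_one hA] at h
  push_cast at h
  linarith

end Curve

section Push

variable {X C : Scheme.{u}} (k : Type u) [Field k] [X.Over (Spec (CommRingCat.of k))]
  [IsProper (X ↘ Spec (CommRingCat.of k))] [C.Over (Spec (CommRingCat.of k))]
  (i : C ⟶ X) [IsClosedImmersion i]
  (hi : i ≫ (X ↘ Spec (CommRingCat.of k)) = C ↘ Spec (CommRingCat.of k))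
include k hi

theorem euler_tensor_push {E : X.Modules} (hE : FlatMod.IsFinLocFree E) (M : C.Modules) [Coh.IsQCoh M]
    (hq : Coh.IsQCoh (CohB1.tensorMod ((Scheme.Modules.pullback i).obj E) M)) :
    Curv2.euler k X (CohB1.tensorMod E ((Coh.push i).obj M)) =
      Curv2.euler k C (CohB1.tensorMod ((Scheme.Modules.pullback i).obj E) M) := by
  haveI := isSeparated_of_proper (X := X) k
  haveI := hq
  haveI := Coherent.isIso_projHom (f := i) hE M
  rw [AbCubeLib.euler_push k i hi (CohB1.tensorMod ((Scheme.Modules.pullback i).obj E) M)]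
  exact euler_congr k X (asIso (projHom i E M))

variable [IsAlgClosed k] [IsProper (C ↘ Spec (CommRingCat.of k))] [IsIntegral C]
  [Smooth (C ↘ Spec (CommRingCat.of k))] (hC : topologicalKrullDim C = 1)
include hC

/-- Twisting a line pushed forward from a curve. -/
theorem euler_tensor_push_line {r : ℕ} {E : X.Modules} (hE : FlatMod.IsFinLocFreeOfRank r E) {A : C.Modules}
    (hA : PicF.IsInvertible A) :
    Curv2.euler k X (CohB1.tensorMod E ((Coh.push i).obj A)) =
      Curv2.euler k X (CohB1.tensorMod E ((Coh.push i).obj (Coh.structureModule C))) +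
      r * (Curv2.euler k C A - Curv2.euler k C (Coh.structureModule C)) := by
  haveI := isNoetherian_of_proper (X := C) k
  have hT := VarietyLib.isFinLocFreeOfRank_pullback i hE
  have hO : PicF.IsInvertible (Coh.structureModule C) := isInvertible_structureModule
  have hq : ∀ {M : C.Modules}, PicF.IsInvertible M →
      Coh.IsQCoh (CohB1.tensorMod ((Scheme.Modules.pullback i).obj E) M) := fun hM =>
    (CohBC.isCoh_of_isFinLocFree
      (VarietyLib.isFinLocFree_of_rank (Clifford24.isFinLocFreeOfRank_tensorMod hT hM))).1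
  haveI := isQCoh_of_isInvertible hA
  haveI := isQCoh_of_isInvertible hO
  rw [euler_tensor_push k i hi (VarietyLib.isFinLocFree_of_rank hE) A (hq hA),
    euler_tensor_push k i hi (VarietyLib.isFinLocFree_of_rank hE) _ (hq hO),
    euler_congr k C (tensorComm ((Scheme.Modules.pullback i).obj E) (Coh.structureModule C) ≪≫ unitTensorIso _),
    euler_twist_line k hC hT hA]

end Push

section LM

variable {X C : Scheme.{u}} (k : Type u) [Field k] [IsAlgClosed k] [X.Over (Spec (CommRingCat.of k))]
  [IsProper (X ↘ Spec (CommRingCat.of k))] [IsIntegral X] [Smooth (X ↘ Spec (CommRingCat.of k))]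
  (hX : topologicalKrullDim X = ((2 : ℕ) : WithBot ℕ∞))
  [C.Over (Spec (CommRingCat.of k))] [IsIntegral C] [Smooth (C ↘ Spec (CommRingCat.of k))]
  (hC : topologicalKrullDim C = 1) (i : C ⟶ X) [IsClosedImmersion i]
  (hi : i ≫ (X ↘ Spec (CommRingCat.of k)) = C ↘ Spec (CommRingCat.of k))
include k hX hC hi

omit [IsAlgClosed k] [Smooth (X ↘ Spec (CommRingCat.of k))] [Smooth (C ↘ Spec (CommRingCat.of k))] in
theorem isProper_curve : IsProper (C ↘ Spec (CommRingCat.of k)) := by
  rw [← hi]; infer_instance

omit [IsAlgClosed k] [Smooth (C ↘ Spec (CommRingCat.of k))] in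
theorem effCartier_ker : BlowUp.IsEffCartierIdeal i.ker := by
  obtain ⟨hint, hd⟩ := isCrv_ker i hC
  haveI := hint
  exact isEffCartier_curve k hX (smooth_regular k hX) i.ker hd

omit [IsAlgClosed k] [Smooth (X ↘ Spec (CommRingCat.of k))] [Smooth (C ↘ Spec (CommRingCat.of k))] in
theorem genericPoint_notMem_curve : genericPoint X ∉ Set.range i := by
  intro h
  have hu : Set.range i = Set.univ := Set.eq_univ_of_forall fun x =>
    (genericPoint_specializes x).mem_closed i.isClosedEmbedding.isClosed_range h
  have hh : IsHomeomorph i :=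
    isHomeomorph_iff_isEmbedding_surjective.2 ⟨i.isClosedEmbedding.isEmbedding, Set.range_eq_univ.1 hu⟩
  have h1 := IsHomeomorph.topologicalKrullDim_eq _ hh
  rw [hC, hX] at h1
  exact absurd h1 (by norm_num)

omit [IsAlgClosed k] [Smooth (X ↘ Spec (CommRingCat.of k))] [Smooth (C ↘ Spec (CommRingCat.of k))] in
theorem grk_push (M : C.Modules) : VB5.grk ((Coh.push i).obj M) = 0 := by
  have hx := genericPoint_notMem_curve k hX hC i hi
  have hbij := CycLib28.pushGerm_bijective i i.isClosedMap M Set.univ isClosed_univ
    (fun z hz => absurd (Set.mem_univ z) hz) (genericPoint X) ∅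
    (fun z => ⟨fun hz => absurd hz (Finset.notMem_empty z), fun hz => absurd ⟨z, hz.2⟩ hx⟩)
    (fun _ => ⊤) (fun _ _ => trivial) (fun a ha => absurd ha (Finset.notMem_empty a))
  haveI : Subsingleton (((Coh.push i).obj M).presheaf.stalk (genericPoint X)) := hbij.1.subsingleton
  exact Module.finrank_zero_of_subsingleton

variable {A : C.Modules} (hA : PicF.IsInvertible A) {n : ℕ} (lam : FlatMod.freeMod X n ⟶ (Coh.push i).obj A)
  [Epi lam]
include hA

omit [IsAlgClosed k] [Smooth (C ↘ Spec (CommRingCat.of k))] in
/-- The kernel is a bundle. -/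
theorem isFinLocFree_lm : FlatMod.IsFinLocFree (kernel lam) := by
  haveI := isNoetherian_of_proper (X := X) k
  haveI := isQCoh_of_isInvertible hA
  exact isFinLocFree_kernel_push i (effCartier_ker k hX hC i hi) hA (Coherent.isQCoh_push i A) lam

omit [IsAlgClosed k] [Smooth (C ↘ Spec (CommRingCat.of k))] in
/-- The kernel has the rank of the free module. -/
theorem rank_lm : FlatMod.IsFinLocFreeOfRank n (kernel lam) := by
  haveI := isNoetherian_of_proper (X := X) k
  obtain ⟨r, hr⟩ := VB5.exists_rank (isFinLocFree_lm k hX hC i hi hA lam)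
  have hS : (ShortComplex.mk (kernel.ι lam) lam (kernel.condition lam)).ShortExact :=
    { exact := ShortComplex.exact_kernel lam }
  have h := VB5.grk_additive hS (CohBC.isCoh_of_isFinLocFree (isFinLocFree_freeMod' n))
  change VB5.grk (FlatMod.freeMod X n) = VB5.grk (kernel lam) + VB5.grk ((Coh.push i).obj A) at h
  rw [grk_push k hX hC i hi A, VB5.grk_eq (VarietyLib.isFinLocFreeOfRank_freeMod n), VB5.grk_eq hr, add_zero] at h
  exact h ▸ hr

omit [IsAlgClosed k] [Smooth (X ↘ Spec (CommRingCat.of k))] [Smooth (C ↘ Spec (CommRingCat.of k))]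
  [Epi lam] in
theorem isCoh_push_line {M : C.Modules} (hM : PicF.IsInvertible M) : Coh.IsCoh ((Coh.push i).obj M) := by
  haveI := isNoetherian_of_proper (X := X) k
  haveI := isProper_curve k hX hC i hi
  exact Coherent.isCoh_push_finite i (isCoh_of_isInvertible k hM)

variable (hK : ExtPow.IsExtPow 2 (Omega.sheaf (X ↘ Spec (CommRingCat.of k))) (Coh.structureModule X))
  (hq : Module.finrank k (Coh.HH X (Coh.structureModule X) 1) = 0)
include hK hq

/-- The Euler characteristic of the endomorphisms of a Lazarsfeld–Mukai bundle. -/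
theorem euler_end_lm :
    Curv2.euler k X (internalHom (kernel lam) (kernel lam)) =
      2 * (n : ℤ) ^ 2 - 2 * n * Curv2.euler k C A + 2 * Curv2.euler k C (Coh.structureModule C) := by
  haveI := isNoetherian_of_proper (X := X) k
  haveI := isSeparated_of_proper (X := X) k
  haveI := isProper_curve k hX hC i hi
  haveI := isNoetherian_of_proper (X := C) k
  have hO : PicF.IsInvertible (Coh.structureModule X) := isInvertible_structureModule
  have hOC : PicF.IsInvertible (Coh.structureModule C) := isInvertible_structureModule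
  haveI := isQCoh_of_isInvertible hA
  haveI := isQCoh_of_isInvertible hOC
  have hχ : Curv2.euler k X (Coh.structureModule X) = 2 := by
    rw [← chiCl_one k (Coh.structureModule X)]; exact chiCl_one_k3 k hX hK hq
  set F := kernel lam
  have hF : FlatMod.IsFinLocFree F := isFinLocFree_lm k hX hC i hi hA lam
  have hFr : FlatMod.IsFinLocFreeOfRank n F := rank_lm k hX hC i hi hA lam
  have hFc := CohBC.isCoh_of_isFinLocFree hF
  set a := Curv2.euler k C A
  set q := Curv2.euler k C (Coh.structureModule C)
  -- the evaluation sequence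
  have hS : (ShortComplex.mk (kernel.ι lam) lam (kernel.condition lam)).ShortExact :=
    { exact := ShortComplex.exact_kernel lam }
  have hPc := CohBC.isCoh_of_isFinLocFree (isFinLocFree_freeMod' (X := X) n)
  have hMc := isCoh_push_line k hX hC i hi hA (M := A) hA
  have hχF : Curv2.euler k X F = 2 * n - a := by
    have h := euler_additive k X _ hS hFc hPc hMc
    change Curv2.euler k X (FlatMod.freeMod X n) =
      Curv2.euler k X F + Curv2.euler k X ((Coh.push i).obj A) at h
    rw [VarietyLib.euler_freeMod k n, hχ, ← AbCubeLib.euler_push k i hi A] at h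
    linarith
  -- the dual
  set D := internalHom F (Coh.structureModule X)
  have hD : FlatMod.IsFinLocFree D := CohBC.isFinLocFree_internalHom hF isFinLocFree_structure
  have hDr : FlatMod.IsFinLocFreeOfRank n D := by
    obtain ⟨r, hr⟩ := VB5.exists_rank hD
    have h := grk_dual hF
    rw [VB5.grk_eq hr, VB5.grk_eq hFr] at h
    exact h ▸ hr
  have hχD : Curv2.euler k X D = 2 * n - a := (euler_dual k hX hK hO hF).trans hχF
  -- the curve as a divisor
  have hE := effCartier_ker k hX hC i hi
  obtain ⟨hint, hdk⟩ := isCrv_ker i hC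
  haveI := hint
  haveI hto : IsIso i.toImage := inferInstance
  have hsm : Smooth (i.ker.subschemeι ≫ (X ↘ Spec (CommRingCat.of k))) := by
    rw [show i.ker.subschemeι = inv i.toImage ≫ i from (IsIso.eq_inv_comp _).2 i.toImage_imageι,
      Category.assoc, hi]
    infer_instance
  haveI := hsm
  have hgi : GeometricallyIntegral (i.ker.subschemeι ≫ (X ↘ Spec (CommRingCat.of k))) :=
    AbVarLib.geometricallyIntegral_of_isAlgClosed _
  have hdim : topologicalKrullDim i.ker.subscheme = 1 := by
    rw [← hC]
    exact (IsHomeomorph.topologicalKrullDim_eq _ (asIso i.toImage).hom.homeomorph.isHomeomorph).symm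
  obtain ⟨eQ⟩ := nonempty_push_iso_quotMod i
  have hQ : Curv2.euler k X (ClSub.quotMod i.ker) = q :=
    (euler_congr k X eQ).symm.trans (AbCubeLib.euler_push k i hi _).symm
  set c := clI' i.ker hE
  have hcc : B k c c = - 2 * q := by
    have h := two_euler_curve k hX hK hO hE hdim hsm hgi
    rw [show InvCl.mk (Coh.structureModule X) hO = 1 from rfl, B_one_right k hX.le, hQ] at h
    linarith
  have hIi := FlatMor12.IdealModGen.isInvertible_idealMod i.ker hE
  -- the inverse of the ideal
  obtain ⟨N, hN, ⟨eIN⟩⟩ := CurveRR24.exists_inverse k hIi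
  have hcn : c * InvCl.mk N hN = 1 := (InvCl.mk_mul hIi hN).trans (InvCl.mk_eq _ hO eIN)
  have hχN : Curv2.euler k X N = 2 - q := by
    have h := chiCl_symm k hX hK hO hcn
    rw [show InvCl.mk (Coh.structureModule X) hO = 1 from rfl, one_mul, chiCl_mk,
      euler_congr k X (unitTensorIso N), chiCl_clI' k hE, chiCl_one, hχ, hQ] at h
    exact h
  have hχQN : Curv2.euler k X (CohB1.tensorMod N ((Coh.push i).obj (Coh.structureModule C))) = - q := by
    have h := deg_quotMod k hE (InvCl.mk N hN)
    rw [deg_mk, B_comm, B_inv_left k hX.le hcn, hcc, hQ] at h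
    rw [euler_congr k X (AmpleLib.tensorIso (Iso.refl N) eQ ≪≫ tensorComm _ _)]
    linarith
  have hχMN : Curv2.euler k X (CohB1.tensorMod ((Coh.push i).obj A) N) = a - 2 * q := by
    rw [euler_congr k X (tensorComm _ N),
      euler_tensor_push_line k i hi hC (isFinLocFreeOfRank_one hN) hA, hχQN]
    push_cast
    ring
  -- Homs into the ideal
  have hχFN : Curv2.euler k X (CohB1.tensorMod F N) = n * (2 - q) - (a - 2 * q) := by
    have h := euler_additive k X _ (twistSeq_shortExact hN hS) (EulerLib.isCoh_twist hN hFc)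
      (EulerLib.isCoh_twist hN hPc) (EulerLib.isCoh_twist hN hMc)
    change Curv2.euler k X (CohB1.tensorMod (FlatMod.freeMod X n) N) =
      Curv2.euler k X (CohB1.tensorMod F N) + Curv2.euler k X (CohB1.tensorMod ((Coh.push i).obj A) N) at h
    rw [euler_free_tensor k n hN, hχN, hχMN] at h
    linarith
  have hχI : Curv2.euler k X (internalHom F (ClSub.idealMod i.ker)) = n * (2 - q) - (a - 2 * q) := by
    obtain ⟨w⟩ := SerreDual.nonempty_internalHom_tensor F N
    obtain ⟨eH⟩ := nonempty_homSh_iso N (Coh.structureModule X)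
    obtain ⟨eN⟩ := VarietyLib.isInverseOf_dual hN
    have hd : PicF.IsInvertible (RefHull.dual N) :=
      PicM.isInvertible_of_tensor hN (glocus_isInvertible_of_iso eN.symm hO)
    have hnd : InvCl.mk N hN * InvCl.mk (RefHull.dual N) hd = 1 :=
      (InvCl.mk_mul hN hd).trans (InvCl.mk_eq _ hO eN)
    have h1 : InvCl.mk (RefHull.dual N) hd = c := by
      rw [← one_mul (InvCl.mk _ hd), ← hcn, mul_assoc, hnd, mul_one]
    obtain ⟨eI⟩ : Nonempty (RefHull.dual N ≅ ClSub.idealMod i.ker) := Quotient.exact h1
    rw [← hχFN, ← euler_dual k hX hK hO (VarietyLib.isFinLocFree_of_rank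
      (Clifford24.isFinLocFreeOfRank_tensorMod hFr hN))]
    exact euler_congr k X ((internalHomFunctor F).mapIso (eI.symm ≪≫ eH) ≪≫ (w.app _).symm)
  -- exactness of Hom out of a bundle
  let T := internalHomFunctor F
  haveI : PreservesFiniteLimits T := SerreDual.preservesFiniteLimits_internalHom F
  haveI : PreservesFiniteColimits T := SerreDual.preservesFiniteColimits_internalHom hF
  haveI : T.Additive := SerreDual.additive_internalHomFunctor F
  have hTc : ∀ {M : X.Modules}, Coh.IsCoh M → Coh.IsCoh (internalHom F M) := fun {M} hM => by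
    obtain ⟨e⟩ := SerreDual.nonempty_internalHom_eq_tensor hF M
    exact isCoh_of_iso e.symm (isCoh_tensor_bundle hD hM)
  have hχQ : Curv2.euler k X (internalHom F (ClSub.quotMod i.ker)) = n * q - 2 * q := by
    have h := euler_additive k X _ ((shortExact_ideal i.ker).map_of_exact T) (hTc (isCoh_idealMod' i.ker))
      (hTc (isCoh_structureModule X)) (hTc (isCoh_quotMod i.ker))
    change Curv2.euler k X D = Curv2.euler k X (internalHom F (ClSub.idealMod i.ker)) +
      Curv2.euler k X (internalHom F (ClSub.quotMod i.ker)) at h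
    rw [hχD, hχI] at h
    linarith
  have hχA : Curv2.euler k X (internalHom F ((Coh.push i).obj A)) = n * a - 2 * q := by
    obtain ⟨e1⟩ := SerreDual.nonempty_internalHom_eq_tensor hF ((Coh.push i).obj A)
    obtain ⟨e2⟩ := SerreDual.nonempty_internalHom_eq_tensor hF ((Coh.push i).obj (Coh.structureModule C))
    rw [euler_congr k X e1, euler_tensor_push_line k i hi hC hDr hA, ← euler_congr k X e2,
      euler_congr k X (show internalHom F ((Coh.push i).obj (Coh.structureModule C)) ≅
        internalHom F (ClSub.quotMod i.ker) from T.mapIso eQ), hχQ]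
    ring
  have h := euler_additive k X _ (hS.map_of_exact T) (hTc hFc) (hTc hPc) (hTc hMc)
  change Curv2.euler k X (internalHom F (FlatMod.freeMod X n)) =
    Curv2.euler k X (internalHom F F) + Curv2.euler k X (internalHom F ((Coh.push i).obj A)) at h
  rw [euler_hom_free k hF n, hχA] at h
  change (n : ℤ) * Curv2.euler k X D = _ at h
  rw [hχD] at h
  linarith

end LM

end Groth.Agent.Surf15
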