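import Groth.Agent.Surf15.LMStable

/-!
# Surf15: simplicity of Lazarsfeld–Mukai bundles
-/

set_option autoImplicit false
set_option linter.style.haveILetI false
set_option linter.unusedSectionVars false
set_option maxHeartbeats 1000000
set_option synthInstance.maxHeartbeats 200000
set_option backward.isDefEq.respectTransparency.types false

universe u

open CategoryTheory CategoryTheory.Abelian CategoryTheory.Limits AlgebraicGeometry Opposite TopologicalSpace
open Groth.Agent.Coherent Groth.Agent.PicLib Groth.Agent.AmpleLib Groth.Agent.EulerLib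
open Groth.Agent.CurveRR24 Groth.Agent.AbCubeLib Groth.Agent.AssSch12 Groth.Agent.VarietyLib

namespace Groth.Agent.Surf15

section Finite

/-- Endomorphisms of a bundle on a proper scheme form a finite-dimensional space. -/
theorem finite_end {X : Scheme.{u}} (k : Type u) [Field k] [X.Over (Spec (CommRingCat.of k))]
    [IsProper (X ↘ Spec (CommRingCat.of k))] {F : X.Modules} (hF : FlatMod.IsFinLocFree F) :
    Module.Finite k (F ⟶ F) := by
  haveI := isNoetherian_of_proper (X := X) k
  haveI : IsGrothendieckAbelian.{u} X.Modules := DCat.schemeModules_isGrothendieckAbelian X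
  haveI := finite_HH_of_isCoh k (CohBC.isCoh_of_isFinLocFree (CohBC.isFinLocFree_internalHom hF hF)) 0
  exact Module.Finite.equiv ((SerreDual.extLocFreeEquiv k hF F 0).symm.trans Ext.linearEquiv₀)

end Finite

section PicardCyclic

variable {X : Scheme.{u}} (k : Type u) [Field k] [X.Over (Spec (CommRingCat.of k))]
  [IsProper (X ↘ Spec (CommRingCat.of k))] [IsIntegral X] [PicGrp.Law X]
  (hX : topologicalKrullDim X = ((2 : ℕ) : WithBot ℕ∞))
include k hX

/-- When the Picard group is generated by a curve, that curve has the least degree. -/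
theorem hmin_of_cyclic {C : X.IdealSheafData} (hC : BlowUp.IsEffCartierIdeal C) (hI : PicF.IsInvertible (ClSub.idealMod C))
    (hgen : ∀ c : PicLoc.PicSet X, ∃ n : ℤ, c = PicGrp.cls (ClSub.idealMod C) hI ^ n)
    {H : X.Modules} (hH : CohB1.IsAmple H) (hneg : B k (clI' C hC) (InvCl.mk H hH.1) < 0)
    (D : X.IdealSheafData) (hD : BlowUp.IsEffCartierIdeal D) (hDi : IsIntegral D.subscheme)
    (hDd : topologicalKrullDim (D.support : Set X) = ((1 : ℕ) : WithBot ℕ∞)) :
    B k (clI' D hD) (InvCl.mk H hH.1) ≤ B k (clI' C hC) (InvCl.mk H hH.1) := by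
  have hne : D ≠ ⊤ := by
    intro h
    rw [h, Scheme.IdealSheafData.support_top] at hDd
    have : topologicalKrullDim (((⊥ : Closeds X) : Set X)) < ((1 : ℕ) : WithBot ℕ∞) := dim_empty_lt' 1
    exact this.ne hDd
  have hDneg := B_clI'_ample_neg k hX hD hne hH
  have hID := FlatMor12.IdealModGen.isInvertible_idealMod D hD
  obtain ⟨n, hn⟩ := hgen (PicGrp.cls (ClSub.idealMod D) hID)
  set h := InvCl.mk H hH.1
  obtain ⟨m, rfl | rfl⟩ := Int.eq_nat_or_neg n
  · rw [zpow_natCast] at hn
    obtain ⟨e⟩ : Nonempty (ClSub.idealMod D ≅ CohB1.tensorPow (ClSub.idealMod C) m) :=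
      (PicGrp.cls_eq_cls_iff hID (AmpleLib.isInvertible_tensorPow hI m)).1
        (hn.trans (Subtype.ext (PicGrp.cls_pow_val hI m)))
    have h1 : clI' D hD = clI' C hC ^ m := by
      rw [clI', clI', InvCl.mk_eq hID (AmpleLib.isInvertible_tensorPow hI m) e, InvCl.mk_tensorPow]
    rw [h1, B_pow_left k hX.le] at hDneg ⊢
    have hm : 1 ≤ m := by
      rcases Nat.eq_zero_or_pos m with rfl | h
      · simp at hDneg
      · exact h
    have hm' : (1 : ℤ) ≤ m := by exact_mod_cast hm
    nlinarith
  · exfalso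
    rw [zpow_neg, zpow_natCast, eq_inv_iff_mul_eq_one] at hn
    rw [show PicGrp.cls (ClSub.idealMod C) hI ^ m =
      PicGrp.cls (CohB1.tensorPow (ClSub.idealMod C) m) (AmpleLib.isInvertible_tensorPow hI m) from
      Subtype.ext (PicGrp.cls_pow_val hI m)] at hn
    obtain ⟨e⟩ := (PicGrp.cls_mul_cls_eq_one_iff hID _).1 hn
    have h1 : clI' D hD * clI' C hC ^ m = 1 := by
      rw [clI', clI', ← InvCl.mk_tensorPow hI m]
      exact (InvCl.mk_mul hID _).trans (InvCl.mk_eq _ isInvertible_structureModule e)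
    have h2 := B_one_left k hX.le h
    rw [← h1, B_mul_left k hX.le, B_pow_left k hX.le] at h2
    nlinarith [Int.natCast_nonneg m]

end PicardCyclic

section LM

variable {X C : Scheme.{u}} (k : Type u) [Field k] [IsAlgClosed k] [X.Over (Spec (CommRingCat.of k))]
  [IsProper (X ↘ Spec (CommRingCat.of k))] [IsIntegral X] [Smooth (X ↘ Spec (CommRingCat.of k))]
  [PicGrp.Law X] (hX : topologicalKrullDim X = ((2 : ℕ) : WithBot ℕ∞))
  [C.Over (Spec (CommRingCat.of k))] [IsIntegral C] [Smooth (C ↘ Spec (CommRingCat.of k))]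
  (hC : topologicalKrullDim C = 1) (i : C ⟶ X) [IsClosedImmersion i]
  (hi : i ≫ (X ↘ Spec (CommRingCat.of k)) = C ↘ Spec (CommRingCat.of k))
  (hK : ExtPow.IsExtPow 2 (Omega.sheaf (X ↘ Spec (CommRingCat.of k))) (Coh.structureModule X))
  (hq : Module.finrank k (Coh.HH X (Coh.structureModule X) 1) = 0)
  (hI : PicF.IsInvertible (ClSub.idealMod i.ker))
  (hgen : ∀ c : PicLoc.PicSet X, ∃ n : ℤ, c = PicGrp.cls (ClSub.idealMod i.ker) hI ^ n)
  {A : C.Modules} (hA : PicF.IsInvertible A) {n : ℕ} (lam : FlatMod.freeMod X n ⟶ (Coh.push i).obj A)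
  [Epi lam] (hlam : Function.Bijective (SerreDual.hmap k lam 0))
include k hX hC hi hK hq hI hgen hA hlam

/-- Nonzero endomorphisms of the kernel are monomorphisms. -/
theorem mono_endomorphism (φ : kernel lam ⟶ kernel lam) (hφ : φ ≠ 0) : Mono φ := by
  classical
  haveI := isNoetherian_of_proper (X := X) k
  haveI := isSeparated_of_proper (X := X) k
  haveI := isProper_curve k hX hC i hi
  haveI := isNoetherian_of_proper (X := C) k
  haveI := isQCoh_of_isInvertible hA
  haveI := isQCoh_of_isInvertible (isInvertible_structureModule (X := C))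
  have hreg := smooth_regular k hX
  obtain ⟨H, hH⟩ := exists_ample k hX hreg
  have hE := effCartier_ker k hX hC i hi
  obtain ⟨hint, hdk⟩ := isCrv_ker i hC
  haveI := hint
  set h := InvCl.mk H hH.1
  set δ := - B k (clI' i.ker hE) h with hδdef
  have hne : i.ker ≠ ⊤ := by
    intro h'
    rw [h', Scheme.IdealSheafData.support_top] at hdk
    exact (dim_empty_lt' 1).ne hdk
  have hneg : B k (clI' i.ker hE) h < 0 := B_clI'_ample_neg k hX hE hne hH
  have hδ : 0 < δ := by omega
  have hmin : ∀ (D : X.IdealSheafData) (hD : BlowUp.IsEffCartierIdeal D), IsIntegral D.subscheme →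
      topologicalKrullDim (D.support : Set X) = ((1 : ℕ) : WithBot ℕ∞) → B k (clI' D hD) h ≤ - δ :=
    fun D hD hDi hDd => by
      have : B k (clI' D hD) h ≤ B k (clI' i.ker hE) h := hmin_of_cyclic k hX hE hI hgen hH hneg D hD hDi hDd
      omega
  have hFf := isFinLocFree_lm k hX hC i hi hA lam
  have hFc := CohBC.isCoh_of_isFinLocFree hFf
  have hPc := CohBC.isCoh_of_isFinLocFree (isFinLocFree_freeMod' (X := X) n)
  have hMc := isCoh_push_line k hX hC i hi hA (M := A) hA
  -- the degree of the kernel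
  have hdegF : dH k h (kernel lam) = - δ := by
    have hS : (ShortComplex.mk (kernel.ι lam) lam (kernel.condition lam)).ShortExact :=
      { exact := ShortComplex.exact_kernel lam }
    have hadd := dH_additive k h hS hFc hPc hMc
    dsimp only at hadd
    rw [dH_free k h n] at hadd
    have hM : dH k h ((Coh.push i).obj A) = δ := by
      rw [dH, grk_push k hX hC i hi A, Nat.cast_zero, zero_mul, sub_zero]
      rw [show h = InvCl.mk H hH.1 from rfl, deg_mk, euler_congr k X (tensorComm _ H),
        euler_tensor_push_line k i hi hC (isFinLocFreeOfRank_one hH.1) hA,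
        ← AbCubeLib.euler_push k i hi A]
      obtain ⟨eQ⟩ := nonempty_push_iso_quotMod i
      have h1 := deg_quotMod k hE h
      rw [show h = InvCl.mk H hH.1 from rfl, deg_mk,
        euler_congr k X (AmpleLib.tensorIso eQ.symm (Iso.refl H) ≪≫ tensorComm _ _),
        euler_congr k X eQ.symm, ← AbCubeLib.euler_push k i hi (Coh.structureModule C)] at h1
      rw [hδdef, show h = InvCl.mk H hH.1 from rfl]
      push_cast
      linarith
    omega
  -- no subsheaf of degree zero
  have hsub : ∀ (G : X.Modules), Coh.IsCoh G → ∀ (a : G ⟶ kernel lam) [Mono a], ¬ IsZero G → dH k h G ≤ - δ := by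
    intro G hG a _ hG0
    rcases sub_free_cases k hX hK hδ hmin n hG (a ≫ kernel.ι lam) hG0 with h1 | ⟨I, ι, v, u, hd, hv, huv, -⟩
    · exact h1
    exfalso
    have hz : ι ≫ (v ≫ lam) = 0 := by
      rw [← Category.assoc, ← huv, Category.assoc, Category.assoc, kernel.condition, comp_zero, comp_zero]
    obtain ⟨ψ, hψ⟩ : ∃ ψ : cokernel ι ⟶ (Coh.push i).obj A, cokernel.π ι ≫ ψ = v ≫ lam :=
      ⟨cokernel.desc ι _ hz, cokernel.π_desc _ _ _⟩
    have hv1 : v ≫ lam ≠ 0 := by
      intro h0
      obtain ⟨h00, -⟩ := h0_h1_lm k hX hC i hi hA lam hK hq hlam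
      haveI := h00
      haveI : Subsingleton (Coh.structureModule X ⟶ kernel lam) :=
        (SerreDual.homUnitHH k (kernel lam)).toEquiv.subsingleton
      refine hv ?_
      rw [← kernel.lift_ι lam v h0, Subsingleton.elim (kernel.lift lam v h0) 0, zero_comp]
    refine hv1 ((SerreDual.homUnitEquiv k _).injective ?_)
    rw [map_zero]
    show (v ≫ lam).app ⊤ (1 : Γ(X, ⊤)) = 0
    set s : Γ(A, i ⁻¹ᵁ ⊤) := (v ≫ lam).app ⊤ (1 : Γ(X, ⊤)) with hs
    have hgen' : i (genericPoint C) ∉ CohB1.support (cokernel ι) := by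
      intro hin
      have hcl : Set.range i ⊆ CohB1.support (cokernel ι) := by
        rintro _ ⟨c, rfl⟩
        have hT : IsClosed (CohB1.support (cokernel ι)) :=
          isClosed_support _ (locallyFinGen_of_isFT _
            (isFT_of_epi (cokernel.π ι) (isCoh_structureModule X).2))
        exact ((genericPoint_specializes c).map i.continuous).mem_closed hT hin
      have h1 : topologicalKrullDim (Set.range i) < ((1 : ℕ) : WithBot ℕ∞) := (dim_mono hcl).trans_lt hd
      rw [← IsHomeomorph.topologicalKrullDim_eq _ i.isClosedEmbedding.isEmbedding.toHomeomorph.isHomeomorph, hC] at h1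
      exact absurd h1 (by norm_num)
    have hgerm : ((Coh.push i).obj A).presheaf.germ ⊤ (i (genericPoint C)) trivial
        (show Γ((Coh.push i).obj A, ⊤) from s) = 0 := by
      have h1 := stalk_map_germ (cokernel.π ι) (W := (⊤ : X.Opens)) (y := i (genericPoint C)) trivial
        (show Γ(Coh.structureModule X, ⊤) from (1 : Γ(X, ⊤)))
      haveI : Subsingleton ((cokernel ι).presheaf.stalk (i (genericPoint C))) := not_not.1 hgen'
      have h2 := stalk_map_germ ψ (W := (⊤ : X.Opens)) (y := i (genericPoint C)) trivial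
        ((cokernel.π ι).app ⊤ (show Γ(Coh.structureModule X, ⊤) from (1 : Γ(X, ⊤))))
      haveI : Subsingleton ((DerSch.stalkFunctor X (i (genericPoint C))).obj (cokernel ι)) := not_not.1 hgen'
      have h3 := h2.symm.trans ((congrArg _ (Subsingleton.elim _ 0)).trans (map_zero _))
      rw [hs]
      refine Eq.trans ?_ h3
      rw [← hψ]
      rfl
    have hgA : A.presheaf.germ (i ⁻¹ᵁ ⊤) (genericPoint C) trivial s = 0 := by
      have h3 := CycLib28.pushGerm_germ i A (i (genericPoint C)) (genericPoint C) rfl ⊤ trivial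
        (show Γ((Coh.push i).obj A, ⊤) from s)
      rw [hgerm, map_zero] at h3
      exact h3.symm
    show s = 0
    refine RefHullLib.section_ext_of_germ_genericPoint (F := A) (isQCoh_of_isInvertible hA)
      (fun x _ => isTorsionFree_stalk_of_isFinLocFree (isFinLocFree_of_rank (isFinLocFreeOfRank_one hA)) x)
      s 0 fun hη => ?_
    rw [map_zero]
    exact hgA
  -- conclusion
  by_contra hm
  have hk0 : ¬ IsZero (kernel φ) := fun h0 => hm (Preadditive.mono_of_isZero_kernel φ h0)
  have hi0 : ¬ IsZero (Abelian.image φ) := EulerLib.image_ne_zero hφ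
  have hKc : Coh.IsCoh (kernel φ) := isCoh_kernel φ hFc hFc.1
  have hIc : Coh.IsCoh (Abelian.image φ) := EulerLib.isCoh_image φ hFc hFc
  have hS : (ShortComplex.mk (kernel.ι φ) (Abelian.factorThruImage φ)
      (by rw [← cancel_mono (Abelian.image.ι φ), Category.assoc, Abelian.image.fac, kernel.condition, zero_comp])).ShortExact :=
    { exact := ShortComplex.exact_of_f_is_kernel _
        (isKernelOfComp (Abelian.image.ι φ) _ (kernelIsKernel φ) _ (Abelian.image.fac φ)) }
  have hadd := dH_additive k h hS hKc hFc hIc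
  dsimp only at hadd
  have h1 := hsub _ hKc (kernel.ι φ) hk0
  have h2 := hsub _ hIc (Abelian.image.ι φ) hi0
  omega

/-- **Simplicity** of Lazarsfeld–Mukai bundles. -/
theorem exists_eq_smul_id (φ : kernel lam ⟶ kernel lam) : ∃ c : k, φ = c • 𝟙 (kernel lam) := by
  haveI := isNoetherian_of_proper (X := X) k
  by_cases h0 : IsZero (kernel lam)
  · exact ⟨0, h0.eq_of_src _ _⟩
  haveI : Nontrivial (kernel lam ⟶ kernel lam) :=
    ⟨𝟙 _, 0, fun h => h0 ((IsZero.iff_id_eq_zero _).2 h)⟩
  haveI := finite_end k (isFinLocFree_lm k hX hC i hi hA lam)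
  obtain ⟨c, hc⟩ := Module.End.exists_eigenvalue (Linear.rightComp k (kernel lam) φ)
  obtain ⟨ψ, hψ⟩ := hc.exists_hasEigenvector
  refine ⟨c, by_contra fun hne => hψ.2 ?_⟩
  haveI := mono_endomorphism k hX hC i hi hK hq hI hgen hA lam hlam (φ - c • 𝟙 _) (sub_ne_zero.2 hne)
  have h1 : ψ ≫ φ = c • ψ := hψ.apply_eq_smul
  refine (cancel_mono (φ - c • 𝟙 (kernel lam))).1 ?_
  rw [zero_comp, Preadditive.comp_sub, h1, Linear.comp_smul, Category.comp_id, sub_self]

end LM

end Groth.Agent.Surf15
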