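import Groth.Agent.Surf15.CycleSections

/-!
# Surf15: fundamental cycles and rational configurations
-/

set_option autoImplicit false
set_option linter.style.haveILetI false
set_option backward.isDefEq.respectTransparency.types false

universe u

open CategoryTheory CategoryTheory.Limits AlgebraicGeometry Opposite TopologicalSpace
open Groth.Agent.Coherent Groth.Agent.PicLib Groth.Agent.AmpleLib Groth.Agent.EulerLib
open Groth.Agent.CurveRR24 Groth.Agent.DimLib Groth.Agent.AssSch12

namespace Groth.Agent.Surf15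

variable {X : Scheme.{u}}

/-- A curve lying in the support of a divisor is a component. -/
theorem le_of_support_subset {C Z : X.IdealSheafData} [IsIntegral C.subscheme]
    (h : (C.support : Set X) ⊆ (Z.support : Set X)) : Z ≤ C := by
  rw [VarietyLib.eq_clI_of_isIntegral C]
  refine Scheme.IdealSheafData.le_support_iff_le_vanishingIdeal.1 ?_
  exact (support_eq_closure_gen C).ge.trans h

variable (k : Type u) [Field k] [X.Over (Spec (CommRingCat.of k))]
  [IsProper (X ↘ Spec (CommRingCat.of k))]

include k in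
/-- The cohomology of the twists of the empty divisor vanishes. -/
theorem subsingleton_HH_quotMod_top_twist {M : X.Modules} (hM : PicF.IsInvertible M) (q : ℕ) :
    Subsingleton (Coh.HH X (CohB1.tensorMod (ClSub.quotMod (⊤ : X.IdealSheafData)) M) q) := by
  haveI := isNoetherian_of_proper (X := X) k
  haveI := isSeparated_of_proper (X := X) k
  refine subsingleton_HH_of_support (⊥ : Closeds X) _ (isCoh_twist hM (isCoh_quotMod _)).1 ?_ q ?_
  · rw [EulerLib.support_twist hM]
    refine (support_quotMod_subset _).trans ?_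
    rw [Scheme.IdealSheafData.support_top]
  · haveI : IsEmpty (TopologicalSpace.IrreducibleCloseds ((⊥ : Closeds X) : Set X)) :=
      ⟨fun Z => let ⟨z, _⟩ := Z.isIrreducible'.1; z.2⟩
    rw [topologicalKrullDim, Order.krullDim_eq_bot]
    exact WithBot.bot_lt_coe _

include k in
/-- The Euler characteristic of a twist of a divisor. -/
theorem euler_quotMod_twist_eq (hX : topologicalKrullDim X ≤ ((2 : ℕ) : WithBot ℕ∞)) {A : X.IdealSheafData}
    (hA : BlowUp.IsEffCartierIdeal A) {M : X.Modules} (hM : PicF.IsInvertible M) :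
    Curv2.euler k X (CohB1.tensorMod (ClSub.quotMod A) M) =
      (Module.finrank k (Coh.HH X (CohB1.tensorMod (ClSub.quotMod A) M) 0) : ℤ) -
      Module.finrank k (Coh.HH X (CohB1.tensorMod (ClSub.quotMod A) M) 1) := by
  haveI := isNoetherian_of_proper (X := X) k
  haveI := isSeparated_of_proper (X := X) k
  rw [euler_eq_sum k X _ 1 fun q hq => subsingleton_HH_of_support A.support _
    (isCoh_twist hM (isCoh_quotMod A)).1
    (by rw [EulerLib.support_twist hM]; exact support_quotMod_subset A) q
    (lt_of_le_of_lt (VarietyLib.dim_support_le_of_effCartier k (e := 1) hX hA) (by exact_mod_cast hq))]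
  simp [Finset.sum_range_succ]
  ring

variable [IsIntegral X] [IsAlgClosed k]
variable (hX : topologicalKrullDim X = ((2 : ℕ) : WithBot ℕ∞))
  (hreg : ∀ x : X, IsRegularLocalRing (X.presheaf.stalk x))

include k hX hreg

/-- The steps of a computation sequence of a cycle. -/
def HasSteps (Z : X.IdealSheafData) : Prop :=
  ∀ A R (hA : BlowUp.IsEffCartierIdeal A), BlowUp.IsEffCartierIdeal R → A ≠ ⊤ → R ≠ ⊤ →
      Z = A * R → ∃ (C : X.IdealSheafData) (hC : BlowUp.IsEffCartierIdeal C), IsCrv C ∧ R ≤ C ∧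
        0 < B k (clI' A hA) (clI' C hC)

omit hreg in
/-- Along a computation sequence the Euler characteristic drops; if it does not, `H¹` of the
nonnegative twists vanishes. -/
theorem complement_step {Z : X.IdealSheafData} (hstep : HasSteps k Z) {R : X.IdealSheafData}
    (hR : BlowUp.IsEffCartierIdeal R) :
    ∀ (A : X.IdealSheafData) (hA : BlowUp.IsEffCartierIdeal A), A ≠ ⊤ → Z = A * R →
      Curv2.euler k X (ClSub.quotMod R) - B k (clI' A hA) (clI' R hR) ≤ 0 ∧
      (0 ≤ Curv2.euler k X (ClSub.quotMod R) - B k (clI' A hA) (clI' R hR) →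
        ∀ (M : X.Modules) (hM : PicF.IsInvertible M),
          (∀ C (hC : BlowUp.IsEffCartierIdeal C), IsCrv C → Z ≤ C →
            - B k (clI' A hA) (clI' C hC) ≤ deg k (ClSub.quotMod C) (InvCl.mk M hM)) →
          Subsingleton (Coh.HH X (CohB1.tensorMod (ClSub.quotMod R) M) 1)) := by
  haveI := isNoetherian_of_proper (X := X) k
  haveI := H8Top.wellFoundedGT_idealSheafData X
  induction R using WellFoundedGT.induction with
  | ind R ih =>
    intro A hA hA0 e
    by_cases hR0 : R = ⊤
    · subst hR0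
      have hO := isInvertible_structureModule (X := X)
      have h1 : Curv2.euler k X (ClSub.quotMod (⊤ : X.IdealSheafData)) = 0 := by
        haveI := subsingleton_HH_quotMod_top_twist k (X := X) hO 0
        haveI := subsingleton_HH_quotMod_top_twist k (X := X) hO 1
        have h := euler_quotMod_twist_eq k hX.le hR hO
        rw [Module.finrank_zero_of_subsingleton, Module.finrank_zero_of_subsingleton,
          euler_congr k X (AmpleLib.tensorComm _ _ ≪≫ unitTensorIso _)] at h
        simpa using h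
      have h2 : B k (clI' A hA) (clI' (⊤ : X.IdealSheafData) hR) = 0 := by
        have h3 := clI'_congr (Scheme.IdealSheafData.top_mul (⊤ : X.IdealSheafData)).symm hR
          (ModPairLib.isEffCartier_mul hR hR)
        rw [clI'_mul ⊤ ⊤ hR hR] at h3
        have h4 := congrArg (B k (clI' A hA)) h3
        rw [B_mul_right k hX.le] at h4
        omega
      exact ⟨by omega, fun _ M hM _ => subsingleton_HH_quotMod_top_twist k hM 1⟩
    obtain ⟨C, hC, hCc, hle, hpos⟩ := hstep A R hA hR hA0 hR0 e
    obtain ⟨R', hR'⟩ := ModPairLib.exists_mul_eq hC hle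
    have hR'c : BlowUp.IsEffCartierIdeal R' := ModPairLib.isEffCartier_of_mul (hR'.symm ▸ hR) hC
    have hlt : R < R' := lt_of_le_of_ne (hR' ▸ mul_le_fst R' C) fun h =>
      hCc.ne_top (ModPairLib.eq_top_of_mul_eq hR'c (by rw [mul_comm, hR', h]))
    subst hR'
    have hAC := ModPairLib.isEffCartier_mul hA hC
    have hAC0 : A * C ≠ ⊤ := fun h => hCc.ne_top (top_le_iff.1 (h ▸ mul_le_snd A C))
    obtain ⟨i1, i2⟩ := ih R' hlt hR'c (A * C) hAC hAC0 (by rw [e, mul_comm R' C, mul_assoc])
    haveI := hCc.1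
    have hχ := (curve_facts k C hCc.2 (isInvertible_structureModule (X := X))).2.1
    have e1 := euler_mul k hR'c hC
    have e2 : B k (clI' A hA) (clI' (R' * C) hR) = B k (clI' A hA) (clI' R' hR'c) + B k (clI' A hA) (clI' C hC) := by
      rw [clI'_congr rfl hR (ModPairLib.isEffCartier_mul hR'c hC), clI'_mul R' C hR'c hC, B_mul_right k hX.le]
    have e3 : B k (clI' (A * C) hAC) (clI' R' hR'c) = B k (clI' A hA) (clI' R' hR'c) + B k (clI' C hC) (clI' R' hR'c) := by
      rw [clI'_mul A C hA hC, B_mul_left k hX.le]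
    have e4 := B_comm k (clI' R' hR'c) (clI' C hC)
    refine ⟨by omega, fun h0 M hM hdeg => ?_⟩
    have hIC := FlatMor12.IdealModGen.isInvertible_idealMod C hC
    have hM' := isInvertible_tensorMod hIC hM
    have h1 := i2 (by omega) (CohB1.tensorMod (ClSub.idealMod C) M) hM' fun D hD hDc hDle => by
      have h := hdeg D hD hDc hDle
      rw [deg_twist k hX hC hD hM hM', clI'_mul A C hA hC, B_mul_left k hX.le, B_comm k (clI' D hD)]
      omega
    haveI := finite_HH_of_isCoh k (isCoh_quotMod C) 1
    have hC1 : Module.finrank k (Coh.HH X (ClSub.quotMod C) 1) = 0 := by omega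
    have h2 := (curve_facts k C hCc.2 hM).2.2.2.2 (Module.finrank_zero_iff.1 hC1) (by
      have h := hdeg C hC hCc ((e ▸ mul_le_snd A (R' * C)).trans (mul_le_snd R' C))
      omega)
    rw [mul_comm R' C]
    exact (h1_ses_twist k hX.le hC hR'c hM).1 h1 h2

/-- A cycle with a computation sequence and Euler characteristic one: the nonnegative twists have no `H¹`. -/
theorem h1_twist_eq_zero {Z : X.IdealSheafData} (hZ : BlowUp.IsEffCartierIdeal Z) (hZ0 : Z ≠ ⊤)
    (hstep : HasSteps k Z) (hχ : Curv2.euler k X (ClSub.quotMod Z) = 1) {L : X.Modules}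
    (hL : PicF.IsInvertible L)
    (hdeg : ∀ C, IsCrv C → Z ≤ C → 0 ≤ deg k (ClSub.quotMod C) (InvCl.mk L hL)) :
    Subsingleton (Coh.HH X (CohB1.tensorMod (ClSub.quotMod Z) L) 1) := by
  haveI := isNoetherian_of_proper (X := X) k
  obtain ⟨C, hCi, hCd, hC, hle⟩ := exists_curve k hX hreg hZ hZ0
  have hCc : IsCrv C := ⟨hCi, hCd⟩
  obtain ⟨R, hR⟩ := ModPairLib.exists_mul_eq hC hle
  have hRc : BlowUp.IsEffCartierIdeal R := ModPairLib.isEffCartier_of_mul (hR.symm ▸ hZ) hC
  subst hR
  obtain ⟨i1, i2⟩ := complement_step k hX hstep hRc C hC hCc.ne_top (mul_comm R C)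
  have e1 := euler_mul k hC hRc
  rw [mul_comm C R] at e1
  have h2 := (curve_facts k C hCd (isInvertible_structureModule (X := X))).2.1
  have hIC := FlatMor12.IdealModGen.isInvertible_idealMod C hC
  have hM := isInvertible_tensorMod hIC hL
  have h1 := i2 (by omega) (CohB1.tensorMod (ClSub.idealMod C) L) hM fun D hD hDc hDle => by
    have h := hdeg D hDc hDle
    rw [deg_twist k hX hC hD hL hM, B_comm k (clI' D hD)]
    omega
  haveI := finite_HH_of_isCoh k (isCoh_quotMod C) 1
  have hC1 : Module.finrank k (Coh.HH X (ClSub.quotMod C) 1) = 0 := by omega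
  have h3 := (curve_facts k C hCd hL).2.2.2.2 (Module.finrank_zero_iff.1 hC1) (by
    have h := hdeg C hCc hle
    omega)
  rw [mul_comm R C]
  exact (h1_ses_twist k hX.le hC hRc hL).1 h1 h3

omit [IsAlgClosed k] in
/-- A fundamental cycle of a connected configuration: all its curves occur, and it has computation steps. -/
theorem fundamental_facts {ι : Type*} [Fintype ι] [DecidableEq ι] (D : ι → X.IdealSheafData)
    (hDinj : Function.Injective D) (hD : ∀ i, IsCrv (D i)) (hE : ∀ i, BlowUp.IsEffCartierIdeal (D i))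
    (hconn : ∀ S : Finset ι, S.Nonempty → Sᶜ.Nonempty →
      ∃ i ∈ S, ∃ j ∈ Sᶜ, B k (clI' (D i) (hE i)) (clI' (D j) (hE j)) ≠ 0)
    {Z : X.IdealSheafData} (hZ : BlowUp.IsEffCartierIdeal Z) (hZ0 : Z ≠ ⊤)
    (hs : (Z.support : Set X) ⊆ ⋃ i, ((D i).support : Set X))
    (hneg : ∀ i, B k (clI' (D i) (hE i)) (clI' Z hZ) ≤ 0)
    (hmin : ∀ A (hA : BlowUp.IsEffCartierIdeal A), A ≠ ⊤ →
      (A.support : Set X) ⊆ ⋃ i, ((D i).support : Set X) →
      (∀ i, B k (clI' (D i) (hE i)) (clI' A hA) ≤ 0) → A ≤ Z) :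
    (∀ i, Z ≤ D i) ∧ HasSteps k Z := by
  classical
  constructor
  · by_contra hcon
    push Not at hcon
    obtain ⟨i₀, hi₀⟩ := hcon
    let S : Finset ι := Finset.univ.filter fun i => Z ≤ D i
    have hSc : Sᶜ.Nonempty := ⟨i₀, by simp [S, hi₀]⟩
    have hS : S.Nonempty := by
      obtain ⟨C, hCi, hCd, hC, hle⟩ := exists_curve k hX hreg hZ hZ0
      obtain ⟨i, rfl⟩ := exists_eq_of_crv k D hD ⟨hCi, hCd⟩ hle hs
      exact ⟨i, by simp [S, hle]⟩
    obtain ⟨i, hi, j, hj, hne⟩ := hconn S hS hSc
    have hiZ : Z ≤ D i := by simpa [S] using hi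
    have hjZ : ¬ Z ≤ D j := by simpa [S] using hj
    haveI := (hD i).1
    haveI := (hD j).1
    obtain ⟨W, hW⟩ := ModPairLib.exists_mul_eq (hE i) hiZ
    subst hW
    have hWc : BlowUp.IsEffCartierIdeal W := ModPairLib.isEffCartier_of_mul hZ (hE i)
    have h1 := B_clI'_nonneg k hX.le hWc (hE j) (hD j).2 fun hsub => hjZ
      ((mul_le_fst W (D i)).trans (le_of_support_subset hsub))
    have h2 := B_clI'_nonneg k hX.le (hE i) (hE j) (hD j).2 fun hsub => by
      obtain ⟨_, hji⟩ := exists_eq_of_crv k (fun _ : Unit => D i) (fun _ => hD i) (hD j)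
        (le_of_support_subset hsub) fun x hx => Set.mem_iUnion.2 ⟨(), hx⟩
      exact hjZ (hji ▸ hiZ)
    have h3 := hneg j
    rw [clI'_congr rfl hZ (ModPairLib.isEffCartier_mul hWc (hE i)), clI'_mul W (D i) hWc (hE i),
      B_mul_right k hX.le] at h3
    rw [B_comm k] at hne
    omega
  · intro A R hA hR hA0 hR0 e
    subst e
    have hAs : (A.support : Set X) ⊆ ⋃ i, ((D i).support : Set X) :=
      fun x hx => hs (Scheme.IdealSheafData.support_antitone (mul_le_fst A R) hx)
    by_contra hcon
    push Not at hcon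
    have hall : ∀ i, B k (clI' (D i) (hE i)) (clI' A hA) ≤ 0 := by
      intro i
      by_cases hle : R ≤ D i
      · rw [B_comm k]
        exact hcon (D i) (hE i) (hD i) hle
      · haveI := (hD i).1
        have h1 := B_clI'_nonneg k hX.le hR (hE i) (hD i).2 fun hsub => hle (le_of_support_subset hsub)
        have h2 := hneg i
        rw [clI'_congr rfl hZ (ModPairLib.isEffCartier_mul hA hR), clI'_mul A R hA hR,
          B_mul_right k hX.le] at h2
        omega
    have heq : A * R = A := le_antisymm (mul_le_fst A R) (hmin A hA hA0 hAs hall)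
    exact hR0 (ModPairLib.eq_top_of_mul_eq hA (by rw [mul_comm, heq]))

/-- A configuration whose fundamental cycle has Euler characteristic one is rational. -/
theorem h1_vanish_of_fundamental {Z : X.IdealSheafData} (hZ : BlowUp.IsEffCartierIdeal Z) (hZ0 : Z ≠ ⊤)
    (hstep : HasSteps k Z) (hχ : Curv2.euler k X (ClSub.quotMod Z) = 1)
    (hnef : ∀ C (hC : BlowUp.IsEffCartierIdeal C), IsCrv C → Z ≤ C → B k (clI' C hC) (clI' Z hZ) ≤ 0)
    {W : X.IdealSheafData} (hW : BlowUp.IsEffCartierIdeal W) (hW0 : W ≠ ⊤)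
    (hWZ : ∀ C, IsCrv C → W ≤ C → Z ≤ C) :
    Subsingleton (Coh.HH X (ClSub.quotMod W) 1) := by
  haveI := isNoetherian_of_proper (X := X) k
  obtain ⟨N, hN⟩ : ∃ N : ℕ, Z ^ (N + 1) ≤ W := by
    refine cycle_rec k hX hreg (P := fun W _ => ∃ N : ℕ, Z ^ (N + 1) ≤ W)
      (fun W C _ _ _ _ ⟨a, ha⟩ ⟨b, hb⟩ => ⟨a + b + 1, ?_⟩) hW hW0
      fun C hC hCc hle => ⟨0, by rw [zero_add, pow_one]; exact hWZ C hCc hle⟩
    rw [show a + b + 1 + 1 = (a + 1) + (b + 1) by ring, pow_add]
    intro U
    rw [Scheme.IdealSheafData.ideal_mul, Scheme.IdealSheafData.ideal_mul, Pi.mul_apply, Pi.mul_apply]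
    exact Ideal.mul_mono (ha U) (hb U)
  have hO := isInvertible_structureModule (X := X)
  have u : ∀ M : X.Modules, CohB1.tensorMod M (Coh.structureModule X) ≅ M := fun M =>
    AmpleLib.tensorComm _ _ ≪≫ unitTensorIso M
  have hB1 : ∀ C (hC : BlowUp.IsEffCartierIdeal C), deg k (ClSub.quotMod C) (InvCl.mk _ hO) = 0 :=
    fun C hC => by rw [deg_mk, euler_congr k X (u _), sub_self]
  have hpow : ∀ m : ℕ, Subsingleton (Coh.HH X (ClSub.quotMod (Z ^ (m + 1))) 1) := by
    intro m
    induction m with
    | zero =>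
      rw [zero_add, pow_one]
      exact subsingleton_HH_congr (u _) 1 (h1_twist_eq_zero k hX hreg hZ hZ0 hstep hχ hO
        fun C hC _ => (hB1 C (hC.isEffCartier k hX hreg)).ge)
    | succ m ih =>
      have hP := Inters29.isEffCartier_pow hZ (m + 1)
      have hI := FlatMor12.IdealModGen.isInvertible_idealMod _ hP
      have hM := isInvertible_tensorMod hI hO
      have h1 := h1_twist_eq_zero k hX hreg hZ hZ0 hstep hχ hM fun C hCc hle => by
        have hC := hCc.isEffCartier k hX hreg
        rw [deg_twist k hX hP hC hO hM, hB1 C hC]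
        have hcl : ∀ j : ℕ, B k (clI' C hC) (clI' (Z ^ (j + 1)) (Inters29.isEffCartier_pow hZ (j + 1))) ≤ 0 := by
          intro j
          induction j with
          | zero =>
            rw [clI'_congr (show Z ^ (0 + 1) = Z by rw [zero_add, pow_one]) _ hZ]
            exact hnef C hC hCc hle
          | succ j ihj =>
            rw [clI'_congr (pow_succ Z (j + 1)) _
              (ModPairLib.isEffCartier_mul (Inters29.isEffCartier_pow hZ (j + 1)) hZ),
              clI'_mul _ _ (Inters29.isEffCartier_pow hZ (j + 1)) hZ, B_mul_right k hX.le]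
            have := hnef C hC hCc hle
            omega
        have := hcl m
        omega
      rw [pow_succ]
      exact subsingleton_HH_congr (u _) 1 ((h1_ses_twist k hX.le hP hZ hO).1 h1
        (subsingleton_HH_congr (u _).symm 1 ih))
  obtain ⟨K, hK⟩ := ModPairLib.exists_mul_eq hW hN
  have hKc : BlowUp.IsEffCartierIdeal K :=
    ModPairLib.isEffCartier_of_mul (hK.symm ▸ Inters29.isEffCartier_pow hZ (N + 1)) hW
  have h := hpow N
  rw [← hK, mul_comm] at h
  exact subsingleton_HH_congr (u _) 1 ((h1_ses_twist k hX.le hW hKc hO).2 (subsingleton_HH_congr (u _).symm 1 h))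

end Groth.Agent.Surf15
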