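import Groth.Agent.Surf15.Divisor
import Groth.Prelude.Def_NumR

/-!
# Surf15: classes of invertible modules in the real Néron–Severi space of a surface
-/

set_option autoImplicit false
set_option linter.style.haveILetI false
set_option backward.isDefEq.respectTransparency.types false

universe u

open CategoryTheory CategoryTheory.Limits AlgebraicGeometry Opposite TopologicalSpace
open Groth.Agent.Coherent Groth.Agent.PicLib Groth.Agent.AmpleLib Groth.Agent.EulerLib
open Groth.Agent.DimLib Groth.Agent.AssSch12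

namespace Groth.Agent.Surf15

variable {X : Scheme.{u}} (k : Type u) [Field k] [X.Over (Spec (CommRingCat.of k))] [PicGrp.Law X]

/-- The real class of an isomorphism class of invertible modules. -/
noncomputable def cR (a : InvCl X) : NumR.N1R k X :=
  Quotient.liftOn a (fun L => NumR.clR k X L.1 L.2) fun L M h => by
    show NumR.clR k X L.1 L.2 = NumR.clR k X M.1 M.2
    rw [NumR.clR, NumR.clR, NumR.cl, NumR.cl, (PicGrp.cls_eq_cls_iff L.2 M.2).2 h]

theorem cR_mk {L : X.Modules} (hL : PicF.IsInvertible L) : cR k (InvCl.mk L hL) = NumR.clR k X L hL := rfl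

theorem cR_mul (a b : InvCl X) : cR k (a * b) = cR k a + cR k b := by
  obtain ⟨L, hL, rfl⟩ := InvCl.exists_rep a
  obtain ⟨M, hM, rfl⟩ := InvCl.exists_rep b
  rw [InvCl.mk_mul, cR_mk, cR_mk, cR_mk, NumR.clR, NumR.clR, NumR.clR, ← map_add, NumR.cl, NumR.cl,
    NumR.cl, ← map_add, ← ofMul_mul]
  refine congrArg _ (congrArg _ (congrArg _ ?_))
  exact Subtype.ext (PicGrp.cls_mul_cls_val hL hM).symm

theorem cR_one : cR k (1 : InvCl X) = 0 := by
  have h := cR_mul k (1 : InvCl X) 1
  rw [one_mul] at h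
  simpa using h

theorem cR_pow (a : InvCl X) : ∀ n : ℕ, cR k (a ^ n) = (n : ℝ) • cR k a
  | 0 => by rw [pow_zero, cR_one, Nat.cast_zero, zero_smul]
  | n + 1 => by rw [pow_succ, cR_mul, cR_pow a n, Nat.cast_succ, add_smul, one_smul]

theorem cR_inv {a b : InvCl X} (h : a * b = 1) : cR k b = - cR k a := by
  have e := cR_mul k a b
  rw [h, cR_one] at e
  exact eq_neg_of_add_eq_zero_right e.symm

theorem exists_cR_zsmul (a : InvCl X) (z : ℤ) : ∃ c, cR k c = (z : ℝ) • cR k a := by
  obtain ⟨b, hb⟩ := exists_inv a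
  refine ⟨a ^ z.toNat * b ^ (-z).toNat, ?_⟩
  rw [cR_mul, cR_pow, cR_pow, cR_inv k hb, smul_neg, ← sub_eq_add_neg, ← sub_smul]
  congr 1
  exact_mod_cast Int.toNat_sub_toNat_neg z

theorem curveCl_eq (I : X.IdealSheafData) (hI : BlowUp.IsEffCartierIdeal I)
    (h : PicF.IsInvertible (ClSub.idealMod I)) : NumR.curveCl k X I h = - cR k (clI' I hI) := rfl

theorem span_range_cR : Submodule.span ℝ (Set.range (cR k : InvCl X → NumR.N1R k X)) = ⊤ := by
  refine eq_top_iff.2 ((NumR.span_clR (k := k) (X := X)).ge.trans (Submodule.span_mono ?_))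
  rintro _ ⟨L, hL, rfl⟩
  exact ⟨InvCl.mk L hL, cR_mk k hL⟩

variable [IsProper (X ↘ Spec (CommRingCat.of k))]

include k in
/-- The form on real classes restricts to the pairing. -/
theorem bil_cR (hX : topologicalKrullDim X ≤ ((2 : ℕ) : WithBot ℕ∞))
    {β : NumR.N1R k X →ₗ[ℝ] NumR.N1R k X →ₗ[ℝ] ℝ} (hβ : NumR.IsIntForm₂ k X β) (a b : InvCl X) :
    β (cR k a) (cR k b) = (B k a b : ℝ) := by
  obtain ⟨L, hL, rfl⟩ := InvCl.exists_rep a
  obtain ⟨M, hM, rfl⟩ := InvCl.exists_rep b
  rw [cR_mk, cR_mk, hβ L M hL hM, intNum_eq_B k hX hL hM]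

include k in
theorem bil_comm (hX : topologicalKrullDim X ≤ ((2 : ℕ) : WithBot ℕ∞))
    {β : NumR.N1R k X →ₗ[ℝ] NumR.N1R k X →ₗ[ℝ] ℝ} (hβ : NumR.IsIntForm₂ k X β) (x y : NumR.N1R k X) :
    β x y = β y x := by
  have h : β = β.flip := by
    refine LinearMap.ext_on (span_range_cR k) ?_
    rintro _ ⟨a, rfl⟩
    refine LinearMap.ext_on (span_range_cR k) ?_
    rintro _ ⟨b, rfl⟩
    rw [LinearMap.flip_apply, bil_cR k hX hβ, bil_cR k hX hβ, B_comm k]
  exact LinearMap.congr_fun (LinearMap.congr_fun h x) y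

include k in
/-- A class pairing to zero with everything on a regular surface is zero in `N¹`. -/
theorem cR_eq_zero [IsIntegral X] (hX : topologicalKrullDim X = ((2 : ℕ) : WithBot ℕ∞))
    (hreg : ∀ x : X, IsRegularLocalRing (X.presheaf.stalk x)) {a : InvCl X} (h : ∀ b, B k a b = 0) :
    cR k a = 0 := by
  haveI := isNoetherian_of_proper (X := X) k
  haveI := isSeparated_of_proper (X := X) k
  obtain ⟨L, hL, rfl⟩ := InvCl.exists_rep a
  rw [cR_mk, NumR.clR, NumR.cl_eq_zero hL, map_zero]
  intro Y i _ _ hY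
  letI : Y.Over (Spec (CommRingCat.of k)) := ⟨i ≫ (X ↘ Spec (CommRingCat.of k))⟩
  haveI : IsProper (Y ↘ Spec (CommRingCat.of k)) :=
    inferInstanceAs (IsProper (i ≫ (X ↘ Spec (CommRingCat.of k))))
  haveI := isNoetherian_of_proper (X := Y) k
  have hLY := PicLoc.isInvertible_pullback i hL
  let L' := (Scheme.Modules.pullback i).obj L
  have hY' : topologicalKrullDim Y ≤ ((1 : ℕ) : WithBot ℕ∞) := hY.le.trans (by exact_mod_cast le_rfl)
  rw [Pic13.curveDeg]
  show FGA.eulerCharLE k Y L' 1 - FGA.eulerCharLE k Y (Coh.structureModule Y) 1 = 0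
  rw [eulerCharLE_eq k _ (CurveRR24.isCoh_of_isInvertible k hLY).1 hY',
    eulerCharLE_eq k _ (isCoh_structureModule Y).1 hY']
  let η : X := i (genericPoint Y)
  have hrange : Set.range i = closure {η} := by
    have h1 : IsGenericPoint η (closure (i '' Set.univ)) := by
      have := (genericPoint_spec Y).image i.continuous
      rwa [Set.image_univ] at this ⊢
    rw [Set.image_univ, i.isClosedEmbedding.isClosed_range.closure_eq] at h1
    exact h1.def.symm
  have hsub : CohB1.support ((Coh.push i).obj (Coh.structureModule Y)) ⊆ closure {η} :=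
    (support_push_subset i _).trans hrange.le
  have hdη : topologicalKrullDim (closure {η} : Set X) = ((1 : ℕ) : WithBot ℕ∞) := by
    rw [← hrange, ← i.isClosedEmbedding.isEmbedding.toHomeomorph.isHomeomorph.topologicalKrullDim_eq, hY]
    rfl
  have hM : Coh.IsCoh ((Coh.push i).obj (Coh.structureModule Y)) :=
    isCoh_push_finite i (isCoh_structureModule Y)
  obtain ⟨m, hm⟩ := exists_deg_eq_mult k hdη.le hM hsub
  have hC : IsIntegral (clI η).subscheme := VarietyLib.isIntegral_clI η
  have hCd : topologicalKrullDim ((clI η).support : Set X) = ((1 : ℕ) : WithBot ℕ∞) := by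
    rw [VarietyLib.support_clI]; exact hdη
  have hCe := isEffCartier_curve k hX hreg (clI η) hCd
  have h0 : deg k (clM η) (InvCl.mk L hL) = 0 := by
    have := deg_quotMod k hCe (InvCl.mk L hL)
    rw [B_comm k, h, neg_zero] at this
    exact this
  have hz := hm (InvCl.mk L hL)
  rw [h0, mul_zero, deg_mk] at hz
  have hLF : FlatMod.IsFinLocFree L := fun x =>
    let ⟨U, hx, e⟩ := isFinLocFreeOfRank_one hL x; ⟨U, 1, hx, e⟩
  have e : CohB1.tensorMod ((Coh.push i).obj (Coh.structureModule Y)) L ≅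
      (Coh.push i).obj (CohB1.tensorMod (Coh.structureModule Y) L') :=
    AmpleLib.tensorComm _ _ ≪≫ (projIso (f := i) hLF).app _ ≪≫
      (Scheme.Modules.pushforward i).mapIso (AmpleLib.tensorComm _ _)
  have hO : Coh.IsCoh (Coh.structureModule Y) := isCoh_structureModule _
  haveI : Coh.IsQCoh (CohB1.tensorMod (Coh.structureModule Y) L') := (isCoh_twist hLY hO).1
  haveI : Coh.IsQCoh (Coh.structureModule Y) := hO.1
  rw [euler_congr k Y (unitTensorIso L').symm, AbCubeLib.euler_push k i rfl, AbCubeLib.euler_push k i rfl,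
    ← euler_congr k X e]
  exact hz

end Groth.Agent.Surf15
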