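import Groth.Agent.Surf15.Pairing
import Groth.Agent.CurveRR24.Degree
import Groth.Agent.AbCubeLib.FiniteDegree
import Groth.Agent.Coherent.DevissageIdeal

/-!
# Surf15: uniform vanishing of `H¹` on one-dimensional coherent modules
-/

set_option autoImplicit false
set_option linter.style.haveILetI false
set_option backward.isDefEq.respectTransparency.types false

universe u

open CategoryTheory CategoryTheory.Limits AlgebraicGeometry Opposite TopologicalSpace
open Groth.Agent.Coherent Groth.Agent.PicLib Groth.Agent.AmpleLib Groth.Agent.EulerLib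
open Groth.Agent.CurveRR24 Groth.Agent.AbCubeLib Groth.Agent.DimLib Groth.Agent.AssSch12

namespace Groth.Agent.Surf15

variable {X : Scheme.{u}} (k : Type u) [Field k] [X.Over (Spec (CommRingCat.of k))]
  [IsProper (X ↘ Spec (CommRingCat.of k))]

include k in
/-- On an integral proper curve a twisted ideal with Euler characteristic above the genus has no `H¹`. -/
theorem subsingleton_h1_of_euler [IsIntegral X] (hdim : topologicalKrullDim X ≤ 1) {I : X.Modules}
    (hI : Coh.IsCoh I) (ι : I ⟶ Coh.structureModule X) [Mono ι] {N : X.Modules}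
    (hN : PicF.IsInvertible N)
    (hχ : (Curv2.genus k X : ℤ) < Curv2.euler k X (CohB1.tensorMod I N)) :
    Subsingleton (Coh.HH X (CohB1.tensorMod I N) 1) := by
  haveI := isNoetherian_of_proper (X := X) k
  haveI := isSeparated_of_proper (X := X) k
  by_contra h
  rw [not_subsingleton_iff_nontrivial] at h
  haveI := mono_tensorMap hN ι
  have hM : Coh.IsCoh (CohB1.tensorMod I N) := isCoh_twist hN hI
  have h0 := h0_le_genus_of_h1 k hdim hM hN
    (tensorMap ι (𝟙 N) ≫ (unitTensorIso N).hom) h
  have he := euler_eq_sum k X (CohB1.tensorMod I N) 1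
    fun q hq => (haveI := hM.1; subsingleton_HH_of_dim _ hdim hq)
  rw [he, Finset.sum_range_succ, Finset.sum_range_one] at hχ
  have : (Module.finrank k (Coh.HH X (CohB1.tensorMod I N) 0) : ℤ) ≤ Curv2.genus k X := by
    exact_mod_cast h0
  simp only [pow_zero, one_mul, pow_one, neg_mul, neg_add_cancel_comm] at hχ
  have hnn : (0 : ℤ) ≤ (Module.finrank k (Coh.HH X (CohB1.tensorMod I N) 1) : ℤ) := Int.natCast_nonneg _
  linarith

/-- A nonzero ideal of an integral closed subscheme, pushed to the ambient scheme. -/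
theorem ideal_push (y : X) (I : (clI y).subscheme.Modules)
    (ι : I ⟶ Coh.structureModule (clI y).subscheme) [Mono ι] [Coh.IsQCoh I] (hI0 : ¬ IsZero I) :
    Coh.IsCoh I ∧ Coh.IsCoh ((Coh.push (clI y).subschemeι).obj I) ∧
      CohB1.support ((Coh.push (clI y).subschemeι).obj I) = closure {y} ∧
      (topologicalKrullDim (closure {y} : Set X) ≤ ((1 : ℕ) : WithBot ℕ∞) → ∀ a : InvCl X,
        deg k ((Coh.push (clI y).subschemeι).obj I) a = deg k (clM y) a) := by
  haveI := isNoetherian_of_proper (X := X) k
  let i := (clI y).subschemeι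
  haveI : IsProper (i ≫ (X ↘ Spec (CommRingCat.of k))) := inferInstance
  haveI : IsLocallyNoetherian (clI y).subscheme :=
    LocallyOfFiniteType.isLocallyNoetherian (i ≫ (X ↘ Spec (CommRingCat.of k)))
  have hIc : Coh.IsCoh I := isCoh_of_mono ι (isCoh_structureModule _) inferInstance
  haveI : Mono ((Coh.push i).map ι) :=
    haveI : (Coh.push i).IsRightAdjoint :=
      (Scheme.Modules.pullbackPushforwardAdjunction i).isRightAdjoint
    inferInstance
  haveI : Coh.IsQCoh ((Coh.push i).obj I) := isQCoh_push i I
  have hM : Coh.IsCoh ((Coh.push i).obj I) :=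
    isCoh_of_mono (show (Coh.push i).obj I ⟶ clM y from (Coh.push i).map ι) (isCoh_clM y) inferInstance
  let j : (Coh.push i).obj I ⟶ clM y := (Coh.push i).map ι
  haveI : Mono j := inferInstanceAs (Mono ((Coh.push i).map ι))
  have hy : y ∈ CohB1.support ((Coh.push i).obj I) := by
    by_contra hy
    have h0 : (Coh.push i).map (𝟙 I) = (Coh.push i).map 0 := (isZero_of_mono_clM j hM hy).eq_of_src _ _
    exact hI0 ((IsZero.iff_id_eq_zero I).2 ((Coh.push i).map_injective h0))
  have hsub : CohB1.support ((Coh.push i).obj I) = closure {y} :=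
    ((support_subset_of_mono j).trans (support_clM_subset y)).antisymm (closure_subset_support hM hy)
  refine ⟨hIc, hM, hsub, fun hd a => ?_⟩
  have hc : Coh.IsCoh (cokernel j) := isCoh_cokernel j hM.1 (isCoh_clM y)
  have hcy : y ∉ CohB1.support (cokernel j) := fun hy' => hy' (subsingleton_of_forall_eq 0 fun b => by
    obtain ⟨x, rfl⟩ := (ModuleCat.epi_iff_surjective ((DerSch.stalkFunctor X y).map (cokernel.π j))).1 inferInstance b
    obtain ⟨w, rfl⟩ := surjective_stalk_of_mono_clM j hy x
    refine (stalk_comp_apply _ _ _).trans ?_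
    rw [cokernel.condition]
    exact stalk_zero_apply _)
  have hlt := dim_lt_of_notMem (isClosed_support _ (locallyFinGen_of_isFT _ hc.2))
    ((support_subset_of_epi (cokernel.π j)).trans (support_clM_subset y)) isClosed_closure rfl hcy hd
  have e := deg_additive k (ShortComplex.mk j (cokernel.π j) (cokernel.condition j))
    { exact := ShortComplex.exact_cokernel j } hM (isCoh_clM y) hc a
  simp only at e
  rw [e, deg_eq_zero_of_dim k hc hlt a, add_zero]

include k in
/-- **Uniform vanishing**: large degrees on all one-dimensional integral subschemes of the support kill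
`H¹` of the twists. -/
theorem exists_vanish_bound {F : X.Modules} (hF : Coh.IsCoh F)
    (hd : topologicalKrullDim (CohB1.support F) ≤ ((1 : ℕ) : WithBot ℕ∞)) :
    ∃ b : ℤ, ∀ (L : X.Modules) (hL : PicF.IsInvertible L),
      (∀ y : X, y ∈ CohB1.support F → topologicalKrullDim (closure {y} : Set X) = ((1 : ℕ) : WithBot ℕ∞) →
        b ≤ deg k (clM y) (InvCl.mk L hL)) →
      Subsingleton (Coh.HH X (CohB1.tensorMod F L) 1) := by
  haveI := isNoetherian_of_proper (X := X) k
  haveI := isSeparated_of_proper (X := X) k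
  let K : X.Modules → Prop := fun F => topologicalKrullDim (CohB1.support F) ≤ ((1 : ℕ) : WithBot ℕ∞) →
    ∃ b : ℤ, ∀ (L : X.Modules) (hL : PicF.IsInvertible L),
      (∀ y : X, y ∈ CohB1.support F → topologicalKrullDim (closure {y} : Set X) = ((1 : ℕ) : WithBot ℕ∞) →
        b ≤ deg k (clM y) (InvCl.mk L hL)) →
      Subsingleton (Coh.HH X (CohB1.tensorMod F L) 1)
  have hK : ExtClass K :=
    { iso := fun {M N} e h hd' => by
        obtain ⟨b, hb⟩ := h (by rwa [support_eq_of_iso e])
        refine ⟨b, fun L hL hy => ?_⟩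
        have h1 := hb L hL fun y hy' => hy y (by rwa [← support_eq_of_iso e])
        exact (HHCongr k (AmpleLib.tensorIso e.symm (Iso.refl L)) 1).toEquiv.subsingleton
      zero := fun M hM _ => ⟨0, fun L hL _ => subsingleton_HH_of_isZero
        (isZero_of_support_eq_empty (by
          rw [support_twist hL M]; exact Set.subset_empty_iff.1 (support_of_isZero hM ∅))) 1⟩
      ext := fun S hS h₁ h₂ h₃ a c hd' => by
        haveI := hS.mono_f
        haveI := hS.epi_g
        have hs₁ := support_subset_of_mono S.f
        have hs₃ := support_subset_of_epi S.g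
        obtain ⟨b₁, hb₁⟩ := a ((dim_mono hs₁).trans hd')
        obtain ⟨b₃, hb₃⟩ := c ((dim_mono hs₃).trans hd')
        refine ⟨max b₁ b₃, fun L hL hy => subsingleton_HH_X₂ (twistSeq_shortExact hL hS) 1 ?_ ?_⟩
        · exact hb₁ L hL fun y hy' hy1 => (le_max_left _ _).trans (hy y (hs₁ hy') hy1)
        · exact hb₃ L hL fun y hy' hy1 => (le_max_right _ _).trans (hy y (hs₃ hy') hy1) }
  refine mem_of_ideals hK Set.univ (fun y _ I ι hι hI hI0 => ?_) F hF (Set.subset_univ _) hd
  intro hd'
  haveI := hι
  haveI := hI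
  obtain ⟨hIc, hM, hsub, hdeg⟩ := ideal_push k y I ι hI0
  rw [hsub] at hd' ⊢
  let i := (clI y).subschemeι
  letI : (clI y).subscheme.Over (Spec (CommRingCat.of k)) := ⟨i ≫ (X ↘ Spec (CommRingCat.of k))⟩
  haveI : IsProper ((clI y).subscheme ↘ Spec (CommRingCat.of k)) :=
    inferInstanceAs (IsProper (i ≫ (X ↘ Spec (CommRingCat.of k))))
  haveI := isNoetherian_of_proper (X := (clI y).subscheme) k
  have hY : topologicalKrullDim (clI y).subscheme ≤ 1 := by
    rw [i.isClosedEmbedding.isEmbedding.toHomeomorph.isHomeomorph.topologicalKrullDim_eq]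
    exact ((congrArg (fun S : Set X => topologicalKrullDim S) (range_clι y)).le.trans hd').trans
      (by exact_mod_cast le_rfl)
  refine ⟨(Curv2.genus k (clI y).subscheme : ℤ) - Curv2.euler k X ((Coh.push i).obj I) + 1,
    fun L hL hy => ?_⟩
  rcases hd'.lt_or_eq with hlt | heq
  · haveI := (isCoh_twist hL hM).1
    exact subsingleton_HH_of_support (X := X) ⟨_, isClosed_closure⟩ _ (isCoh_twist hL hM).1
      ((support_twist hL _).trans hsub).le 1 hlt
  · have hb := hy y (subset_closure rfl) heq
    rw [← hdeg hd', deg_mk] at hb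
    have hLY := PicLoc.isInvertible_pullback i hL
    have hLF : FlatMod.IsFinLocFree L := fun x =>
      let ⟨U, hx, e⟩ := isFinLocFreeOfRank_one hL x; ⟨U, 1, hx, e⟩
    have hc := isCoh_twist hLY hIc
    haveI := hc.1
    have e : CohB1.tensorMod ((Coh.push i).obj I) L ≅
        (Coh.push i).obj (CohB1.tensorMod I ((Scheme.Modules.pullback i).obj L)) :=
      AmpleLib.tensorComm _ _ ≪≫ (projIso (f := i) hLF).app I ≪≫
        (Scheme.Modules.pushforward i).mapIso (AmpleLib.tensorComm _ _)
    rw [euler_congr k X e, ← euler_push k i rfl, ← euler_push k i rfl] at hb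
    have h1 := subsingleton_h1_of_euler k hY hIc ι hLY (by linarith)
    haveI : Subsingleton (Coh.HH X ((Coh.push i).obj (CohB1.tensorMod I ((Scheme.Modules.pullback i).obj L))) 1) :=
      (SerreDual.hpush i k rfl (CohB1.tensorMod I ((Scheme.Modules.pullback i).obj L)) 1).symm.toEquiv.subsingleton
    exact (HHCongr k e 1).toEquiv.subsingleton

include k in
/-- Degrees on a module are nonnegative if they are so on every curve of its support. -/
theorem deg_nonneg_of_components {F : X.Modules} (hF : Coh.IsCoh F)
    (hd : topologicalKrullDim (CohB1.support F) ≤ ((1 : ℕ) : WithBot ℕ∞)) (a : InvCl X)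
    (ha : ∀ y : X, y ∈ CohB1.support F → topologicalKrullDim (closure {y} : Set X) = ((1 : ℕ) : WithBot ℕ∞) →
      0 ≤ deg k (clM y) a) :
    0 ≤ deg k F a := by
  haveI := isNoetherian_of_proper (X := X) k
  let K : X.Modules → Prop := fun F => topologicalKrullDim (CohB1.support F) ≤ ((1 : ℕ) : WithBot ℕ∞) →
    (∀ y : X, y ∈ CohB1.support F → topologicalKrullDim (closure {y} : Set X) = ((1 : ℕ) : WithBot ℕ∞) →
      0 ≤ deg k (clM y) a) → 0 ≤ deg k F a
  have hK : ExtClass K :=
    { iso := fun {M N} e h hd' hy => by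
        rw [← deg_congr k e]
        exact h (by rwa [support_eq_of_iso e]) fun y hy' => hy y (by rwa [← support_eq_of_iso e])
      zero := fun M hM hd' _ => le_of_eq (deg_eq_zero_of_dim k (isCoh_of_isZero hM) (by
        rw [Set.subset_empty_iff.1 (support_of_isZero hM ∅)]
        haveI : IsEmpty (IrreducibleCloseds (∅ : Set X)) := ⟨fun A => A.2.1.elim fun a _ => a.2⟩
        show Order.krullDim _ < _
        rw [Order.krullDim_eq_bot]
        exact WithBot.bot_lt_coe _) a).symm
      ext := fun S hS h₁ h₂ h₃ h h' hd' hy => by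
        haveI := hS.mono_f
        haveI := hS.epi_g
        rw [deg_additive k S hS h₁ h₂ h₃]
        exact add_nonneg
          (h ((dim_mono (support_subset_of_mono S.f)).trans hd') fun y hy' => hy y (support_subset_of_mono S.f hy'))
          (h' ((dim_mono (support_subset_of_epi S.g)).trans hd') fun y hy' => hy y (support_subset_of_epi S.g hy')) }
  refine mem_of_ideals hK Set.univ (fun y _ I ι hι hI hI0 => ?_) F hF (Set.subset_univ _) hd ha
  intro hd' hy
  haveI := hι
  haveI := hI
  obtain ⟨-, hM, hsub, hdeg⟩ := ideal_push k y I ι hI0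
  rcases hd'.lt_or_eq with hlt | heq
  · exact (deg_eq_zero_of_dim k hM hlt a).ge
  · rw [hsub] at hd' heq hy
    rw [hdeg hd' a]
    exact hy y (subset_closure rfl) heq

include k in
/-- Degrees on a module supported on an irreducible curve are multiples of those on the curve. -/
theorem exists_deg_eq_mult {η : X}
    (hη : topologicalKrullDim (closure {η} : Set X) ≤ ((1 : ℕ) : WithBot ℕ∞)) {F : X.Modules}
    (hF : Coh.IsCoh F) (hFη : CohB1.support F ⊆ closure {η}) :
    ∃ m : ℕ, ∀ a : InvCl X, deg k F a = m * deg k (clM η) a := by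
  haveI := isNoetherian_of_proper (X := X) k
  let K : X.Modules → Prop := fun F => CohB1.support F ⊆ closure {η} →
    ∃ m : ℕ, ∀ a : InvCl X, deg k F a = m * deg k (clM η) a
  have hK : ExtClass K :=
    { iso := fun {M N} e h hs => by
        obtain ⟨m, hm⟩ := h (by rwa [support_eq_of_iso e])
        exact ⟨m, fun a => by rw [← deg_congr k e]; exact hm a⟩
      zero := fun M hM _ => ⟨0, fun a => by
        rw [Nat.cast_zero, zero_mul]
        exact deg_eq_zero_of_dim k (isCoh_of_isZero hM) (by
          rw [Set.subset_empty_iff.1 (support_of_isZero hM ∅)]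
          haveI : IsEmpty (IrreducibleCloseds (∅ : Set X)) := ⟨fun A => A.2.1.elim fun a _ => a.2⟩
          show Order.krullDim _ < _
          rw [Order.krullDim_eq_bot]
          exact WithBot.bot_lt_coe _) a⟩
      ext := fun S hS h₁ h₂ h₃ h h' hs => by
        haveI := hS.mono_f
        haveI := hS.epi_g
        obtain ⟨m₁, hm₁⟩ := h ((support_subset_of_mono S.f).trans hs)
        obtain ⟨m₃, hm₃⟩ := h' ((support_subset_of_epi S.g).trans hs)
        exact ⟨m₁ + m₃, fun a => by rw [deg_additive k S hS h₁ h₂ h₃, hm₁, hm₃]; push_cast; ring⟩ }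
  refine mem_of_ideals hK Set.univ (fun y _ I ι hι hI hI0 => ?_) F hF (Set.subset_univ _) hFη
  intro hs
  haveI := hι
  haveI := hI
  obtain ⟨-, hM, hsub, hdeg⟩ := ideal_push k y I ι hI0
  rw [hsub] at hs
  have hdy : topologicalKrullDim (closure {y} : Set X) ≤ ((1 : ℕ) : WithBot ℕ∞) := (dim_mono hs).trans hη
  by_cases hye : η ∈ closure {y}
  · have he : y = η := by
      have h1 : η ⤳ y := specializes_iff_mem_closure.2 (hs (subset_closure rfl))
      exact ((specializes_iff_mem_closure.2 hye).antisymm h1).eq
    subst he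
    exact ⟨1, fun a => by rw [hdeg hdy a, Nat.cast_one, one_mul]⟩
  · refine ⟨0, fun a => ?_⟩
    rw [Nat.cast_zero, zero_mul]
    refine deg_eq_zero_of_dim k hM ?_ a
    rw [hsub]
    exact dim_lt_of_notMem isClosed_closure hs isClosed_closure rfl hye hη

end Groth.Agent.Surf15
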