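import Groth.Agent.Surf15.LM
import Groth.Agent.Surf15.LMSimple
import Groth.Agent.Surf15.Curve
import Groth.Agent.VarietyLib.MultFormula
import Groth.Agent.RefHullLib.GenericStalk
import Groth.Agent.EulerLib.StabBasic

/-!
# Surf15: stability of Lazarsfeld–Mukai bundles when the Picard group is generated by the curve
-/

set_option autoImplicit false
set_option linter.style.haveILetI false
set_option linter.unusedSectionVars false
set_option maxHeartbeats 1000000
set_option synthInstance.maxHeartbeats 200000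
set_option backward.isDefEq.respectTransparency.types false

universe u

open CategoryTheory CategoryTheory.Abelian CategoryTheory.Limits AlgebraicGeometry Opposite TopologicalSpace
open Groth.Agent.Coherent Groth.Agent.PicLib Groth.Agent.AmpleLib Groth.Agent.EulerLib
open Groth.Agent.CurveRR24 Groth.Agent.AbCubeLib Groth.Agent.AssSch12 Groth.Agent.VarietyLib

namespace Groth.Agent.Surf15

section Degree

variable {X : Scheme.{u}} (k : Type u) [Field k] [X.Over (Spec (CommRingCat.of k))]
  [IsProper (X ↘ Spec (CommRingCat.of k))] [IsIntegral X]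

/-- The degree of a coherent module along a class, corrected by the rank. -/
noncomputable def dH (h : InvCl X) (G : X.Modules) : ℤ :=
  deg k G h - (VB5.grk G : ℤ) * deg k (Coh.structureModule X) h

theorem dH_additive [IsLocallyNoetherian X] (h : InvCl X) {S : ShortComplex X.Modules} (hS : S.ShortExact)
    (h₁ : Coh.IsCoh S.X₁) (h₂ : Coh.IsCoh S.X₂) (h₃ : Coh.IsCoh S.X₃) :
    dH k h S.X₂ = dH k h S.X₁ + dH k h S.X₃ := by
  rw [dH, dH, dH, deg_additive k S hS h₁ h₂ h₃ h, VB5.grk_additive hS h₂]
  push_cast; ring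

theorem dH_congr (h : InvCl X) {G G' : X.Modules} (e : G ≅ G') : dH k h G = dH k h G' := by
  rw [dH, dH, deg_congr k e, VB5.grk_congr e]

theorem dH_isZero (h : InvCl X) {G : X.Modules} (hG : IsZero G) : dH k h G = 0 := by
  haveI := isNoetherian_of_proper (X := X) k
  have hS : (ShortComplex.mk (0 : G ⟶ G) (𝟙 G) (zero_comp)).ShortExact :=
    { exact := ShortComplex.exact_of_isZero_X₂ _ hG
      mono_f := ⟨fun _ _ _ => hG.eq_of_tgt _ _⟩
      epi_g := inferInstance }
  have := dH_additive k h hS (isCoh_of_isZero hG) (isCoh_of_isZero hG) (isCoh_of_isZero hG)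
  simpa using this

theorem dH_free (h : InvCl X) (n : ℕ) : dH k h (FlatMod.freeMod X n) = 0 := by
  haveI := isNoetherian_of_proper (X := X) k
  obtain ⟨N, hN, rfl⟩ := InvCl.exists_rep h
  rw [dH, deg_mk, deg_mk, euler_free_tensor k n hN, VarietyLib.euler_freeMod k n,
    VB5.grk_eq (VarietyLib.isFinLocFreeOfRank_freeMod n), euler_congr k X (unitTensorIso N)]
  ring

end Degree

section Points

variable {X : Scheme.{u}} (k : Type u) [Field k] [X.Over (Spec (CommRingCat.of k))]
  [LocallyOfFiniteType (X ↘ Spec (CommRingCat.of k))]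
include k

/-- A one-dimensional closed set contains the generic point of a curve. -/
theorem exists_curve_point {T : Set X} (hT : IsClosed T)
    (hd : topologicalKrullDim T = ((1 : ℕ) : WithBot ℕ∞)) :
    ∃ ξ ∈ T, topologicalKrullDim (closure ({ξ} : Set X)) = ((1 : ℕ) : WithBot ℕ∞) := by
  have h1 : 0 < Order.krullDim (IrreducibleCloseds T) := by
    change 0 < topologicalKrullDim T
    rw [hd]; exact_mod_cast Nat.one_pos
  obtain ⟨A, B', hAB⟩ := Order.krullDim_pos_iff.1 h1
  let img : IrreducibleCloseds T → Set X := fun C => Subtype.val '' (C : Set T)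
  have hcl : ∀ C, IsClosed (img C) := fun C => hT.isClosedEmbedding_subtypeVal.isClosedMap _ C.isClosed
  have hir : ∀ C, IsIrreducible (img C) := fun C => C.isIrreducible.image _ continuous_subtype_val.continuousOn
  have hg : ∀ C, IsGenericPoint (hir C).genericPoint (img C) := fun C =>
    (hir C).isGenericPoint_genericPoint (hcl C)
  set ξ := (hir B').genericPoint
  set z := (hir A).genericPoint
  have hsub : img A ⊆ img B' := Set.image_mono hAB.le
  have hspec : ξ ⤳ z := (hg B').specializes (hsub (hg A).mem)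
  have hne : z ≠ ξ := fun he => hAB.ne (IrreducibleCloseds.ext (Set.image_injective.2 Subtype.val_injective
    (((hg A).def.symm.trans (congrArg (fun p : X => closure ({p} : Set X)) he)).trans (hg B').def)))
  have hξT : ξ ∈ T := by
    obtain ⟨w, -, hw⟩ := (hg B').mem
    rw [show ξ = (w : X) from hw.symm]; exact w.2
  refine ⟨ξ, hξT, le_antisymm ?_ ?_⟩
  · exact (dim_mono (hT.closure_subset_iff.2 (Set.singleton_subset_iff.2 hξT))).trans hd.le
  · rw [DimLib.topologicalKrullDim_eq_ptDim_of_isGenericPoint (X ↘ Spec (CommRingCat.of k))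
      (isGenericPoint_closure (x := ξ))]
    have := DimLib.ptDim_lt_of_specializes (X ↘ Spec (CommRingCat.of k)) hspec (Ne.symm hne)
    exact_mod_cast Nat.one_le_of_lt this

end Points

theorem isTorsionFree_stalk_of_isFinLocFree {X : Scheme.{u}} [IsIntegral X] {M : X.Modules}
    (hM : FlatMod.IsFinLocFree M) (x : X) : Module.IsTorsionFree (X.presheaf.stalk x) (M.presheaf.stalk x) := by
  haveI := (CohBC.isCoh_of_isFinLocFree hM).1
  haveI := Props12.free_stalk_of_isFinLocFree M hM x
  infer_instance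

theorem grk_cokernel_ideal {X : Scheme.{u}} [IsIntegral X] [IsLocallyNoetherian X] {I : X.Modules}
    (ι : I ⟶ Coh.structureModule X) [Mono ι] (hI : Coh.IsCoh I) (hne : ¬ IsZero I) :
    VB5.grk (cokernel ι) = 0 := by
  have hS : (ShortComplex.mk ι (cokernel.π ι) (cokernel.condition ι)).ShortExact :=
    { exact := ShortComplex.exact_cokernel ι }
  have h := VB5.grk_additive hS (show Coh.IsCoh (ShortComplex.mk ι (cokernel.π ι) (cokernel.condition ι)).X₂ from
    isCoh_structureModule X)
  dsimp only at h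
  rw [VB5.rank_one isInvertible_structureModule] at h
  by_contra hc
  have h0 : VB5.grk I = 0 := by omega
  haveI := VB5.finite_generic hI
  haveI : Subsingleton (I.presheaf.stalk (genericPoint X)) := Module.finrank_zero_iff.1 h0
  refine hne ((IsZero.iff_id_eq_zero I).2 ((cancel_mono ι).1 ?_))
  rw [Category.id_comp, zero_comp]
  refine Scheme.Modules.hom_ext _ _ fun V => ConcreteCategory.hom_ext _ _ fun a => ?_
  refine (RefHullLib.section_ext_of_germ_genericPoint (F := Coh.structureModule X) (isCoh_structureModule X).1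
    (fun x _ => isTorsionFree_stalk_of_isFinLocFree isFinLocFree_structure x) _ 0 fun hη => ?_).trans rfl
  rw [map_zero]
  rw [← stalk_map_germ ι hη a, Subsingleton.elim (I.presheaf.germ V _ hη a) 0]
  exact map_zero _

section Torsion

variable {X : Scheme.{u}} (k : Type u) [Field k] [X.Over (Spec (CommRingCat.of k))]
  [IsProper (X ↘ Spec (CommRingCat.of k))] [IsIntegral X]
  (hX : topologicalKrullDim X = ((2 : ℕ) : WithBot ℕ∞))
  (hreg : ∀ x : X, IsRegularLocalRing (X.presheaf.stalk x))
  {h : InvCl X} {δ : ℤ} (hδ : 0 ≤ δ)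
  (hmin : ∀ (D : X.IdealSheafData) (hD : BlowUp.IsEffCartierIdeal D), IsIntegral D.subscheme →
    topologicalKrullDim (D.support : Set X) = ((1 : ℕ) : WithBot ℕ∞) → B k (clI' D hD) h ≤ - δ)
include hX hreg hδ hmin

/-- A torsion module has degree zero with finite support, or degree at least the minimum. -/
theorem torsion_cases {T : X.Modules} (hT : Coh.IsCoh T) (h0 : VB5.grk T = 0) :
    (dH k h T = 0 ∧ topologicalKrullDim (CohB1.support T) < ((1 : ℕ) : WithBot ℕ∞)) ∨ δ ≤ dH k h T := by
  classical
  haveI := isNoetherian_of_proper (X := X) k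
  have hTc : IsClosed (CohB1.support T) := isClosed_support T (locallyFinGen_of_isFT T hT.2)
  have hη : genericPoint X ∉ CohB1.support T := by
    intro hs
    haveI := VB5.finite_generic (X := X) hT
    exact hs (Module.finrank_zero_iff.1 h0)
  have hlt := dim_lt_of_notMem (X := X) hTc (Set.subset_univ _) isClosed_univ (genericPoint_spec X) hη
    ((Topology.IsInducing.subtypeVal.topologicalKrullDim_le).trans hX.le)
  have hd1 : topologicalKrullDim (CohB1.support T) ≤ ((1 : ℕ) : WithBot ℕ∞) := by
    generalize topologicalKrullDim (CohB1.support T) = d at hlt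
    induction d with
    | bot => exact bot_le
    | coe d =>
      induction d with
      | top => exact absurd hlt (by simp)
      | coe d =>
        have h' : ((d : ℕ) : ℕ∞) < ((2 : ℕ) : ℕ∞) := WithBot.coe_lt_coe.1 hlt
        have : d < 2 := ENat.coe_lt_coe.1 h'
        exact_mod_cast Nat.lt_succ_iff.1 this
  rcases hd1.lt_or_eq with hd | hd
  · refine Or.inl ⟨?_, hd⟩
    rw [dH, deg_eq_zero_of_dim k hT hd, h0]
    simp
  right
  have hfin := VarietyLib.finite_top_points hTc hd.le
  let s := hfin.toFinset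
  have hsum := VarietyLib.eq_sum_mult (ψ := fun M => deg k M h) (d := 1)
    (fun {M N} e => by rw [deg_congr k e])
    (fun S hS h₁ h₂ h₃ => deg_additive k S hS h₁ h₂ h₃ h)
    (fun M hM hlt' => deg_eq_zero_of_dim k hM hlt' h) hT hd.le s
    (fun ξ hξ hξd => hfin.mem_toFinset.2 ⟨hξ, hξd⟩) (fun ξ hξ => (hfin.mem_toFinset.1 hξ).2)
  have hterm : ∀ ξ ∈ s, δ ≤ VarietyLib.mult T ξ • deg k (clM ξ) h := by
    intro ξ hξ
    obtain ⟨hξT, hξd⟩ := hfin.mem_toFinset.1 hξ
    haveI : IsIntegral (clI ξ).subscheme := VarietyLib.isIntegral_clI ξ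
    have hsd : topologicalKrullDim ((clI ξ).support : Set X) = ((1 : ℕ) : WithBot ℕ∞) := by
      rw [VarietyLib.support_clI ξ]; exact hξd
    have hD := isEffCartier_curve k hX hreg (clI ξ) hsd
    have h1 : δ ≤ deg k (clM ξ) h := by
      have h2 := deg_clM_gen k hD h
      rw [show SDiv28.CartierPart.gen (clI ξ) = ξ from VarietyLib.clI_genericPoint ξ] at h2
      have := hmin (clI ξ) hD inferInstance hsd
      omega
    have hm : 1 ≤ VarietyLib.mult T ξ := by
      have hne := VarietyLib.length_ne_top_of_dim hT hTc subset_rfl hd.le hξd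
      haveI : Nontrivial (T.presheaf.stalk ξ) := not_subsingleton_iff_nontrivial.1 hξT
      refine Nat.one_le_iff_ne_zero.2 fun h0' => ?_
      rcases ENat.toNat_eq_zero.1 h0' with e | e
      · exact (Module.length_pos (R := X.presheaf.stalk ξ) (M := T.presheaf.stalk ξ)).ne' e
      · exact hne e
    rw [nsmul_eq_mul]
    have hm' : (1 : ℤ) ≤ (VarietyLib.mult T ξ : ℤ) := by exact_mod_cast hm
    nlinarith
  obtain ⟨ξ₀, hξ₀⟩ : s.Nonempty := by
    by_contra hne
    rw [Finset.not_nonempty_iff_eq_empty] at hne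
    obtain ⟨ξ, hξT, hξd⟩ := exists_curve_point k hTc hd
    have := hfin.mem_toFinset.2 (⟨hξT, hξd⟩ : ξ ∈ {ξ | ξ ∈ CohB1.support T ∧
      topologicalKrullDim (closure ({ξ} : Set X)) = ((1 : ℕ) : WithBot ℕ∞)})
    rw [show hfin.toFinset = s from rfl, hne] at this
    exact Finset.notMem_empty _ this
  rw [dH, h0, hsum]
  simp only [Nat.cast_zero, zero_mul, sub_zero]
  exact (hterm ξ₀ hξ₀).trans (Finset.single_le_sum (fun ξ hξ => hδ.trans (hterm ξ hξ)) hξ₀)

end Torsion

end Groth.Agent.Surf15

namespace Groth.Agent.Surf15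

section Sub

variable {X : Scheme.{u}} (k : Type u) [Field k] [IsAlgClosed k] [X.Over (Spec (CommRingCat.of k))]
  [IsProper (X ↘ Spec (CommRingCat.of k))] [IsIntegral X] [Smooth (X ↘ Spec (CommRingCat.of k))]
  (hX : topologicalKrullDim X = ((2 : ℕ) : WithBot ℕ∞))
  (hK : ExtPow.IsExtPow 2 (Omega.sheaf (X ↘ Spec (CommRingCat.of k))) (Coh.structureModule X))
include k hX hK

/-- Maps out of ideals of finite colength extend. -/
theorem exists_extend {I : X.Modules} (hI : Coh.IsCoh I) (ι : I ⟶ Coh.structureModule X) [Mono ι]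
    (hd : topologicalKrullDim (CohB1.support (cokernel ι)) < ((1 : ℕ) : WithBot ℕ∞)) {n : ℕ}
    (s : I ⟶ FlatMod.freeMod X n) : ∃ v : Coh.structureModule X ⟶ FlatMod.freeMod X n, ι ≫ v = s := by
  classical
  haveI := isNoetherian_of_proper (X := X) k
  haveI := isSeparated_of_proper (X := X) k
  haveI : IsGrothendieckAbelian.{u} X.Modules := DCat.schemeModules_isGrothendieckAbelian X
  let O := Coh.structureModule X
  have hT : Coh.IsCoh (cokernel ι) := isCoh_cokernel ι hI.1 (isCoh_structureModule X)
  haveI := hT.1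
  have hTc : IsClosed (CohB1.support (cokernel ι)) := isClosed_support _ (locallyFinGen_of_isFT _ hT.2)
  haveI : Subsingleton (Coh.HH X (cokernel ι) 1) :=
    subsingleton_HH_of_support (X := X) ⟨_, hTc⟩ _ hT.1 subset_rfl 1 hd
  have hreg := smooth_regular k hX
  obtain ⟨t, hrep⟩ := exists_dualizing_canonical k hX hK isInvertible_structureModule
  obtain ⟨H, hH⟩ := exists_ample k hX hreg
  have hCM : ∀ x : X, IsClosed ({x} : Set X) →
      LocCoh.IsCohenMacaulayLocalRing (X.presheaf.stalk x) ∧ ringKrullDim (X.presheaf.stalk x) = (2 : ℕ) :=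
    fun x hx => ⟨haveI := hreg x; CAlgH3.isCohenMacaulayLocalRing_of_regular _,
      ringKrullDim_stalk_closed k (dim_components k hX) hx⟩
  obtain ⟨e⟩ := (SerreDual.duality_cm (k := k) hH hX.le hCM (isCoh_structureModule X) t
    (fun F hF => hrep F hF.1) (cokernel ι) hT 1).1 1 rfl
  haveI : Subsingleton (Ext (cokernel ι) O 1) := e.toEquiv.subsingleton
  have hS : (ShortComplex.mk ι (cokernel.π ι) (cokernel.condition ι)).ShortExact :=
    { exact := ShortComplex.exact_cokernel ι }
  let π : Fin n → (FlatMod.freeMod X n ⟶ O) := fun i => Sigma.desc fun j => if j = i then 𝟙 _ else 0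
  have hid : ∑ i, π i ≫ Sigma.ι (fun _ : Fin n => O) i = 𝟙 (FlatMod.freeMod X n) := by
    refine Sigma.hom_ext _ _ fun j => ?_
    rw [Preadditive.comp_sum, Category.comp_id, Finset.sum_eq_single j]
    · simp [π, O]
    · intro i _ hi
      simp [π, O, Ne.symm hi]
    · exact fun h => absurd (Finset.mem_univ j) h
  have hc : ∀ i, ∃ c : O ⟶ O, ι ≫ c = s ≫ π i := fun i => by
    obtain ⟨x₂, hx₂⟩ := Ext.contravariant_sequence_exact₁ hS O (Ext.mk₀ (s ≫ π i)) (n₁ := 1) rfl
      (Subsingleton.elim _ _)
    obtain ⟨c, rfl⟩ := (Ext.mk₀_bijective _ _).2 x₂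
    rw [Ext.mk₀_comp_mk₀] at hx₂
    exact ⟨c, (Ext.mk₀_bijective _ _).1 hx₂⟩
  choose c hc using hc
  refine ⟨∑ i, c i ≫ Sigma.ι (fun _ : Fin n => O) i, ?_⟩
  conv_rhs => rw [← Category.comp_id s, ← hid]
  rw [Preadditive.comp_sum, Preadditive.comp_sum]
  exact Finset.sum_congr rfl fun i _ => by rw [← Category.assoc, hc i, Category.assoc]

variable {h : InvCl X} {δ : ℤ} (hδ : 0 < δ)
  (hmin : ∀ (D : X.IdealSheafData) (hD : BlowUp.IsEffCartierIdeal D), IsIntegral D.subscheme →
    topologicalKrullDim (D.support : Set X) = ((1 : ℕ) : WithBot ℕ∞) → B k (clI' D hD) h ≤ - δ)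
include hδ hmin

/-- Coherent submodules of the structure sheaf. -/
theorem ideal_cases {I : X.Modules} (hI : Coh.IsCoh I) (ι : I ⟶ Coh.structureModule X) [Mono ι]
    (hne : ¬ IsZero I) :
    (dH k h I = 0 ∧ topologicalKrullDim (CohB1.support (cokernel ι)) < ((1 : ℕ) : WithBot ℕ∞)) ∨
      dH k h I ≤ - δ := by
  haveI := isNoetherian_of_proper (X := X) k
  let O := Coh.structureModule X
  have hT : Coh.IsCoh (cokernel ι) := isCoh_cokernel ι hI.1 (isCoh_structureModule X)
  have hS : (ShortComplex.mk ι (cokernel.π ι) (cokernel.condition ι)).ShortExact :=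
    { exact := ShortComplex.exact_cokernel ι }
  have h0 : dH k h (Coh.structureModule X) = 0 := by
    rw [dH, show VB5.grk (Coh.structureModule X) = 1 from VB5.rank_one isInvertible_structureModule, Nat.cast_one, one_mul, sub_self]
  have hadd := dH_additive k h hS hI (show Coh.IsCoh (ShortComplex.mk ι (cokernel.π ι) (cokernel.condition ι)).X₂
    from isCoh_structureModule X) hT
  dsimp only at hadd
  rcases torsion_cases k hX (smooth_regular k hX) hδ.le hmin hT (grk_cokernel_ideal ι hI hne) with ⟨h1, h2⟩ | h1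
  · exact Or.inl ⟨by omega, h2⟩
  · exact Or.inr (by omega)

/-- Submodules of free modules have nonpositive degree; equality gives constant sections on the
complement of a finite set. -/
theorem sub_free_cases : ∀ (n : ℕ) {G : X.Modules}, Coh.IsCoh G → ∀ (j : G ⟶ FlatMod.freeMod X n) [Mono j],
    ¬ IsZero G → dH k h G ≤ - δ ∨
      ∃ (I : X.Modules) (ι : I ⟶ Coh.structureModule X) (v : Coh.structureModule X ⟶ FlatMod.freeMod X n)
        (u : I ⟶ G), topologicalKrullDim (CohB1.support (cokernel ι)) < ((1 : ℕ) : WithBot ℕ∞) ∧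
          v ≠ 0 ∧ u ≫ j = ι ≫ v ∧ dH k h G = 0
  | 0, G, _, j, _, hne => absurd (IsZero.of_mono j isZero_freeMod_zero') hne
  | n + 1, G, hG, j, _, hne => by
    haveI := isNoetherian_of_proper (X := X) k
    let O := Coh.structureModule X
    obtain ⟨f, g, w, ⟨sp⟩⟩ := exists_free_split (X := X) n
    have hsp := sp.shortExact
    haveI : Mono f := hsp.mono_f
    let p := j ≫ g
    have hG₁ : Coh.IsCoh (kernel p) := isCoh_kernel p hG (isCoh_structureModule X).1
    have hI : Coh.IsCoh (Abelian.image p) := EulerLib.isCoh_image p hG (isCoh_structureModule X)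
    have hw : (kernel.ι p ≫ j) ≫ g = 0 := by rw [Category.assoc]; exact kernel.condition p
    obtain ⟨j₁, hj₁'⟩ := KernelFork.IsLimit.lift' hsp.exact.fIsKernel (kernel.ι p ≫ j) hw
    have hj₁ : j₁ ≫ f = kernel.ι p ≫ j := hj₁'
    haveI : Mono (j₁ ≫ f) := hj₁ ▸ inferInstance
    haveI : Mono j₁ := mono_of_mono j₁ f
    have hS : (ShortComplex.mk (kernel.ι p) (Abelian.factorThruImage p)
        (by rw [← cancel_mono (Abelian.image.ι p), Category.assoc, Abelian.image.fac, kernel.condition, zero_comp])).ShortExact :=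
      { exact := ShortComplex.exact_of_f_is_kernel _
          (isKernelOfComp (Abelian.image.ι p) _ (kernelIsKernel p) _ (Abelian.image.fac p)) }
    have hadd := dH_additive k h hS hG₁ hG hI
    dsimp only at hadd
    have hIcases : dH k h (Abelian.image p) ≤ 0 ∧ (dH k h (Abelian.image p) = 0 ∨ dH k h (Abelian.image p) ≤ -δ) := by
      by_cases hI0 : IsZero (Abelian.image p)
      · rw [dH_isZero k h hI0]; exact ⟨le_rfl, Or.inl rfl⟩
      · rcases ideal_cases k hX hK hδ hmin hI (Abelian.image.ι p) hI0 with ⟨h1, -⟩ | h1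
        · exact ⟨h1.le, Or.inl h1⟩
        · exact ⟨by omega, Or.inr h1⟩
    by_cases h1 : IsZero (kernel p)
    · haveI : Mono p := Preadditive.mono_of_isZero_kernel p h1
      rcases ideal_cases k hX hK hδ hmin hG p hne with ⟨hd0, hd⟩ | hd
      · obtain ⟨v, hv⟩ := exists_extend k hX hK hG p hd j
        refine Or.inr ⟨G, p, v, 𝟙 G, hd, fun hv0 => hne ?_, by rw [Category.id_comp, hv], hd0⟩
        rw [hv0, comp_zero] at hv
        exact (IsZero.iff_id_eq_zero G).2 ((cancel_mono j).1 (by rw [zero_comp, Category.id_comp, ← hv]))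
      · exact Or.inl hd
    · rcases sub_free_cases n hG₁ j₁ h1 with h2 | ⟨I, ι, v, u, hd, hv, huv, h2⟩
      · left; omega
      · rcases hIcases.2 with h3 | h3
        · refine Or.inr ⟨I, ι, v ≫ f, u ≫ kernel.ι p, hd, fun hv0 => hv ?_, ?_, by omega⟩
          · exact (cancel_mono f).1 (hv0.trans zero_comp.symm)
          · rw [Category.assoc, ← hj₁, ← Category.assoc, huv, Category.assoc]
        · left; omega

end Sub

end Groth.Agent.Surf15
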