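import Groth.Agent.Surf15.SlopeReg
import Groth.Agent.S19311
import Groth.Agent.S19312
import Groth.Agent.S19313
import Groth.Agent.S19315

/-!
# Surf15: sectional semistability of tensor fields on curves
-/

set_option autoImplicit false
set_option linter.style.haveILetI false
set_option backward.isDefEq.respectTransparency.types false

universe u

open CategoryTheory CategoryTheory.Limits AlgebraicGeometry Opposite TopologicalSpace
open Groth.Agent.Coherent Groth.Agent.PicLib Groth.Agent.AmpleLib Groth.Agent.EulerLib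
open Groth.Agent.CurveRR24 Groth.Agent.DimLib

namespace Groth.Agent.Surf15

variable (k : Type u) [Field k] [IsAlgClosed k] [CharZero k]
  {X : Scheme.{u}} [X.Over (Spec (CommRingCat.of k))] [IsProper (X ↘ Spec (CommRingCat.of k))]
  [AlgebraicGeometry.IsReduced X]
  (hdim : topologicalKrullDim X = 1) (hpure : ∀ x : X, ¬ IsOpen ({x} : Set X))
  {L : X.Modules} (hL : CohB1.IsAmple L) {E : X.Modules} (hE : Coh.IsCoh E) (htf : TorSh.IsTorsionFree E)
include hdim hpure hL hE htf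

omit [IsAlgClosed k] [CharZero k] in
theorem piece_bounds (P : Subobject E) (hP : Coh.IsCoh (P : X.Modules)) (h0 : ¬ IsZero (P : X.Modules)) :
    1 ≤ DecSh.mult k X L (P : X.Modules) ∧ DecSh.mult k X L (P : X.Modules) ≤ DecSh.mult k X L E :=
  haveI hX : topologicalKrullDim X ≤ ((1 : ℕ) : WithBot ℕ∞) := hdim.le.trans_eq rfl
  ⟨mult_pos k hX hL hpure hP (isTorsionFree_of_mono P.arrow htf) h0, mult_le k hX hL P.arrow hP hE⟩

variable {D : X.Modules} {a b : ℕ} (T : DecSh.TF E a b D) {δ : ℚ} (hδ : 0 < δ)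

omit hδ in
/-- Semistability bounds the slopes of all subsheaves. -/
theorem slope_of_semistable (hδ : 0 < δ) (hT : T.IsSemistable k L δ) {c : ℕ}
    (hc : |(Curv2.euler k X E : ℚ)| + δ * (a : ℚ) ≤ (c : ℚ)) : SlopeLE k L c E := by
  have hX : topologicalKrullDim X ≤ ((1 : ℕ) : WithBot ℕ∞) := hdim.le.trans_eq rfl
  have hδa : 0 ≤ δ * (a : ℚ) := mul_nonneg hδ.le (Nat.cast_nonneg a)
  have hec : (Curv2.euler k X E : ℚ) ≤ (c : ℚ) := by linarith [le_abs_self (Curv2.euler k X E : ℚ)]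
  refine slopeLE_of_bound k hX hL hpure hE htf ?_ fun G j hj hG hG0 hi h1 => ?_
  · by_cases h0 : IsZero E
    · have e : Curv2.euler k X E = 0 := by
        simp only [Curv2.euler]
        exact finsum_eq_zero_of_forall_eq_zero fun q => by
          haveI := EulerLib.subsingleton_HH_of_isZero h0 q
          simp [Module.finrank_zero_of_subsingleton]
      rw [e]; exact mul_nonneg (Int.natCast_nonneg _) (mult_nonneg k hX hL hE)
    · have h1 : (1 : ℤ) ≤ DecSh.mult k X L E := mult_pos k hX hL hpure hE htf h0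
      have : Curv2.euler k X E ≤ (c : ℤ) := by exact_mod_cast hec
      exact this.trans (le_mul_of_one_le_right (Int.natCast_nonneg _) h1)
  haveI := hj
  have h := S19313.result k X hdim hpure L hL E hE htf T δ hδ hT G j hG hG0 hi
  have hle : (DecSh.mult k X L G : ℚ) ≤ (DecSh.mult k X L E : ℚ) := by exact_mod_cast mult_le k hX hL j hG hE
  have hG1 : (1 : ℚ) ≤ (DecSh.mult k X L G : ℚ) := by exact_mod_cast h1
  have h2 : (DecSh.mult k X L E : ℚ) * (Curv2.euler k X G : ℚ) ≤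
      (DecSh.mult k X L E : ℚ) * ((c : ℚ) * (DecSh.mult k X L G : ℚ)) := by
    have hE1 : (1 : ℚ) ≤ (DecSh.mult k X L E : ℚ) := hG1.trans hle
    have hG0 : (0 : ℚ) ≤ (DecSh.mult k X L G : ℚ) := zero_le_one.trans hG1
    have hE0 : (0 : ℚ) ≤ (DecSh.mult k X L E : ℚ) := zero_le_one.trans hE1
    have t1 := mul_le_mul_of_nonneg_left (le_abs_self (Curv2.euler k X E : ℚ)) hG0
    have t2 := le_mul_of_one_le_left (mul_nonneg hG0 (abs_nonneg (Curv2.euler k X E : ℚ))) hE1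
    have t3 := le_mul_of_one_le_right (mul_nonneg hδa hE0) hG1
    have t4 := mul_le_mul_of_nonneg_left hc (mul_nonneg hE0 hG0)
    have t5 := mul_nonneg hδa hG0
    linarith
  exact_mod_cast le_of_mul_le_mul_left h2 (by linarith)

include hδ

/-- Pieces with very negative terms only improve the semistability inequality. -/
theorem sectional_le (g : Subobject E → ℚ)
    (hss : ∀ 𝓖 : DecSh.WFilt E, (∀ i, Coh.IsCoh (𝓖.piece i : X.Modules)) →
      (∑ i, 𝓖.wt i * g (𝓖.piece i)) + δ * T.mu k L 𝓖 ≤ 0)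
    (𝓕 : DecSh.WFilt E) (hcoh : ∀ i, Coh.IsCoh (𝓕.piece i : X.Modules))
    (good : Fin 𝓕.t → Prop) (f : Fin 𝓕.t → ℚ) (hgood : ∀ i, good i → f i ≤ g (𝓕.piece i))
    (hbad : ∀ i, ¬ good i → f i ≤ -(δ * (a : ℚ) * (DecSh.mult k X L E : ℚ) + 1)) :
    (∑ i, 𝓕.wt i * f i) + δ * T.mu k L 𝓕 ≤ 0 ∧
      ((∑ i, 𝓕.wt i * f i) + δ * T.mu k L 𝓕 = 0 → ∀ i, good i) := by
  classical
  set αE : ℚ := (DecSh.mult k X L E : ℚ) with hαE
  let s : Finset (Fin 𝓕.t) := Finset.univ.filter good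
  have hδa : 0 ≤ δ * (a : ℚ) := mul_nonneg hδ.le (Nat.cast_nonneg a)
  -- the dropped part
  have hdrop : ∀ i ∈ sᶜ, 𝓕.wt i * (f i + δ * ((a : ℚ) * (αE - 1))) ≤ -𝓕.wt i := fun i hi => by
    have hb := hbad i (by simpa [s] using hi)
    calc 𝓕.wt i * (f i + δ * ((a : ℚ) * (αE - 1))) ≤ 𝓕.wt i * (-1) :=
          mul_le_mul_of_nonneg_left (by linarith) (𝓕.wt_pos i).le
      _ = -𝓕.wt i := by ring
  have hdrop' : (∑ i ∈ sᶜ, 𝓕.wt i * f i) + δ * ((∑ i ∈ sᶜ, 𝓕.wt i) * (a : ℚ) * (αE - 1)) ≤ -∑ i ∈ sᶜ, 𝓕.wt i := by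
    have h := Finset.sum_le_sum hdrop
    rw [Finset.sum_neg_distrib] at h
    refine le_of_eq_of_le ?_ h
    rw [Finset.sum_mul, Finset.sum_mul, Finset.mul_sum, ← Finset.sum_add_distrib]
    exact Finset.sum_congr rfl fun i _ => by ring
  have hsplit : ∀ w : Fin 𝓕.t → ℚ, ∑ i, w i = ∑ i ∈ s, w i + ∑ i ∈ sᶜ, w i :=
    fun w => (Finset.sum_add_sum_compl s w).symm
  have key : (∑ i, 𝓕.wt i * f i) + δ * T.mu k L 𝓕 ≤ -∑ i ∈ sᶜ, 𝓕.wt i := by
    rcases s.eq_empty_or_nonempty with hs | hs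
    · have h1 := (abs_le.1 (S19311.result k X hdim hpure L hL E hE htf T 𝓕 hcoh)).2
      have h2 := mul_le_mul_of_nonneg_left h1 hδ.le
      simp only [hs, Finset.compl_empty] at hdrop' ⊢
      linarith
    · let e : Fin s.card → Fin 𝓕.t := s.orderEmbOfFin rfl
      let 𝓖 : DecSh.WFilt E :=
        { t := s.card
          t_pos := hs.card_pos
          piece := fun j => 𝓕.piece (e j)
          wt := fun j => 𝓕.wt (e j)
          piece_strictMono := 𝓕.piece_strictMono.comp (s.orderEmbOfFin rfl).strictMono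
          piece_ne_top := fun j => 𝓕.piece_ne_top _
          piece_nonzero := fun j => 𝓕.piece_nonzero _
          wt_pos := fun j => 𝓕.wt_pos _ }
      have hg := hss 𝓖 fun j => hcoh _
      have h1 := S19312.result k X hdim hpure L hL E hE htf T 𝓕 𝓖 e (fun _ => rfl) (fun _ => rfl) hcoh
      have hsum : ∀ w : Fin 𝓕.t → ℚ, ∑ j : Fin s.card, w (e j) = ∑ i ∈ s, w i := fun w => by
        have him : s = Finset.univ.map (s.orderEmbOfFin rfl).toEmbedding := (s.map_orderEmbOfFin_univ rfl).symm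
        conv_rhs => rw [him]
        rw [Finset.sum_map]; rfl
      have e1 : ∑ i, 𝓕.wt i - ∑ j, 𝓖.wt j = ∑ i ∈ sᶜ, 𝓕.wt i := by
        rw [show ∑ j, 𝓖.wt j = ∑ i ∈ s, 𝓕.wt i from hsum 𝓕.wt, hsplit 𝓕.wt]; ring
      rw [e1, ← hαE] at h1
      rw [show ∑ j, 𝓖.wt j * g (𝓖.piece j) = ∑ i ∈ s, 𝓕.wt i * g (𝓕.piece i) from
        hsum fun i => 𝓕.wt i * g (𝓕.piece i)] at hg
      have hfg : ∑ i ∈ s, 𝓕.wt i * f i ≤ ∑ i ∈ s, 𝓕.wt i * g (𝓕.piece i) := Finset.sum_le_sum fun i hi =>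
        mul_le_mul_of_nonneg_left (hgood i (by simpa [s] using hi)) (𝓕.wt_pos i).le
      have h2 := mul_le_mul_of_nonneg_left h1 hδ.le
      rw [hsplit fun i => 𝓕.wt i * f i]
      linarith
  have hnn : 0 ≤ ∑ i ∈ sᶜ, 𝓕.wt i := Finset.sum_nonneg fun i _ => (𝓕.wt_pos i).le
  refine ⟨by linarith, fun h i => ?_⟩
  by_contra hi
  have : 𝓕.wt i ≤ ∑ i ∈ sᶜ, 𝓕.wt i :=
    Finset.single_le_sum (fun i _ => (𝓕.wt_pos i).le) (by simpa [s] using hi)
  linarith [𝓕.wt_pos i]

omit hδ in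
/-- The linear term of a piece whose twist has `H¹`. -/
theorem bad_piece_bound {ω : X.Modules} {t : Coh.HH X ω 1 →ₗ[k] k} (hω : Coh.IsCoh ω)
    (hrep : ∀ F : X.Modules, Coh.IsQCoh F → SerreDual.Rep t F) {c : ℕ} (hc : SlopeLE k L c E) (m : ℕ)
    (P : Subobject E) (hP : Coh.IsCoh (P : X.Modules)) (h0 : ¬ IsZero (P : X.Modules))
    (hne : ¬ Subsingleton (Coh.HH X (ShStab.twist X L (P : X.Modules) m) 1)) :
    DecSh.mult k X L E * (Module.finrank k (Coh.HH X (ShStab.twist X L (P : X.Modules) m) 0) : ℤ) -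
        DecSh.mult k X L (P : X.Modules) * Curv2.euler k X (ShStab.twist X L E m) ≤
      DecSh.mult k X L E * (DecSh.mult k X L E * ((c : ℤ) + Module.finrank k (Coh.HH X ω 0)) +
        |Curv2.euler k X E| - m) := by
  have hX : topologicalKrullDim X ≤ ((1 : ℕ) : WithBot ℕ∞) := hdim.le.trans_eq rfl
  obtain ⟨h1, h2⟩ := piece_bounds k hdim hpure hL hE htf P hP h0
  have hc' : SlopeLE k L c (P : X.Modules) := fun G j hj hG => hc G (j ≫ P.arrow) (mono_comp _ _) hG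
  obtain ⟨n, hn⟩ : ∃ n : ℕ, DecSh.mult k X L (ShStab.twist X L (P : X.Modules) m) ≤ n := ⟨_, Int.self_le_toNat _⟩
  have h := (h0_le_of_slope k hX hL hω hrep n (isCoh_twistL k hL hP m) (hc'.twist k hX hL hP m) hn).2 hne
  rw [mult_twist k hX hL hP] at h
  rw [euler_twist k hX hL hE]
  set N : ℤ := ((Module.finrank k (Coh.HH X ω 0) : ℕ) : ℤ)
  have hN : 0 ≤ N := Int.natCast_nonneg _
  have hc0 : (0 : ℤ) ≤ (c : ℤ) := Int.natCast_nonneg _
  push_cast at h
  nlinarith [mul_le_mul_of_nonneg_left h (show 0 ≤ DecSh.mult k X L E by omega),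
    mul_le_mul_of_nonneg_right h2 (add_nonneg hc0 hN),
    mul_le_mul_of_nonneg_left (neg_abs_le (Curv2.euler k X E)) (show 0 ≤ DecSh.mult k X L (P : X.Modules) by omega),
    mul_le_mul_of_nonneg_right h2 (abs_nonneg (Curv2.euler k X E))]

end Groth.Agent.Surf15
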