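import Groth.Agent.Surf15.Sectional
import Groth.Agent.Surf15.LMStable
import Groth.Agent.AbSchLib.SmoothReduced
import Groth.Agent.Clifford24.StableFamily
import Groth.Agent.VarietyLib.CurveDegreeApps

/-!
# Surf15: slope bounds for parabolic tensor fields
-/

set_option autoImplicit false
set_option linter.style.haveILetI false
set_option backward.isDefEq.respectTransparency.types false

universe u

open CategoryTheory CategoryTheory.Limits AlgebraicGeometry Opposite TopologicalSpace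
open Groth.Agent.Coherent Groth.Agent.PicLib Groth.Agent.AmpleLib Groth.Agent.EulerLib
open Groth.Agent.CurveRR24 Groth.Agent.DimLib

namespace Groth.Agent.Surf15

variable (k : Type u) [Field k]
  {Y : Scheme.{u}} [Y.Over (Spec (CommRingCat.of k))] [IsProper (Y ↘ Spec (CommRingCat.of k))]

/-- The parabolic correction is at most `r ν`. -/
theorem parCorr_bounds {r ν : ℕ} {I : Fin ν → Y.IdealSheafData} {E : Y.Modules}
    (K : ∀ i, Submodule k (ParSh.fibD Y (I i) E)) (hK : ∀ i, Module.finrank k (ParSh.fibD Y (I i) E ⧸ K i) = r)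
    (hr : 0 < ν → 0 < r) {κ : Fin ν → ℚ} (hκ : ∀ i, 0 < κ i ∧ κ i < 1) {F : Y.Modules} (ι : F ⟶ E) :
    DecSh.parChi k I K κ ι ≤ (Curv2.euler k Y F : ℚ) ∧
      (Curv2.euler k Y F : ℚ) - (r : ℚ) * (ν : ℚ) ≤ DecSh.parChi k I K κ ι := by
  refine ⟨sub_le_self _ (Finset.sum_nonneg fun i _ => mul_nonneg (hκ i).1.le (Nat.cast_nonneg _)), ?_⟩
  refine sub_le_sub_left ((Finset.sum_le_sum fun i _ => ?_).trans_eq
    (show ∑ _i : Fin ν, (r : ℚ) = (r : ℚ) * (ν : ℚ) by simp [mul_comm])) _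
  haveI : Module.Finite k (ParSh.fibD Y (I i) E ⧸ K i) :=
    Module.finite_of_finrank_pos (by rw [hK]; exact hr i.pos)
  refine (mul_le_of_le_one_left (Nat.cast_nonneg _) (hκ i).2.le).trans ?_
  exact_mod_cast (Submodule.finrank_le _).trans_eq (hK i)

variable [IsAlgClosed k] [CharZero k] [Smooth (Y ↘ Spec (CommRingCat.of k))]
  (hdim : topologicalKrullDim Y = 1) (hpure : ∀ y : Y, ¬ IsOpen ({y} : Set Y))
  {L : Y.Modules} (hL : CohB1.IsAmple L) {E : Y.Modules} {r : ℕ} (hE : FlatMod.IsFinLocFreeOfRank r E)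

omit [IsProper (Y ↘ Spec (CommRingCat.of k))] [IsAlgClosed k] [CharZero k] [Smooth (Y ↘ Spec (CommRingCat.of k))] in
include hE in
theorem bundle_torsionFree : Coh.IsCoh E ∧ TorSh.IsTorsionFree E := by
  have hEf : FlatMod.IsFinLocFree E := fun y => let ⟨U, hy, e⟩ := hE y; ⟨U, r, hy, e⟩
  have hEc : Coh.IsCoh E := CohBC.isCoh_of_isFinLocFree hEf
  refine ⟨hEc, fun y => ?_⟩
  haveI := hEc.1
  haveI := Props12.free_stalk_of_isFinLocFree E hEf y
  infer_instance

omit [IsAlgClosed k] [CharZero k] [Smooth (Y ↘ Spec (CommRingCat.of k))] in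
include hdim hL hE in
/-- The multiplicity of a bundle. -/
theorem mult_bundle : DecSh.mult k Y L E = (r : ℤ) * Curv2.deg k Y L 1 := by
  have h := VarietyLib.deg_tensor_rank k hdim.le hE (isFinLocFreeOfRank_one hL.1)
  simp only [Curv2.deg, DecSh.mult, Nat.cast_mul, Nat.cast_one, mul_one] at h ⊢
  linear_combination h

include hdim hpure hL hE in
/-- Parabolic semistability bounds the slopes of all subsheaves. -/
theorem slope_of_parSemistable {ν : ℕ} {I : Fin ν → Y.IdealSheafData} (hI : ∀ i, FGA.IsEffCartier (I i))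
    {K : ∀ i, Submodule k (ParSh.fibD Y (I i) E)} (hK : ∀ i, Module.finrank k (ParSh.fibD Y (I i) E ⧸ K i) = r)
    {κ : Fin ν → ℚ} (hκ : ∀ i, 0 < κ i ∧ κ i < 1) {D : Y.Modules} {a b : ℕ} (T : DecSh.TF E a b D)
    {δ : ℚ} (hδ : 0 < δ) (hT : T.IsParSemistable k I K κ L δ) {c : ℕ}
    (hc : |(Curv2.euler k Y E : ℚ)| + (a : ℚ) * δ + (r : ℚ) * (ν : ℚ) ≤ (c : ℚ)) :
    SlopeLE k L c E := by
  haveI := AbSchLib.isReduced_of_smooth (Y ↘ Spec (CommRingCat.of k))
  have hX : topologicalKrullDim Y ≤ ((1 : ℕ) : WithBot ℕ∞) := hdim.le.trans_eq rfl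
  obtain ⟨hEc, htf⟩ := bundle_torsionFree hE
  have h0 : 0 ≤ (a : ℚ) * δ + (r : ℚ) * (ν : ℚ) := by positivity
  have hec : (Curv2.euler k Y E : ℚ) ≤ (c : ℚ) := by linarith [le_abs_self (Curv2.euler k Y E : ℚ)]
  refine slopeLE_of_bound k hX hL hpure hEc htf ?_ fun G j hj hG hG0 hi h1 => ?_
  · by_cases h0 : IsZero E
    · have e : Curv2.euler k Y E = 0 := by
        simp only [Curv2.euler]
        exact finsum_eq_zero_of_forall_eq_zero fun q => by
          haveI := EulerLib.subsingleton_HH_of_isZero h0 q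
          simp [Module.finrank_zero_of_subsingleton]
      rw [e]; exact mul_nonneg (Int.natCast_nonneg _) (mult_nonneg k hX hL hEc)
    · have h1 : (1 : ℤ) ≤ DecSh.mult k Y L E := mult_pos k hX hL hpure hEc htf h0
      have : Curv2.euler k Y E ≤ (c : ℤ) := by exact_mod_cast hec
      exact this.trans (le_mul_of_one_le_right (Int.natCast_nonneg _) h1)
  haveI := hj
  have h := S19315.result k Y hdim hpure L hL E r hE I hI K hK κ hκ T δ hδ hT G j hG hG0 hi
  have hG1 : (1 : ℚ) ≤ (DecSh.mult k Y L G : ℚ) := by exact_mod_cast h1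
  have hE1 : (1 : ℚ) ≤ (DecSh.mult k Y L E : ℚ) := hG1.trans (by exact_mod_cast mult_le k hX hL j hG hEc)
  have h3 : (Curv2.euler k Y E : ℚ) / (DecSh.mult k Y L E : ℚ) ≤ |(Curv2.euler k Y E : ℚ)| :=
    (div_le_div_of_nonneg_right (le_abs_self _) (by linarith)).trans (div_le_self (abs_nonneg _) hE1)
  have h2 : (Curv2.euler k Y G : ℚ) / (DecSh.mult k Y L G : ℚ) ≤ (c : ℚ) := by linarith
  rw [div_le_iff₀ (by linarith)] at h2
  exact_mod_cast h2

end Groth.Agent.Surf15
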