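import Groth.Agent.Surf15.Threshold

/-!
# Surf15: semistability via sections of large twists
-/

set_option autoImplicit false
set_option linter.style.haveILetI false
set_option backward.isDefEq.respectTransparency.types false

universe u

open CategoryTheory CategoryTheory.Limits AlgebraicGeometry Opposite TopologicalSpace
open Groth.Agent.Coherent Groth.Agent.PicLib Groth.Agent.AmpleLib Groth.Agent.EulerLib
open Groth.Agent.CurveRR24 Groth.Agent.DimLib

namespace Groth.Agent.Surf15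

variable (k : Type u) [Field k] [IsAlgClosed k] [CharZero k]
  {X : Scheme.{u}} [X.Over (Spec (CommRingCat.of k))] [IsProper (X ↘ Spec (CommRingCat.of k))]
  [AlgebraicGeometry.IsReduced X]
  (hdim : topologicalKrullDim X = 1) (hpure : ∀ x : X, ¬ IsOpen ({x} : Set X))
  {L : X.Modules} (hL : CohB1.IsAmple L)
  {ω : X.Modules} {t : Coh.HH X ω 1 →ₗ[k] k} (hω : Coh.IsCoh ω)
  (hrep : ∀ F : X.Modules, Coh.IsQCoh F → SerreDual.Rep t F)
include hdim hpure hL hω hrep

/-- Semistable fields satisfy the sectional condition at large twists, strictly unless all pieces have no `H¹`. -/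
theorem exists_sectional {δ : ℚ} (hδ : 0 < δ) (α e : ℤ) (a : ℕ) :
    ∃ N₀ : ℕ, ∀ m : ℕ, N₀ ≤ m → ∀ (E : X.Modules), Coh.IsCoh E → TorSh.IsTorsionFree E →
      DecSh.mult k X L E = α → Curv2.euler k X E = e → ∀ {D : X.Modules} {b : ℕ} (T : DecSh.TF E a b D),
      T.IsSemistable k L δ → ∀ 𝓕 : DecSh.WFilt E, (∀ i, Coh.IsCoh ((𝓕.piece i : Subobject E) : X.Modules)) →
      (∑ i, 𝓕.wt i * ((α : ℚ) *
          (Module.finrank k (Coh.HH X (ShStab.twist X L ((𝓕.piece i : Subobject E) : X.Modules) m) 0) : ℚ) -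
        (DecSh.mult k X L ((𝓕.piece i : Subobject E) : X.Modules) : ℚ) *
          (Curv2.euler k X (ShStab.twist X L E m) : ℚ))) + δ * T.mu k L 𝓕 ≤ 0 ∧
      ((∑ i, 𝓕.wt i * ((α : ℚ) *
          (Module.finrank k (Coh.HH X (ShStab.twist X L ((𝓕.piece i : Subobject E) : X.Modules) m) 0) : ℚ) -
        (DecSh.mult k X L ((𝓕.piece i : Subobject E) : X.Modules) : ℚ) *
          (Curv2.euler k X (ShStab.twist X L E m) : ℚ))) + δ * T.mu k L 𝓕 = 0 →
        ∀ i, Subsingleton (Coh.HH X (ShStab.twist X L ((𝓕.piece i : Subobject E) : X.Modules) m) 1)) := by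
  have hX : topologicalKrullDim X ≤ ((1 : ℕ) : WithBot ℕ∞) := hdim.le.trans_eq rfl
  obtain ⟨c, hc⟩ := exists_nat_ge (|(e : ℚ)| + δ * (a : ℚ))
  set N : ℕ := Module.finrank k (Coh.HH X ω 0)
  obtain ⟨N₀, hN₀⟩ := exists_nat_ge (|(α : ℚ)| * ((c : ℚ) + (N : ℚ)) + |(e : ℚ)| + δ * (a : ℚ) + 1)
  refine ⟨N₀, fun m hm E hE htf hα he D b T hT 𝓕 hcoh => ?_⟩
  have hsl := slope_of_semistable k hdim hpure hL hE htf T hδ hT (by rw [he]; exact hc)
  have hm' : (N₀ : ℚ) ≤ (m : ℚ) := by exact_mod_cast hm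
  refine sectional_le k hdim hpure hL hE htf T hδ
    (fun P => (α : ℚ) * (Curv2.euler k X (P : X.Modules) : ℚ) - (DecSh.mult k X L (P : X.Modules) : ℚ) * (e : ℚ))
    (fun 𝓖 h => ?_) 𝓕 hcoh
    (fun i => Subsingleton (Coh.HH X (ShStab.twist X L ((𝓕.piece i : Subobject E) : X.Modules) m) 1)) _
    (fun i hi => le_of_eq ?_) fun i hi => ?_
  · have := hT 𝓖 h
    rw [DecSh.WFilt.msum, hα, he] at this
    rwa [DecSh.TF.mu, hα]
  · have hh : ((Module.finrank k (Coh.HH X (ShStab.twist X L ((𝓕.piece i : Subobject E) : X.Modules) m) 0) : ℤ) : ℚ) =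
        ((Curv2.euler k X ((𝓕.piece i : Subobject E) : X.Modules) +
          (m : ℤ) * DecSh.mult k X L ((𝓕.piece i : Subobject E) : X.Modules) : ℤ) : ℚ) := by
      rw [h0_eq_euler k hX (isCoh_twistL k hL (hcoh i) m) hi, euler_twist k hX hL (hcoh i)]
    rw [euler_twist k hX hL hE, hα, he]
    push_cast at hh ⊢
    rw [hh]; ring
  · obtain ⟨h1, h2⟩ := piece_bounds k hdim hpure hL hE htf _ (hcoh i) (𝓕.piece_nonzero i)
    have h := bad_piece_bound k hdim hpure hL hE htf hω hrep hsl m _ (hcoh i) (𝓕.piece_nonzero i) hi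
    rw [hα, he] at h
    rw [hα] at h2 ⊢
    have h' : (α : ℚ) * (Module.finrank k (Coh.HH X (ShStab.twist X L ((𝓕.piece i : Subobject E) : X.Modules) m) 0) : ℚ) -
        (DecSh.mult k X L ((𝓕.piece i : Subobject E) : X.Modules) : ℚ) * (Curv2.euler k X (ShStab.twist X L E m) : ℚ) ≤
        (α : ℚ) * ((α : ℚ) * ((c : ℚ) + (N : ℚ)) + |(e : ℚ)| - (m : ℚ)) := by
      rw [← Int.cast_abs]; exact_mod_cast h
    refine h'.trans ?_
    have hα1 : (1 : ℚ) ≤ (α : ℚ) := by exact_mod_cast h1.trans h2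
    rw [abs_of_nonneg (show (0 : ℚ) ≤ (α : ℚ) by linarith)] at hN₀
    nlinarith [mul_le_mul_of_nonneg_left (show (α : ℚ) * ((c : ℚ) + (N : ℚ)) + |(e : ℚ)| + δ * (a : ℚ) + 1 ≤ (m : ℚ) by linarith)
      (show (0 : ℚ) ≤ (α : ℚ) by linarith)]

end Groth.Agent.Surf15
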