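import Groth.Agent.Surf15.Sectional

/-!
# Surf15: the threshold of the sectional characterisation of semistability
-/

set_option autoImplicit false
set_option linter.style.haveILetI false
set_option backward.isDefEq.respectTransparency.types false

universe u

open CategoryTheory CategoryTheory.Limits AlgebraicGeometry Opposite TopologicalSpace
open Groth.Agent.Coherent Groth.Agent.PicLib Groth.Agent.AmpleLib Groth.Agent.EulerLib
open Groth.Agent.CurveRR24 Groth.Agent.DimLib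

namespace Groth.Agent.Surf15

variable (k : Type u) [Field k] [IsAlgClosed k] [CharZero k]
  {X : Scheme.{u}} [X.Over (Spec (CommRingCat.of k))] [IsProper (X ↘ Spec (CommRingCat.of k))]
  [AlgebraicGeometry.IsReduced X]
  (hdim : topologicalKrullDim X = 1) (hpure : ∀ x : X, ¬ IsOpen ({x} : Set X))
  {L : X.Modules} (hL : CohB1.IsAmple L)
  {ω : X.Modules} {t : Coh.HH X ω 1 →ₗ[k] k} (hω : Coh.IsCoh ω)
  (hrep : ∀ F : X.Modules, Coh.IsQCoh F → SerreDual.Rep t F)
include hdim hpure hL hω hrep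

/-- The quotient sectional condition of a weighted filtration. -/
def QuotSect (α : ℤ) (m : ℕ) (δ : ℚ) {E D : X.Modules} {a b : ℕ} (T : DecSh.TF E a b D) : Prop :=
  ∀ 𝓕 : DecSh.WFilt E, (∀ i, Coh.IsCoh ((𝓕.piece i : Subobject E) : X.Modules)) →
    (∑ i, 𝓕.wt i * ((DecSh.mult k X L (cokernel (𝓕.piece i).arrow) : ℚ) *
        (Curv2.euler k X (ShStab.twist X L E m) : ℚ) -
      (α : ℚ) * (Module.finrank k (Coh.HH X (ShStab.twist X L (cokernel (𝓕.piece i).arrow) m) 0) : ℚ))) +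
      δ * T.mu k L 𝓕 ≤ 0

omit [IsAlgClosed k] [CharZero k] [AlgebraicGeometry.IsReduced X] hpure hω hrep in
theorem quot_term {E : X.Modules} (hE : Coh.IsCoh E) (m : ℕ)
    (hv : Subsingleton (Coh.HH X (ShStab.twist X L E m) 1)) (P : Subobject E) (hP : Coh.IsCoh (P : X.Modules)) :
    DecSh.mult k X L (cokernel P.arrow) * Curv2.euler k X (ShStab.twist X L E m) -
        DecSh.mult k X L E * (Module.finrank k (Coh.HH X (ShStab.twist X L (cokernel P.arrow) m) 0) : ℤ) =
      DecSh.mult k X L E * Curv2.euler k X (P : X.Modules) -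
        DecSh.mult k X L (P : X.Modules) * Curv2.euler k X E := by
  have hX : topologicalKrullDim X ≤ ((1 : ℕ) : WithBot ℕ∞) := hdim.le.trans_eq rfl
  haveI := isNoetherian_of_proper (X := X) k
  haveI := isSeparated_of_proper (X := X) k
  have hc : Coh.IsCoh (cokernel P.arrow) := isCoh_cokernel P.arrow hP.1 hE
  have hS : (ShortComplex.mk P.arrow (cokernel.π P.arrow) (cokernel.condition _)).ShortExact :=
    { exact := ShortComplex.exact_cokernel _ }
  have hS' := twistSeq_shortExact (isInvertible_tensorPow hL.1 m) hS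
  have hv' : Subsingleton (Coh.HH X (ShStab.twist X L (cokernel P.arrow) m) 1) := by
    haveI := (isCoh_twistL k hL hP m).1
    exact @Function.Surjective.subsingleton _ _ _ hv (SerreDual.hmap_surjective_of_shortExact k hS' 1
      (subsingleton_HH_of_dim (X := X) (ShStab.twist X L (P : X.Modules) m) hX Nat.one_lt_two))
  rw [h0_eq_euler k hX (isCoh_twistL k hL hc m) hv', euler_twist k hX hL hE, euler_twist k hX hL hc]
  have h1 := deg_additive k (ShortComplex.mk P.arrow (cokernel.π P.arrow) (cokernel.condition _)) hS hP hE hc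
    (InvCl.mk L hL.1)
  have h2 := euler_additive k X (ShortComplex.mk P.arrow (cokernel.π P.arrow) (cokernel.condition _)) hS hP hE hc
  dsimp only at h1 h2
  rw [← mult_eq_deg k hL, ← mult_eq_deg k hL, ← mult_eq_deg k hL] at h1
  rw [h1, h2]
  ring

/-- The quotient sectional condition kills `H¹`. -/
theorem h1_of_quotSect {δ : ℚ} (hδ : 0 < δ) {α e : ℤ} {a : ℕ} {m : ℕ}
    (hm : (Module.finrank k (Coh.HH X ω 0) : ℚ) + δ * (a : ℚ) + |(e : ℚ)| + 1 ≤ (m : ℚ))
    {E : X.Modules} (hE : Coh.IsCoh E) (htf : TorSh.IsTorsionFree E) (hα : DecSh.mult k X L E = α)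
    (he : Curv2.euler k X E = e) {D : X.Modules} {b : ℕ} (T : DecSh.TF E a b D)
    (h : QuotSect k (L := L) α m δ T) : Subsingleton (Coh.HH X (ShStab.twist X L E m) 1) := by
  have hX : topologicalKrullDim X ≤ ((1 : ℕ) : WithBot ℕ∞) := hdim.le.trans_eq rfl
  haveI := isNoetherian_of_proper (X := X) k
  by_contra hne
  have hEm := isCoh_twistL k hL hE m
  obtain ⟨K, Q, i, p, w, hS, hK, hQ, hpos, hle⟩ := exists_quot_of_h1 k hX hL hω hrep hEm hne
  haveI : Mono i := hS.mono_f
  set N : ℕ := Module.finrank k (Coh.HH X ω 0)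
  have hNq : (Module.finrank k (Coh.HH X Q 0) : ℚ) ≤ (N : ℚ) := by exact_mod_cast hle
  have hadd := deg_additive k (ShortComplex.mk i p w) hS hK hEm hQ (InvCl.mk L hL.1)
  dsimp only at hadd
  rw [← mult_eq_deg k hL, ← mult_eq_deg k hL, ← mult_eq_deg k hL, mult_twist k hX hL hE, hα] at hadd
  have hK0 := mult_nonneg k hX hL hK
  have hα1 : (1 : ℚ) ≤ (α : ℚ) := by exact_mod_cast (show (1 : ℤ) ≤ α by omega)
  have hχm : (Curv2.euler k X (ShStab.twist X L E m) : ℚ) = (e : ℚ) + (m : ℚ) * (α : ℚ) := by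
    rw [euler_twist k hX hL hE, he, hα]; push_cast; ring
  have hma : (m : ℚ) ≤ (m : ℚ) * (α : ℚ) := le_mul_of_one_le_right (Nat.cast_nonneg _) hα1
  have hδa : 0 ≤ δ * (a : ℚ) := mul_nonneg hδ.le (Nat.cast_nonneg a)
  have hN0 : (0 : ℚ) ≤ (N : ℚ) := Nat.cast_nonneg N
  by_cases hK1 : IsZero K
  · have hχ := euler_additive k X (ShortComplex.mk i p w) hS hK hEm hQ
    dsimp only at hχ
    have hKz : Curv2.euler k X K = 0 := by
      simp only [Curv2.euler]
      exact finsum_eq_zero_of_forall_eq_zero fun q => by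
        haveI := EulerLib.subsingleton_HH_of_isZero hK1 q
        simp [Module.finrank_zero_of_subsingleton]
    rw [hKz, zero_add] at hχ
    have h4 : (Curv2.euler k X Q : ℚ) ≤ (Module.finrank k (Coh.HH X Q 0) : ℚ) := by
      exact_mod_cast euler_le_h0 k hX hQ
    rw [← hχ, hχm] at h4
    linarith [neg_abs_le (e : ℚ)]
  · have hm' := isInvertible_tensorPow hL.1 m
    obtain ⟨N', ⟨eN⟩⟩ := VarietyLib.exists_isInverseOf hm'
    have hN : PicF.IsInvertible N' :=
      PicM.isInvertible_of_tensor hm' (glocus_isInvertible_of_iso eN.symm isInvertible_structureModule)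
    have hS' := twistSeq_shortExact hN hS
    haveI := hS'.mono_f
    let f' : CohB1.tensorMod K N' ⟶ CohB1.tensorMod (ShStab.twist X L E m) N' := tensorMap i (𝟙 N')
    let ee : CohB1.tensorMod (ShStab.twist X L E m) N' ≅ E :=
      DCat.TensorAssoc.assocIso E _ N' ≪≫ AmpleLib.tensorIso (Iso.refl E) eN ≪≫
        AmpleLib.tensorComm _ _ ≪≫ unitTensorIso E
    haveI : Mono f' := mono_tensorMap hN i
    let i' : CohB1.tensorMod K N' ⟶ E := f' ≫ ee.hom
    let back : ∀ G : X.Modules, ShStab.twist X L (CohB1.tensorMod G N') m ≅ G := fun G =>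
      DCat.TensorAssoc.assocIso G N' _ ≪≫ AmpleLib.tensorIso (Iso.refl G) (AmpleLib.tensorComm _ _ ≪≫ eN) ≪≫
        AmpleLib.tensorComm _ _ ≪≫ unitTensorIso G
    let P : Subobject E := Subobject.mk i'
    let eP : (P : X.Modules) ≅ CohB1.tensorMod K N' := Subobject.underlyingIso i'
    have hPc : Coh.IsCoh (P : X.Modules) := Coherent.isCoh_of_iso eP.symm (EulerLib.isCoh_twist hN hK)
    have hP0 : ¬ IsZero (P : X.Modules) := fun hz => hK1 (IsZero.of_iso
      (isZero_of_support_eq_empty (by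
        rw [ShStab.twist, support_twist (isInvertible_tensorPow hL.1 m)]
        exact Set.subset_empty_iff.1 (support_of_isZero (hz.of_iso eP.symm) ∅))) (back K).symm)
    let ec : cokernel P.arrow ≅ CohB1.tensorMod Q N' :=
      cokernelIsoOfEq (show P.arrow = eP.hom ≫ i' from (Subobject.underlyingIso_hom_comp_eq_mk i').symm) ≪≫
        cokernelEpiComp _ _ ≪≫ cokernelCompIsIso f' ee.hom ≪≫
        (cokernelIsCokernel _).coconePointUniqueUpToIso hS'.gIsCokernel
    let ecQ : ShStab.twist X L (cokernel P.arrow) m ≅ Q :=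
      AmpleLib.tensorIso ec (Iso.refl _) ≪≫ back Q
    have hcc : Coh.IsCoh (cokernel P.arrow) := isCoh_cokernel P.arrow hPc.1 hE
    have hmc : DecSh.mult k X L (cokernel P.arrow) = DecSh.mult k X L Q := by
      rw [← mult_twist k hX hL hcc m, mult_eq_deg k hL, Surf15.deg_congr k ecQ, ← mult_eq_deg k hL]
    have hP : P ≠ ⊤ := fun hT => by
      haveI := (Subobject.isIso_arrow_iff_eq_top P).2 hT
      have hz : IsZero (cokernel P.arrow) := isZero_cokernel_of_epi _
      have : DecSh.mult k X L (cokernel P.arrow) = 0 := by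
        rw [mult_eq_deg k hL]
        exact deg_eq_zero_of_dim k hcc (by
          rw [Set.subset_empty_iff.1 (support_of_isZero hz ∅)]
          haveI : IsEmpty (IrreducibleCloseds (∅ : Set X)) := ⟨fun A => A.2.1.elim fun a _ => a.2⟩
          show Order.krullDim _ < _
          rw [Order.krullDim_eq_bot]
          exact WithBot.bot_lt_coe _) _
      omega
    let W := DecSh.WFilt.single P hP hP0
    have hh := h W fun _ => hPc
    have hs : ∀ g : Fin W.t → ℚ, ∑ j, g j = g ⟨0, Nat.one_pos⟩ := fun g => Fin.sum_univ_one (M := ℚ) g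
    have hμ := (abs_le.1 (S19311.result k X hdim hpure L hL E hE htf T W fun _ => hPc)).1
    rw [hs] at hh hμ
    change 1 * ((DecSh.mult k X L (cokernel P.arrow) : ℚ) * (Curv2.euler k X (ShStab.twist X L E m) : ℚ) -
      (α : ℚ) * (Module.finrank k (Coh.HH X (ShStab.twist X L (cokernel P.arrow) m) 0) : ℚ)) +
      δ * T.mu k L W ≤ 0 at hh
    change -(1 * (a : ℚ) * ((DecSh.mult k X L E : ℚ) - 1)) ≤ T.mu k L W at hμ
    rw [hα] at hμ
    rw [hmc, hχm, Groth.Agent.Coherent.CohBC.finrank_HH_congr k ecQ 0] at hh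
    have hQ1 : (1 : ℚ) ≤ (DecSh.mult k X L Q : ℚ) := by exact_mod_cast hpos
    have h6 : (e : ℚ) + (m : ℚ) * (α : ℚ) ≤ (DecSh.mult k X L Q : ℚ) * ((e : ℚ) + (m : ℚ) * (α : ℚ)) :=
      le_mul_of_one_le_left (by linarith [neg_abs_le (e : ℚ)]) hQ1
    have h7 := mul_le_mul_of_nonneg_left hμ hδ.le
    have h8 := mul_le_mul_of_nonneg_left hNq (show (0 : ℚ) ≤ (α : ℚ) by linarith)
    nlinarith [mul_le_mul_of_nonneg_left hm (show (0 : ℚ) ≤ (α : ℚ) by linarith),
      mul_nonneg (show (0 : ℚ) ≤ (α : ℚ) - 1 by linarith) (abs_nonneg (e : ℚ)), neg_abs_le (e : ℚ)]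

/-- The threshold. -/
theorem exists_threshold {δ : ℚ} (hδ : 0 < δ) (α e : ℤ) (a : ℕ) :
    ∃ N₁ : ℕ, ∀ m : ℕ, N₁ ≤ m → ∀ (E : X.Modules), Coh.IsCoh E → TorSh.IsTorsionFree E →
      DecSh.mult k X L E = α → Curv2.euler k X E = e → ∀ {D : X.Modules} {b : ℕ} (T : DecSh.TF E a b D),
        (T.IsSemistable k L δ ↔ QuotSect k (L := L) α m δ T) ∧
        (T.IsSemistable k L δ → Subsingleton (Coh.HH X (ShStab.twist X L E m) 1)) := by
  have hX : topologicalKrullDim X ≤ ((1 : ℕ) : WithBot ℕ∞) := hdim.le.trans_eq rfl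
  obtain ⟨c, hc⟩ := exists_nat_ge (|(e : ℚ)| + δ * (a : ℚ))
  obtain ⟨N₁, hN₁⟩ := exists_nat_ge ((Module.finrank k (Coh.HH X ω 0) : ℚ) + δ * (a : ℚ) + |(e : ℚ)| + 1 +
    (c : ℚ) * |(α : ℚ)|)
  refine ⟨N₁, fun m hm E hE htf hα he D b T => ?_⟩
  have hm' : (N₁ : ℚ) ≤ (m : ℚ) := by exact_mod_cast hm
  have hδa : 0 ≤ δ * (a : ℚ) := mul_nonneg hδ.le (Nat.cast_nonneg a)
  have hv : T.IsSemistable k L δ → Subsingleton (Coh.HH X (ShStab.twist X L E m) 1) := fun hT => by
    refine subsingleton_h1_of_slope k hX hL hω hrep hE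
      (slope_of_semistable k hdim hpure hL hE htf T hδ hT (by rw [he]; exact hc)) ?_
    rw [he, hα]
    have : ((Module.finrank k (Coh.HH X ω 0) : ℤ) : ℚ) - (e : ℚ) + (c : ℚ) * (α : ℚ) < ((m : ℤ) : ℚ) := by
      push_cast
      linarith [neg_abs_le (e : ℚ), mul_le_mul_of_nonneg_left (le_abs_self (α : ℚ)) (Nat.cast_nonneg (α := ℚ) c)]
    exact_mod_cast this
  have heq : Subsingleton (Coh.HH X (ShStab.twist X L E m) 1) → ∀ 𝓕 : DecSh.WFilt E,
      (∀ i, Coh.IsCoh ((𝓕.piece i : Subobject E) : X.Modules)) →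
      𝓕.chiSum k L = ∑ i, 𝓕.wt i * ((DecSh.mult k X L (cokernel (𝓕.piece i).arrow) : ℚ) *
        (Curv2.euler k X (ShStab.twist X L E m) : ℚ) -
      (α : ℚ) * (Module.finrank k (Coh.HH X (ShStab.twist X L (cokernel (𝓕.piece i).arrow) m) 0) : ℚ)) := by
    intro hs 𝓕 hcoh
    rw [DecSh.WFilt.chiSum, DecSh.WFilt.msum]
    refine Finset.sum_congr rfl fun i _ => ?_
    have h := quot_term k hdim hL hE m hs (𝓕.piece i) (hcoh i)
    rw [hα, he] at h
    rw [hα, he]
    congr 1
    exact_mod_cast h.symm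
  refine ⟨⟨fun hT 𝓕 hcoh => ?_, fun h 𝓕 hcoh => ?_⟩, hv⟩
  · rw [← heq (hv hT) 𝓕 hcoh]
    exact hT 𝓕 hcoh
  · have hs := h1_of_quotSect k hdim hpure hL hω hrep hδ (m := m) (by
      linarith [mul_nonneg (Nat.cast_nonneg (α := ℚ) c) (abs_nonneg (α : ℚ))]) hE htf hα he T h
    have h2 := h 𝓕 hcoh
    rw [← heq hs 𝓕 hcoh] at h2
    exact h2

end Groth.Agent.Surf15
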