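import Groth.Agent.Coherent.InternalHomAdj
import Groth.Agent.SerreDual.TwistEquiv
import Groth.Agent.VarietyLib.ProperCurveAmple

/-!
# Surf15: the sheaf Hom out of an invertible module is its tensor inverse
-/

set_option autoImplicit false
set_option backward.isDefEq.respectTransparency.types false

universe u

open CategoryTheory CategoryTheory.Limits AlgebraicGeometry
open Groth.Agent.Coherent Groth.Agent.PicLib Groth.Agent.AmpleLib

namespace Groth.Agent.Surf15

variable {X : Scheme.{u}}

theorem tensE_map_comm (M : X.Modules) {A B : X.Modules} (g : A ⟶ B) :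
    tE M g ≫ (AmpleLib.tensorComm M B).hom = (AmpleLib.tensorComm M A).hom ≫ tensorMap g (𝟙 M) :=
  AmpleLib.hom_ext fun U a b => by
    refine ((congrArg ((tensorSwap M B).app U) (tensE_map_tmul M g U a b)).trans (Bilin.desc_tmul _ U _ _)).trans ?_
    refine Eq.symm ((congrArg ((tensorMap g (𝟙 M)).app U) (Bilin.desc_tmul _ U a b)).trans ?_)
    exact tensorMap_tmul g (𝟙 M) b a

theorem nonempty_tensor_sheafHom_iso {M : X.Modules} (hM : PicF.IsInvertible M) [DCoh.HasSheafHom M] :
    Nonempty (CohB1.tensorMod M ((DCoh.sheafHom M).obj (Coh.structureModule X)) ≅ Coh.structureModule X) := by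
  obtain ⟨N, ⟨e⟩⟩ := VarietyLib.exists_isInverseOf hM
  have hN : PicF.IsInvertible N :=
    PicM.isInvertible_of_tensor hM (glocus_isInvertible_of_iso e.symm isInvertible_structureModule)
  haveI : (SerreDual.twistF M).IsEquivalence :=
    SerreDual.isEquivalence_twistF hN hM (tensorComm N M ≪≫ e)
  let ν : tensE M ≅ SerreDual.twistF M := NatIso.ofComponents (fun A => AmpleLib.tensorComm M A)
    fun {A B} g => tensE_map_comm M g
  haveI : (tensE M).IsEquivalence := Functor.isEquivalence_of_iso ν.symm
  haveI : ((DCoh.tensorBi (X := X)).obj M).IsEquivalence := inferInstanceAs (tensE M).IsEquivalence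
  haveI hR : (DCoh.sheafHom M).IsEquivalence := (DCoh.sheafHomAdj M).isEquivalence_right_of_isEquivalence_left
  haveI hc : IsIso (DCoh.sheafHomAdj M).counit := @Adjunction.counit_isIso_of_R_fully_faithful _ _ _ _ _ _ (DCoh.sheafHomAdj M) hR.full hR.faithful
  exact ⟨(asIso (DCoh.sheafHomAdj M).counit).app (Coh.structureModule X)⟩

end Groth.Agent.Surf15
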