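import Groth.Agent.Surf15.NumBridge
import Mathlib.Topology.Algebra.Module.FiniteDimension
import Mathlib.Topology.Algebra.Module.ModuleTopology
import Mathlib.LinearAlgebra.Matrix.Nondegenerate
import Mathlib.RingTheory.Localization.Integer

/-!
# Surf15: the real intersection form is Lorentzian
-/

set_option autoImplicit false
set_option linter.style.haveILetI false
set_option backward.isDefEq.respectTransparency.types false

universe u v

open CategoryTheory CategoryTheory.Limits AlgebraicGeometry Opposite TopologicalSpace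
open Groth.Agent.Coherent Groth.Agent.PicLib Groth.Agent.AmpleLib Groth.Agent.EulerLib

namespace Groth.Agent.Surf15

section Lorentz

variable {V : Type v} [AddCommGroup V] [Module ℝ V] (β : V →ₗ[ℝ] V →ₗ[ℝ] ℝ)

/-- A symmetric form positive at `h` and negative definite orthogonally to `h`. -/
structure Lorentz (h : V) : Prop where
  comm : ∀ x y, β x y = β y x
  pos : 0 < β h h
  neg : ∀ z, β z h = 0 → z ≠ 0 → β z z < 0

variable {β} {h : V}

theorem Lorentz.nonpos (hl : Lorentz β h) {z : V} (hz : β z h = 0) : β z z ≤ 0 := by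
  rcases eq_or_ne z 0 with rfl | hne
  · simp
  · exact (hl.neg z hz hne).le

theorem Lorentz.ne_zero (hl : Lorentz β h) {x : V} (hx : 0 < β x x) : β x h ≠ 0 := fun h0 =>
  (hl.nonpos h0).not_gt hx

theorem Lorentz.eq_zero_of_orth (hl : Lorentz β h) {x y : V} (hx : 0 < β x x) (hy : 0 ≤ β y y)
    (hxy : β x y = 0) : y = 0 := by
  let z := β x h • y - β y h • x
  have hzh : β z h = 0 := by simp [z]; ring
  have hzz : β z z = β x h * β x h * β y y + β y h * β y h * β x x := by
    simp [z, hl.comm y x, hxy]; ring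
  have hxh := hl.ne_zero hx
  have h1 : 0 < β x h * β x h := mul_self_pos.2 hxh
  have h2 := mul_self_nonneg (β y h)
  have h3 := hl.nonpos hzh
  rw [hzz] at h3
  have hyh : β y h * β y h * β x x ≤ 0 := by nlinarith
  have hyh0 : β y h = 0 := by
    by_contra hne
    have := mul_pos (mul_self_pos.2 hne) hx
    linarith
  by_contra hy0
  exact absurd hy (not_le.2 (hl.neg y hyh0 hy0))

theorem Lorentz.pos_pair (hl : Lorentz β h) {x y : V} (hx : 0 < β x x) (hxh : 0 < β x h)
    (hy : 0 ≤ β y y) (hyh : 0 < β y h) : 0 < β x y := by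
  let z := β y h • x - β x h • y
  have hzh : β z h = 0 := by simp [z]; ring
  have hzz : β z z = β y h * β y h * β x x + β x h * β x h * β y y - 2 * (β x h * β y h) * β x y := by
    simp [z, hl.comm y x]; ring
  have h3 := hl.nonpos hzh
  rw [hzz] at h3
  have h1 : 0 < β y h * β y h * β x x := mul_pos (mul_pos hyh hyh) hx
  have h2 : 0 ≤ β x h * β x h * β y y := mul_nonneg (mul_self_nonneg _) hy
  by_contra hcon
  push Not at hcon
  nlinarith [mul_nonpos_of_nonneg_of_nonpos (mul_pos hxh hyh).le hcon]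

theorem Lorentz.convex (hl : Lorentz β h) : Convex ℝ {x | 0 < β x x ∧ 0 < β x h} := by
  rintro x ⟨hx, hxh⟩ y ⟨hy, hyh⟩ a b ha hb hab
  have hxy := hl.pos_pair hx hxh hy.le hyh
  have e1 : β (a • x + b • y) (a • x + b • y) = a * a * β x x + 2 * (a * b) * β x y + b * b * β y y := by
    simp [hl.comm y x]; ring
  have e2 : β (a • x + b • y) h = a * β x h + b * β y h := by simp
  rcases ha.lt_or_eq with ha | rfl
  · exact ⟨by rw [e1]; positivity, by rw [e2]; positivity⟩
  · obtain rfl : b = 1 := by linarith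
    simpa using ⟨hy, hyh⟩

end Lorentz

variable {X : Scheme.{u}} (k : Type u) [Field k] [X.Over (Spec (CommRingCat.of k))] [PicGrp.Law X]

/-- The rational points of `N¹(X)_ℝ`. -/
def ratPts : Set (NumR.N1R k X) := {x | ∃ (m : ℕ) (a : InvCl X), 0 < m ∧ (m : ℝ) • x = cR k a}

theorem cR_mem_ratPts (a : InvCl X) : cR k a ∈ ratPts k (X := X) :=
  ⟨1, a, one_pos, by rw [Nat.cast_one, one_smul]⟩

theorem ratPts_add {x y : NumR.N1R k X} (hx : x ∈ ratPts k) (hy : y ∈ ratPts k) :
    x + y ∈ ratPts k (X := X) := by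
  obtain ⟨m, a, hm, ha⟩ := hx
  obtain ⟨n, b, hn, hb⟩ := hy
  refine ⟨m * n, a ^ n * b ^ m, Nat.mul_pos hm hn, ?_⟩
  rw [cR_mul, cR_pow, cR_pow, ← ha, ← hb, smul_smul, smul_smul, smul_add, Nat.cast_mul,
    mul_comm (n : ℝ) (m : ℝ)]

theorem ratPts_smul (q : ℚ) {x : NumR.N1R k X} (hx : x ∈ ratPts k) : (q : ℝ) • x ∈ ratPts k (X := X) := by
  obtain ⟨m, a, hm, ha⟩ := hx
  obtain ⟨c, hc⟩ := exists_cR_zsmul k a q.num
  refine ⟨m * q.den, c, Nat.mul_pos hm q.den_pos, ?_⟩
  rw [hc, ← ha, smul_smul, smul_smul]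
  congr 1
  have : (q.num : ℝ) = (q : ℝ) * q.den := by
    rw [Rat.cast_def]
    field_simp
  rw [this]
  push_cast
  ring

variable [Module.Finite ℝ (NumR.N1R k X)]

/-- A basis made of classes. -/
theorem exists_basis : ∃ (n : ℕ) (a : Fin n → InvCl X) (b : Module.Basis (Fin n) ℝ (NumR.N1R k X)),
    ∀ i, b i = cR k (a i) := by
  obtain ⟨S, hS, hspan, hli⟩ := exists_linearIndependent ℝ (Set.range (cR k : InvCl X → NumR.N1R k X))
  rw [span_range_cR] at hspan
  let b := Module.Basis.mk hli (by rw [Subtype.range_coe]; exact hspan.ge)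
  haveI : Fintype S := FiniteDimensional.fintypeBasisIndex b
  choose a ha using fun i : S => hS i.2
  let e := Fintype.equivFin S
  refine ⟨Fintype.card S, fun i => a (e.symm i), b.reindex e, fun i => ?_⟩
  rw [Module.Basis.reindex_apply, Module.Basis.mk_apply, ha]

theorem dense_ratPts : Dense (ratPts k (X := X)) := by
  obtain ⟨n, a, b, hb⟩ := exists_basis k (X := X)
  let f : (Fin n → ℝ) →ₗ[ℝ] NumR.N1R k X := b.equivFun.symm.toLinearMap
  have hf : Continuous f := IsModuleTopology.continuous_of_linearMap f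
  have hd : DenseRange (fun q : Fin n → ℚ => fun i => (q i : ℝ)) :=
    DenseRange.piMap fun _ => Rat.denseRange_cast
  have h := DenseRange.comp (b.equivFun.symm.surjective.denseRange) hd hf
  refine Dense.mono ?_ h
  rintro _ ⟨q, rfl⟩
  show f (fun i => (q i : ℝ)) ∈ ratPts k (X := X)
  rw [show f (fun i => (q i : ℝ)) = ∑ i, (q i : ℝ) • b i from b.equivFun_symm_apply _]
  refine Finset.sum_induction _ (· ∈ ratPts k (X := X)) (fun _ _ => ratPts_add k)
    ⟨1, 1, one_pos, by rw [smul_zero, cR_one]⟩ fun i _ => ?_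
  rw [hb]
  exact ratPts_smul k _ (cR_mem_ratPts k _)

variable {β : NumR.N1R k X →ₗ[ℝ] NumR.N1R k X →ₗ[ℝ] ℝ}

theorem continuous_left (y : NumR.N1R k X) (β : NumR.N1R k X →ₗ[ℝ] NumR.N1R k X →ₗ[ℝ] ℝ) :
    Continuous fun x => β x y :=
  IsModuleTopology.continuous_of_linearMap (β.flip y)

theorem continuous_self (β : NumR.N1R k X →ₗ[ℝ] NumR.N1R k X →ₗ[ℝ] ℝ) : Continuous fun x => β x x := by
  obtain ⟨n, a, b, -⟩ := exists_basis k (X := X)
  have h : (fun x : NumR.N1R k X => β x x) =
      fun x : NumR.N1R k X => ∑ i : Fin n, ∑ j : Fin n, ((b.repr x i * b.repr x j * β (b i) (b j)) : ℝ) := by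
    funext x
    conv_lhs => rw [← b.sum_repr x]
    simp only [map_sum, map_smul, LinearMap.coe_sum, Finset.sum_apply, LinearMap.smul_apply, smul_eq_mul]
    simp only [Finset.mul_sum]
    rw [Finset.sum_comm]
    exact Finset.sum_congr rfl fun i _ => Finset.sum_congr rfl fun j _ => by ring
  rw [h]
  refine continuous_finsetSum _ fun i _ => continuous_finsetSum _ fun j _ => ?_
  exact ((IsModuleTopology.continuous_of_linearMap (b.coord i)).mul
    (IsModuleTopology.continuous_of_linearMap (b.coord j))).mul continuous_const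

variable [IsProper (X ↘ Spec (CommRingCat.of k))] [IsIntegral X]

include k in
/-- The intersection form pairs nondegenerately. -/
theorem nondeg (hX : topologicalKrullDim X = ((2 : ℕ) : WithBot ℕ∞))
    (hreg : ∀ x : X, IsRegularLocalRing (X.presheaf.stalk x)) (hβ : NumR.IsIntForm₂ k X β)
    {x : NumR.N1R k X} (hx : ∀ y, β x y = 0) : x = 0 := by
  classical
  obtain ⟨n, a, b, hb⟩ := exists_basis k (X := X)
  let G : Matrix (Fin n) (Fin n) ℤ := fun i j => B k (a i) (a j)
  have hdet : G.det ≠ 0 := by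
    intro h0
    obtain ⟨v, hv, hv0⟩ := Matrix.exists_vecMul_eq_zero_iff.2 h0
    choose e he using fun i => exists_cR_zsmul k (a i) (v i)
    have hsum : cR k (∏ i, e i) = ∑ i, (v i : ℝ) • b i := by
      have : ∀ s : Finset (Fin n), cR k (∏ i ∈ s, e i) = ∑ i ∈ s, (v i : ℝ) • b i := by
        intro s
        induction s using Finset.induction_on with
        | empty => rw [Finset.prod_empty, Finset.sum_empty, cR_one]
        | insert i s hi ih => rw [Finset.prod_insert hi, Finset.sum_insert hi, cR_mul, ih, he, hb]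
      exact this _
    have hzero : ∀ c, B k (∏ i, e i) c = 0 := by
      intro c
      have h1 : β (cR k (∏ i, e i)) = 0 := b.ext fun j => by
        rw [hsum, LinearMap.zero_apply]
        simp only [map_sum, map_smul, LinearMap.coe_sum, Finset.sum_apply, LinearMap.smul_apply, smul_eq_mul]
        simp only [hb, bil_cR k hX.le hβ]
        exact_mod_cast congrFun hv0 j
      have := bil_cR k hX.le hβ (∏ i, e i) c
      rw [h1, LinearMap.zero_apply] at this
      exact_mod_cast this.symm
    rw [cR_eq_zero k hX hreg hzero] at hsum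
    refine hv (funext fun i => ?_)
    have := Fintype.linearIndependent_iff.1 b.linearIndependent (fun i => (v i : ℝ)) hsum.symm i
    exact_mod_cast this
  have hrepr : Matrix.vecMul (fun i => b.repr x i) (G.map (Int.castRingHom ℝ)) = 0 := by
    funext j
    have h := hx (b j)
    rw [← b.sum_repr x] at h
    simp only [map_sum, map_smul, LinearMap.coe_sum, Finset.sum_apply, LinearMap.smul_apply, smul_eq_mul,
      hb, bil_cR k hX.le hβ] at h
    exact h
  have h0 := Matrix.eq_zero_of_vecMul_eq_zero (by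
    rw [← RingHom.mapMatrix_apply, ← RingHom.map_det]
    simpa using hdet) hrepr
  rw [← b.sum_repr x]
  exact Finset.sum_eq_zero fun i _ => by rw [show b.repr x i = 0 from congrFun h0 i, zero_smul]

include k in
/-- Orthogonally to a class of positive square the form is negative semidefinite. -/
theorem bil_nonpos (hX : topologicalKrullDim X = ((2 : ℕ) : WithBot ℕ∞)) (hβ : NumR.IsIntForm₂ k X β)
    {H : X.Modules} (hH : CohB1.IsAmple H) {z : NumR.N1R k X}
    (hz : β z (NumR.clR k X H hH.1) = 0) : β z z ≤ 0 := by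
  let h := InvCl.mk H hH.1
  have hcl : NumR.clR k X H hH.1 = cR k h := rfl
  have hS : IsClosed {y | β y y * β (cR k h) (cR k h) ≤ β y (cR k h) * β y (cR k h)} :=
    isClosed_le ((continuous_self k β).mul continuous_const)
      ((continuous_left k _ β).mul (continuous_left k _ β))
  have hsub : ratPts k ⊆ {y | β y y * β (cR k h) (cR k h) ≤ β y (cR k h) * β y (cR k h)} := by
    rintro y ⟨m, a, hm, ha⟩
    have hm' : (0 : ℝ) < m * m := by positivity
    refine le_of_mul_le_mul_left ?_ hm'
    have e1 : (m : ℝ) * m * β y y = (B k a a : ℝ) := by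
      rw [← bil_cR k hX.le hβ, ← ha]; simp; ring
    have e2 : (m : ℝ) * β y (cR k h) = (B k a h : ℝ) := by
      rw [← bil_cR k hX.le hβ, ← ha]; simp
    have key : B k a a * B k h h ≤ B k a h * B k a h := by
      have := B_sq_ge k hX hH (B_ample_pos k hX hH hH) a
      rw [B_comm k h a] at this
      linarith
    calc (m : ℝ) * m * (β y y * β (cR k h) (cR k h)) = (B k a a : ℝ) * (B k h h : ℝ) := by
          rw [← e1, ← bil_cR k hX.le hβ h h]; ring
      _ ≤ (B k a h : ℝ) * (B k a h : ℝ) := by exact_mod_cast key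
      _ = (m : ℝ) * m * (β y (cR k h) * β y (cR k h)) := by rw [← e2]; ring
  have hmem := (hS.closure_subset_iff.2 hsub) (dense_ratPts k z)
  have hpos : 0 < β (cR k h) (cR k h) := by
    rw [bil_cR k hX.le hβ]; exact_mod_cast B_ample_pos k hX hH hH
  rw [hcl] at hz
  simp only [Set.mem_setOf_eq, hz, mul_zero] at hmem
  nlinarith

include k in
theorem lorentz (hX : topologicalKrullDim X = ((2 : ℕ) : WithBot ℕ∞))
    (hreg : ∀ x : X, IsRegularLocalRing (X.presheaf.stalk x)) (hβ : NumR.IsIntForm₂ k X β)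
    {H : X.Modules} (hH : CohB1.IsAmple H) : Lorentz β (NumR.clR k X H hH.1) := by
  set h := NumR.clR k X H hH.1
  have hpos : 0 < β h h := by
    rw [show h = cR k (InvCl.mk H hH.1) from rfl, bil_cR k hX.le hβ]
    exact_mod_cast B_ample_pos k hX hH hH
  refine ⟨bil_comm k hX.le hβ, hpos, fun z hz hne => lt_of_le_of_ne (bil_nonpos k hX hβ hH hz) fun h0 => hne ?_⟩
  refine nondeg k hX hreg hβ fun y => ?_
  -- decompose `y` along `h`
  let y₀ := y - (β y h / β h h) • h
  have hy₀ : β y₀ h = 0 := by simp [y₀]; field_simp; ring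
  have key : ∀ t : ℝ, 2 * t * β z y₀ + β y₀ y₀ * (1 : ℝ) ≤ 0 := by
    intro t
    have := bil_nonpos k hX hβ hH (z := t • z + y₀) (by
      show β (t • z + y₀) h = 0
      rw [map_add, LinearMap.add_apply, map_smul, LinearMap.smul_apply, hz, hy₀, smul_zero, add_zero])
    simp [bil_comm k hX.le hβ y₀ z, h0] at this
    linarith
  have hzy : β z y₀ = 0 := by
    by_contra hne'
    have := key ((1 - β y₀ y₀) / (2 * β z y₀))
    field_simp at this
    linarith
  have : β z y = β z y₀ + (β y h / β h h) * β z h := by simp [y₀]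
  rw [this, hzy, hz, mul_zero, add_zero]

end Groth.Agent.Surf15
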