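import Groth.Agent.Surf15.Cones
import Mathlib.LinearAlgebra.Basis.VectorSpace
import Mathlib.Analysis.Normed.Order.Lattice

/-!
# Surf15: ampleness of real divisors is numerical
-/

set_option autoImplicit false
set_option linter.style.haveILetI false
set_option backward.isDefEq.respectTransparency.types false

universe u

open CategoryTheory CategoryTheory.Limits AlgebraicGeometry Opposite TopologicalSpace
open Groth.Agent.Coherent Groth.Agent.PicLib Groth.Agent.AmpleLib Groth.Agent.EulerLib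

namespace Groth.Agent.Surf15

variable {X : Scheme.{u}} (k : Type u) [Field k] [X.Over (Spec (CommRingCat.of k))]
  [IsProper (X ↘ Spec (CommRingCat.of k))] [IsIntegral X] [PicGrp.Law X]
  {β : NumR.N1R k X →ₗ[ℝ] NumR.N1R k X →ₗ[ℝ] ℝ}

include k in
/-- Adding an integral numerically trivial divisor keeps an integral divisor ample. -/
theorem exists_ample_shift (hX : topologicalKrullDim X = ((2 : ℕ) : WithBot ℕ∞))
    (hreg : ∀ x : X, IsRegularLocalRing (X.presheaf.stalk x)) (hβ : NumR.IsIntForm₂ k X β)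
    {E T : NumR.CDiv X}
    (hT : ∀ F : NumR.CDiv X, β (NumR.divClR k X (NumR.CDiv.toR X T)) (NumR.divClR k X (NumR.CDiv.toR X F)) = 0)
    (hE : ∃ (L : X.Modules) (hL : PicF.IsInvertible L),
      CohB1.IsAmple L ∧ Additive.ofMul (PicGrp.cls L hL) = NumR.divCl X E) (m : ℤ) :
    ∃ (L : X.Modules) (hL : PicF.IsInvertible L),
      CohB1.IsAmple L ∧ Additive.ofMul (PicGrp.cls L hL) = NumR.divCl X (E + m • T) := by
  obtain ⟨L₀, hL₀, hA, hE⟩ := hE
  obtain ⟨L, hL, h⟩ := PicGrp.exists_eq_cls (Additive.toMul (NumR.divCl X (E + m • T)))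
  refine ⟨L, hL, ?_, congrArg Additive.ofMul h.symm⟩
  set τ := NumR.divClR k X (NumR.CDiv.toR X T)
  set x := NumR.clR k X L₀ hL₀
  have hx : NumR.divClR k X (NumR.CDiv.toR X E) = x := by
    rw [NumR.divClR_toR, ← hE]; rfl
  have he : NumR.clR k X L hL = x + (m : ℝ) • τ := by
    have : NumR.divClR k X (NumR.CDiv.toR X (E + m • T)) = NumR.clR k X L hL := by
      rw [NumR.divClR_toR, show NumR.divCl X (E + m • T) = Additive.ofMul (PicGrp.cls L hL) from
        congrArg Additive.ofMul h]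
      rfl
    rw [← this, map_add, map_zsmul, map_add, map_zsmul, hx, Int.cast_smul_eq_zsmul]
  have hτx : β τ x = 0 := by rw [← hx]; exact hT E
  have hxτ : β x τ = 0 := by rw [bil_comm k hX.le hβ]; exact hτx
  have hττ : β τ τ = 0 := hT T
  have hxx : 0 < β x x := by
    rw [show x = cR k (InvCl.mk L₀ hA.1) from rfl, bil_cR k hX.le hβ]
    exact_mod_cast B_ample_pos k hX hA hA
  refine isAmple_of_pos k hX hreg hβ hL ?_ fun I hi hd hI => ?_
  · rw [he]
    simpa [hτx, hxτ, hττ] using hxx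
  · have hτC : β τ (NumR.curveCl k X I hI) = 0 := by
      have := hT (Finsupp.single ⟨I, hi, hd, hI⟩ 1)
      simpa [NumR.CDiv.toR, NumR.divClR] using this
    rw [he, map_add, LinearMap.add_apply, map_smul, LinearMap.smul_apply, hτC, smul_zero, add_zero]
    haveI := hi
    rw [show x = cR k (InvCl.mk L₀ hA.1) from rfl, bil_curve k hX hβ (isEffCartier_curve k hX hreg I (cast_dim hd)),
      neg_pos, B_comm k]
    exact_mod_cast B_curve_ample_neg k I (cast_dim hd) _ hA

include k in
/-- Adding a real multiple of a numerically trivial integral divisor keeps a real divisor ample. -/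
theorem isAmpleRDiv_add_smul (hX : topologicalKrullDim X = ((2 : ℕ) : WithBot ℕ∞))
    (hreg : ∀ x : X, IsRegularLocalRing (X.presheaf.stalk x)) (hβ : NumR.IsIntForm₂ k X β)
    {T : NumR.CDiv X}
    (hT : ∀ F : NumR.CDiv X, β (NumR.divClR k X (NumR.CDiv.toR X T)) (NumR.divClR k X (NumR.CDiv.toR X F)) = 0)
    {D : NumR.CDivR X} (hD : NumR.IsAmpleRDiv X D) (s : ℝ) :
    NumR.IsAmpleRDiv X (D + s • NumR.CDiv.toR X T) := by
  obtain ⟨n, E, t, hn, ht, hE, rfl⟩ := hD
  obtain ⟨n, rfl⟩ : ∃ n', n = n' + 1 := ⟨n - 1, by omega⟩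
  obtain ⟨m, hm⟩ := exists_nat_gt (|s| / t 0)
  have hm' : |s| < m * t 0 := (div_lt_iff₀ (ht 0)).1 hm
  have hm0 : (0 : ℝ) < m := lt_of_le_of_lt (div_nonneg (abs_nonneg s) (ht 0).le) hm
  have hs : |s / m| < t 0 := by
    rw [abs_div, abs_of_pos hm0, div_lt_iff₀ hm0]; linarith
  obtain ⟨hs1, hs2⟩ := abs_lt.1 hs
  let E' : Fin (n + 2) → NumR.CDiv X :=
    Fin.cons (E 0 + (m : ℤ) • T) (Fin.cons (E 0 + (-(m : ℤ)) • T) fun i => E i.succ)
  let t' : Fin (n + 2) → ℝ :=
    Fin.cons ((t 0 + s / m) / 2) (Fin.cons ((t 0 - s / m) / 2) fun i => t i.succ)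
  refine ⟨n + 2, E', t', by omega, ?_, ?_, ?_⟩
  · refine Fin.cases (by simp [t']; linarith) (Fin.cases (by simp [t']; linarith) fun i => ?_)
    simpa [t'] using ht i.succ
  · refine Fin.cases ?_ (Fin.cases ?_ fun i => ?_) <;> simp only [E', Fin.cons_zero, Fin.cons_succ]
    · exact exists_ample_shift k hX hreg hβ hT (hE 0) _
    · exact exists_ample_shift k hX hreg hβ hT (hE 0) _
    · exact hE i.succ
  · simp only [Fin.sum_univ_succ, E', t', Fin.cons_zero, Fin.cons_succ, map_add, map_zsmul,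
      ← Int.cast_smul_eq_zsmul ℝ, Int.cast_neg, Int.cast_natCast, smul_add, smul_smul]
    have e : s = (t 0 + s / m) / 2 * m + (t 0 - s / m) / 2 * -(m : ℝ) := by field_simp; ring
    conv_lhs => arg 2; rw [e]
    module

include k in
/-- Ampleness of real divisors is invariant under numerical equivalence. -/
theorem isAmpleRDiv_of_numTrivial (hX : topologicalKrullDim X = ((2 : ℕ) : WithBot ℕ∞))
    (hreg : ∀ x : X, IsRegularLocalRing (X.presheaf.stalk x)) (hβ : NumR.IsIntForm₂ k X β)
    {D D' : NumR.CDivR X} (hD : NumR.IsAmpleRDiv X D) (h : NumR.IsNumTrivialRDiv k X β (D' - D)) :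
    NumR.IsAmpleRDiv X D' := by
  classical
  set T := D' - D
  let b := Module.Basis.ofVectorSpace ℚ ℝ
  let S := T.support
  let J := S.biUnion fun C => (b.repr (T C)).support
  let Dn : ℕ := ∏ C ∈ S, ∏ j ∈ J, (b.repr (T C) j).den
  have hDn : 0 < Dn := Finset.prod_pos fun C _ => Finset.prod_pos fun j _ => Rat.den_pos _
  have hz : ∀ C j, ∃ z : ℤ, C ∈ S → j ∈ J → (z : ℚ) = Dn * b.repr (T C) j := fun C j => by
    by_cases hC : C ∈ S ∧ j ∈ J
    · obtain ⟨c, hc⟩ : (b.repr (T C) j).den ∣ Dn :=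
        (Finset.dvd_prod_of_mem (fun j => (b.repr (T C) j).den) hC.2).trans
          (Finset.dvd_prod_of_mem (fun C => ∏ j ∈ J, (b.repr (T C) j).den) hC.1)
      refine ⟨c * (b.repr (T C) j).num, fun _ _ => ?_⟩
      rw [hc]
      push_cast
      rw [← Rat.mul_den_eq_num]
      ring
    · exact ⟨0, fun h1 h2 => absurd ⟨h1, h2⟩ hC⟩
  choose z hz using hz
  let Tz := fun j => ∑ C ∈ S, Finsupp.single C (z C j)
  have htoR : ∀ j, NumR.CDiv.toR X (Tz j) = ∑ C ∈ S, Finsupp.single C (z C j : ℝ) := fun j => by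
    rw [map_sum]
    exact Finset.sum_congr rfl fun C _ => by simp [NumR.CDiv.toR]
  have hdec : ∀ C ∈ S, T C = ∑ j ∈ J, (b j / Dn) * (z C j : ℝ) := by
    intro C hC
    have e := b.linearCombination_repr (T C)
    rw [Finsupp.linearCombination_apply, Finsupp.sum_of_support_subset _
      (Finset.subset_biUnion_of_mem (fun C => (b.repr (T C)).support) hC) (fun i a => a • b i) (fun i _ => zero_smul ℚ _)] at e
    refine e.symm.trans (Finset.sum_congr rfl fun j hj => ?_)
    have : (z C j : ℝ) = (Dn : ℝ) * (b.repr (T C) j : ℝ) := by exact_mod_cast congrArg (Rat.cast : ℚ → ℝ) (hz C j hC hj)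
    rw [Rat.smul_def, this]
    field_simp
  have hT : T = ∑ j ∈ J, (b j / Dn) • NumR.CDiv.toR X (Tz j) := by
    conv_lhs => rw [← Finsupp.sum_single T]
    simp only [htoR, Finset.smul_sum, Finsupp.smul_single, smul_eq_mul]
    rw [Finset.sum_comm]
    refine Finset.sum_congr rfl fun C hC => ?_
    rw [hdec C hC, Finsupp.single_finsetSum]
  have hTz : ∀ j ∈ J, ∀ F : NumR.CDiv X,
      β (NumR.divClR k X (NumR.CDiv.toR X (Tz j))) (NumR.divClR k X (NumR.CDiv.toR X F)) = 0 := by
    intro j hj F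
    obtain ⟨L, hL, hLF⟩ := PicGrp.exists_eq_cls (Additive.toMul (NumR.divCl X F))
    have hf : NumR.divClR k X (NumR.CDiv.toR X F) = cR k (InvCl.mk L hL) := by
      rw [NumR.divClR_toR, show NumR.divCl X F = Additive.ofMul (PicGrp.cls L hL) from congrArg Additive.ofMul hLF]
      rfl
    have hint : ∀ C : NumR.Curve X, ∃ N : ℤ,
        β (NumR.curveCl k X C.1 C.2.2.2) (NumR.divClR k X (NumR.CDiv.toR X F)) = (N : ℝ) := fun C => by
      haveI := C.2.1
      refine ⟨- B k (InvCl.mk L hL) (clI' C.1 (isEffCartier_curve k hX hreg C.1 (cast_dim C.2.2.1))), ?_⟩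
      rw [hf, bil_comm k hX.le hβ, bil_curve k hX hβ (isEffCartier_curve k hX hreg C.1 (cast_dim C.2.2.1))]
      push_cast
      rfl
    choose N hN using hint
    have h0 : ∑ C ∈ S, (N C : ℚ) • T C = (0 : ℝ) := by
      have := h F
      rw [NumR.divClR, Finsupp.linearCombination_apply, Finsupp.sum, map_sum, LinearMap.sum_apply] at this
      refine Eq.trans (Finset.sum_congr rfl fun C _ => ?_) this
      rw [map_smul, LinearMap.smul_apply, smul_eq_mul, Rat.smul_def, Rat.cast_intCast, mul_comm]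
      exact congrArg _ (hN C).symm
    have h1 := congrArg (fun x => b.repr x j) h0
    simp only [map_sum, map_smul, Finsupp.coe_finsetSum, Finset.sum_apply, Finsupp.smul_apply, smul_eq_mul,
      map_zero, Finsupp.zero_apply] at h1
    have h2 : ∑ C ∈ S, (N C : ℚ) * (z C j : ℚ) = 0 := by
      have : ∑ C ∈ S, (N C : ℚ) * (z C j : ℚ) = (Dn : ℚ) * ∑ C ∈ S, (N C : ℚ) * b.repr (T C) j := by
        rw [Finset.mul_sum]
        exact Finset.sum_congr rfl fun C hC => by rw [hz C j hC hj]; ring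
      rw [this, h1, mul_zero]
    have h3 : ∑ C ∈ S, (z C j : ℝ) * (N C : ℝ) = 0 := by
      have := congrArg (Rat.cast : ℚ → ℝ) h2
      push_cast at this
      exact (Finset.sum_congr rfl fun C _ => mul_comm _ _).trans this
    rw [htoR, map_sum, map_sum, LinearMap.sum_apply]
    refine Eq.trans (Finset.sum_congr rfl fun C _ => ?_) h3
    rw [← hN C, NumR.divClR, Finsupp.linearCombination_single, map_smul, LinearMap.smul_apply, smul_eq_mul]
  have hmain : ∀ s : Finset _, s ⊆ J → NumR.IsAmpleRDiv X (D + ∑ j ∈ s, (b j / Dn) • NumR.CDiv.toR X (Tz j)) := by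
    intro s
    induction s using Finset.induction_on with
    | empty => intro _; rwa [Finset.sum_empty, add_zero]
    | insert j s hj ih =>
      intro hs
      rw [Finset.sum_insert hj, add_comm ((b j / Dn) • _), ← add_assoc]
      exact isAmpleRDiv_add_smul k hX hreg hβ (hTz j (hs (Finset.mem_insert_self j s)))
        (ih ((Finset.subset_insert j s).trans hs)) _
  have := hmain J subset_rfl
  rwa [← hT, add_sub_cancel] at this

end Groth.Agent.Surf15
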