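import Groth.Agent.Surf15.Cones
import Mathlib.LinearAlgebra.Matrix.ToLin

/-!
# Surf15: walls of negative definite configurations of curves
-/

set_option autoImplicit false
set_option linter.style.haveILetI false
set_option backward.isDefEq.respectTransparency.types false

universe u

open CategoryTheory CategoryTheory.Limits AlgebraicGeometry Opposite TopologicalSpace
open Groth.Agent.Coherent Groth.Agent.PicLib Groth.Agent.AmpleLib Groth.Agent.EulerLib

namespace Groth.Agent.Surf15

variable {X : Scheme.{u}} (k : Type u) [Field k] [X.Over (Spec (CommRingCat.of k))]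
  [IsProper (X ↘ Spec (CommRingCat.of k))] [IsIntegral X] [PicGrp.Law X]
  [Module.Finite ℝ (NumR.N1R k X)] {β : NumR.N1R k X →ₗ[ℝ] NumR.N1R k X →ₗ[ℝ] ℝ}
  {r : ℕ} (C : Fin r → NumR.Curve X)

/-- The class of the `i`-th curve. -/
noncomputable abbrev kcl (i : Fin r) : NumR.N1R k X := NumR.curveCl k X (C i).1 (C i).2.2.2

/-- The intersection matrix of the curves. -/
noncomputable def gram (hE : ∀ i, BlowUp.IsEffCartierIdeal (C i).1) : Matrix (Fin r) (Fin r) ℤ :=
  fun i j => B k (clI' (C i).1 (hE i)) (clI' (C j).1 (hE j))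

variable {C}

omit [IsIntegral X] [Module.Finite ℝ (NumR.N1R k X)] [PicGrp.Law X] in
theorem det_gram_ne_zero (hE : ∀ i, BlowUp.IsEffCartierIdeal (C i).1)
    (hneg : ∀ a : Fin r → ℤ, a ≠ 0 → ∑ i, ∑ j, a i * a j * gram k C hE i j < 0) :
    (gram k C hE).det ≠ 0 := by
  classical
  intro h0
  obtain ⟨v, hv, hv0⟩ := Matrix.exists_vecMul_eq_zero_iff.2 h0
  refine (hneg v hv).ne ?_
  rw [Finset.sum_comm]
  refine Finset.sum_eq_zero fun j _ => ?_
  have : ∑ i, v i * gram k C hE i j = 0 := congrFun hv0 j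
  calc ∑ i, v i * v j * gram k C hE i j = v j * ∑ i, v i * gram k C hE i j := by
        rw [Finset.mul_sum]; exact Finset.sum_congr rfl fun i _ => by ring
    _ = 0 := by rw [this, mul_zero]

include k in
theorem bil_sum_sum (hX : topologicalKrullDim X = ((2 : ℕ) : WithBot ℕ∞)) (hβ : NumR.IsIntForm₂ k X β)
    (hE : ∀ i, BlowUp.IsEffCartierIdeal (C i).1) (a b : Fin r → ℝ) :
    β (∑ i, a i • kcl k C i) (∑ j, b j • kcl k C j) = ∑ i, ∑ j, a i * b j * (gram k C hE i j : ℝ) := by
  simp only [map_sum, map_smul, LinearMap.coe_sum, Finset.sum_apply, LinearMap.smul_apply, smul_eq_mul]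
  rw [Finset.sum_comm]
  refine Finset.sum_congr rfl fun i _ => ?_
  rw [Finset.mul_sum]
  refine Finset.sum_congr rfl fun j _ => ?_
  rw [bil_curve_curve k hX hβ (hE j) (hE i), gram]
  ring

include k in
theorem bil_h_curve_pos (hX : topologicalKrullDim X = ((2 : ℕ) : WithBot ℕ∞)) (hβ : NumR.IsIntForm₂ k X β)
    {H : X.Modules} (hH : CohB1.IsAmple H) (hE : ∀ i, BlowUp.IsEffCartierIdeal (C i).1) (i : Fin r) :
    0 < β (NumR.clR k X H hH.1) (kcl k C i) := by
  haveI := (C i).2.1
  rw [show NumR.clR k X H hH.1 = cR k (InvCl.mk H hH.1) from rfl, bil_curve k hX hβ (hE i), neg_pos, B_comm k]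
  exact_mod_cast B_curve_ample_neg k (C i).1 (cast_dim (C i).2.2.1) (hE i) hH

include k in
/-- Fewer negative definite curves than the rank. -/
theorem card_lt_rank (hX : topologicalKrullDim X = ((2 : ℕ) : WithBot ℕ∞)) (hβ : NumR.IsIntForm₂ k X β)
    {H : X.Modules} (hH : CohB1.IsAmple H) (hE : ∀ i, BlowUp.IsEffCartierIdeal (C i).1)
    (hneg : ∀ a : Fin r → ℤ, a ≠ 0 → ∑ i, ∑ j, a i * a j * gram k C hE i j < 0) :
    r + 1 ≤ Module.finrank ℝ (NumR.N1R k X) := by
  classical
  have hdet := det_gram_ne_zero k hE hneg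
  let h := NumR.clR k X H hH.1
  have hhh : 0 < β h h := (ample_mem_posCone k hX hβ hH hH).1
  have hli : LinearIndependent ℝ (fun o : Option (Fin r) => o.elim h (kcl k C)) := by
    rw [Fintype.linearIndependent_iff]
    intro g hg
    rw [Fintype.sum_option] at hg
    simp only [Option.elim] at hg
    set z := ∑ i, g (some i) • kcl k C i
    have hz : z = -(g none • h) := eq_neg_of_add_eq_zero_right hg
    -- the square of `z` is nonpositive
    have hzz : β z z = g none * g none * β h h := by rw [hz]; simp; ring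
    have hle : β z z ≤ 0 := by
      have hcl : IsClosed {v : Fin r → ℝ | ∑ i, ∑ j, v i * v j * (gram k C hE i j : ℝ) ≤ 0} :=
        isClosed_le (continuous_finsetSum _ fun i _ => continuous_finsetSum _ fun j _ =>
          ((continuous_apply i).mul (continuous_apply j)).mul continuous_const) continuous_const
      have hd : DenseRange (fun q : Fin r → ℚ => fun i => (q i : ℝ)) :=
        DenseRange.piMap fun _ => Rat.denseRange_cast
      rw [bil_sum_sum k hX hβ hE]
      refine hcl.closure_subset_iff.2 ?_ (hd fun i => g (some i))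
      rintro _ ⟨q, rfl⟩
      let D : ℤ := ∏ i, ((q i).den : ℤ)
      have hD : (0 : ℝ) < (D : ℝ) := by
        have : 0 < D := Finset.prod_pos fun i _ => by exact_mod_cast (q i).den_pos
        exact_mod_cast this
      have hint : ∀ i, ∃ z : ℤ, (z : ℝ) = D * (q i : ℝ) := fun i => by
        refine ⟨(q i).num * ∏ j ∈ Finset.univ.erase i, ((q j).den : ℤ), ?_⟩
        have : D = ((q i).den : ℤ) * ∏ j ∈ Finset.univ.erase i, ((q j).den : ℤ) :=
          (Finset.mul_prod_erase _ (fun j => ((q j).den : ℤ)) (Finset.mem_univ i)).symm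
        rw [this, Rat.cast_def]
        push_cast
        field_simp
      choose a ha using hint
      have hQ : ∑ i, ∑ j, a i * a j * gram k C hE i j ≤ 0 := by
        rcases eq_or_ne a 0 with h0 | h0
        · simp [h0]
        · exact (hneg a h0).le
      have hQ' : ((∑ i, ∑ j, a i * a j * gram k C hE i j : ℤ) : ℝ) ≤ 0 := by exact_mod_cast hQ
      push_cast at hQ'
      simp only [ha] at hQ'
      refine nonpos_of_mul_nonpos_right (le_of_eq ?_ |>.trans hQ') (mul_pos hD hD)
      simp only [Finset.mul_sum]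
      exact Finset.sum_congr rfl fun i _ => Finset.sum_congr rfl fun j _ => by ring
    have hn : g none = 0 := by
      by_contra hne
      have := mul_pos (mul_self_pos.2 hne) hhh
      linarith
    have hz0 : z = 0 := by rw [hz, hn, zero_smul, neg_zero]
    have hv : Matrix.vecMul (fun i => g (some i)) ((gram k C hE).map (Int.castRingHom ℝ)) = 0 := by
      funext j
      have e : β z (kcl k C j) = 0 := by rw [hz0, map_zero, LinearMap.zero_apply]
      simp only [z, map_sum, map_smul, LinearMap.coe_sum, Finset.sum_apply, LinearMap.smul_apply, smul_eq_mul] at e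
      simp only [Matrix.vecMul, dotProduct, Matrix.map_apply, Pi.zero_apply]
      refine Eq.trans (Finset.sum_congr rfl fun i _ => ?_) e
      rw [bil_curve_curve k hX hβ (hE i) (hE j)]
      rfl
    have h0 := Matrix.eq_zero_of_vecMul_eq_zero (by
      rw [← RingHom.mapMatrix_apply, ← RingHom.map_det]
      simpa using hdet) hv
    rintro (_ | i)
    · exact hn
    · exact congrFun h0 i
  have := hli.fintype_card_le_finrank
  simpa using this

include k in
/-- Curves orthogonal to a class of positive square are negative definite. -/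
theorem negDef_of_orth (hX : topologicalKrullDim X = ((2 : ℕ) : WithBot ℕ∞))
    (hreg : ∀ x : X, IsRegularLocalRing (X.presheaf.stalk x)) (hβ : NumR.IsIntForm₂ k X β)
    {H : X.Modules} (hH : CohB1.IsAmple H) (hinj : Function.Injective fun i => (C i).1)
    (hE : ∀ i, BlowUp.IsEffCartierIdeal (C i).1) {x : NumR.N1R k X} (hxx : 0 < β x x)
    (hx : ∀ i, β x (kcl k C i) = 0) (a : Fin r → ℤ) (ha : a ≠ 0) :
    ∑ i, ∑ j, a i * a j * gram k C hE i j < 0 := by
  by_contra hcon
  push Not at hcon
  have hl := lorentz k hX hreg hβ hH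
  let p : Fin r → ℤ := fun i => max (a i) 0
  let n : Fin r → ℤ := fun i => max (-a i) 0
  let w : (Fin r → ℤ) → NumR.N1R k X := fun v => ∑ i, (v i : ℝ) • kcl k C i
  have hperp : ∀ v, β x (w v) = 0 := fun v => by
    simp [w, hx]
  have hsq : ∀ v v', β (w v) (w v') = ((∑ i, ∑ j, v i * v' j * gram k C hE i j : ℤ) : ℝ) := fun v v' => by
    rw [bil_sum_sum k hX hβ hE]
    push_cast
    rfl
  have hz : w a = 0 := hl.eq_zero_of_orth hxx (by rw [hsq]; exact_mod_cast hcon) (hperp a)
  have hpn : w p = w n := by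
    have : w a = w p - w n := by
      simp only [w, ← Finset.sum_sub_distrib]
      refine Finset.sum_congr rfl fun i _ => ?_
      rw [← sub_smul]
      have : a i = p i - n i := by simp only [p, n]; omega
      rw [this, Int.cast_sub]
    rw [hz] at this
    exact (sub_eq_zero.1 this.symm)
  have hpp : 0 ≤ β (w p) (w p) := by
    nth_rw 2 [hpn]
    rw [hsq]
    exact_mod_cast sum_pos_neg_nonneg k hX.le (fun i => (C i).1) hinj (fun i => (C i).2.1)
      (fun i => cast_dim (C i).2.2.1) hE a
  have hp0 : w p = 0 := hl.eq_zero_of_orth hxx hpp (hperp p)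
  have hn0 : w n = 0 := hpn ▸ hp0
  have hzero : ∀ v : Fin r → ℤ, (∀ i, 0 ≤ v i) → w v = 0 → ∀ i, v i = 0 := by
    intro v hv hw i
    have hv' : ∀ i, (0 : ℝ) ≤ (v i : ℝ) := fun i => by exact_mod_cast hv i
    have hpos := fun i => bil_h_curve_pos k hX hβ hH hE i
    have e : ∑ i, (v i : ℝ) * β (NumR.clR k X H hH.1) (kcl k C i) = 0 := by
      have := congrArg (β (NumR.clR k X H hH.1)) hw
      simpa [w] using this
    have := (Finset.sum_eq_zero_iff_of_nonneg fun i _ => mul_nonneg (hv' i) (hpos i).le).1 e i (Finset.mem_univ i)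
    exact_mod_cast (mul_eq_zero.1 this).resolve_right (hpos i).ne'
  refine ha (funext fun i => ?_)
  have h1 := hzero p (fun i => le_max_right _ _) hp0 i
  have h2 := hzero n (fun i => le_max_right _ _) hn0 i
  simp only [p, n] at h1 h2
  show a i = 0
  omega

include k in
/-- A negative definite configuration is orthogonal to a nef and big class. -/
theorem exists_orth_of_negDef (hX : topologicalKrullDim X = ((2 : ℕ) : WithBot ℕ∞))
    (hreg : ∀ x : X, IsRegularLocalRing (X.presheaf.stalk x)) (hβ : NumR.IsIntForm₂ k X β)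
    {H : X.Modules} (hH : CohB1.IsAmple H) (hinj : Function.Injective fun i => (C i).1)
    (hE : ∀ i, BlowUp.IsEffCartierIdeal (C i).1)
    (hneg : ∀ a : Fin r → ℤ, a ≠ 0 → ∑ i, ∑ j, a i * a j * gram k C hE i j < 0) :
    ∃ x, 0 < β x x ∧ x ∈ NumR.nefCone₂ k X β ∧ ∀ i, β x (kcl k C i) = 0 := by
  classical
  let G := gram k C hE
  have hdet : G.det ≠ 0 := det_gram_ne_zero k hE hneg
  let b : Fin r → ℤ := fun j => B k (InvCl.mk H hH.1) (clI' (C j).1 (hE j))
  have hb : ∀ j, b j < 0 := fun j => by
    haveI := (C j).2.1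
    show B k _ _ < 0
    rw [B_comm k]
    exact B_curve_ample_neg k (C j).1 (cast_dim (C j).2.2.1) (hE j) hH
  let D : ℤ := G.det * G.det
  have hD : 0 < D := mul_self_pos.2 hdet
  let s : Fin r → ℤ := G.det • Matrix.vecMul b G.adjugate
  have hs : ∀ j, ∑ i, s i * G i j = D * b j := by
    intro j
    have e : Matrix.vecMul s G = D • b := by
      rw [show s = G.det • Matrix.vecMul b G.adjugate from rfl, Matrix.smul_vecMul, Matrix.vecMul_vecMul,
        Matrix.adjugate_mul, Matrix.vecMul_smul, Matrix.vecMul_one, smul_smul]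
    exact congrFun e j
  have hs0 : ∀ i, 0 ≤ s i := by
    refine neg_part_spec k hX.le (fun i => (C i).1) hinj (fun i => (C i).2.1)
      (fun i => cast_dim (C i).2.2.1) hE hneg s (Finset.sum_nonpos fun j _ => ?_)
    show max (-s j) 0 * ∑ i, s i * G i j ≤ 0
    rw [hs]
    exact mul_nonpos_of_nonneg_of_nonpos (le_max_right _ _) (mul_nonpos_of_nonneg_of_nonpos hD.le (hb j).le)
  let h := NumR.clR k X H hH.1
  let x := (D : ℝ) • h + ∑ i, (s i : ℝ) • kcl k C i
  have hxI : ∀ v, β x v = (D : ℝ) * β h v + ∑ i, (s i : ℝ) * β (kcl k C i) v := fun v => by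
    simp [x]
  have hxC : ∀ j, β x (kcl k C j) = 0 := by
    intro j
    rw [hxI, show h = cR k (InvCl.mk H hH.1) from rfl, bil_curve k hX hβ (hE j)]
    have e : ∑ i, (s i : ℝ) * β (kcl k C i) (kcl k C j) = (D : ℝ) * (b j : ℝ) := by
      rw [← Int.cast_mul, ← hs j, Int.cast_sum]
      refine Finset.sum_congr rfl fun i _ => ?_
      rw [bil_curve_curve k hX hβ (hE i) (hE j), Int.cast_mul]
      rfl
    rw [e]
    ring
  have hsymm : ∀ i, β (kcl k C i) h = β h (kcl k C i) := fun i => bil_comm k hX.le hβ _ _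
  have hhh : 0 < β h h := (ample_mem_posCone k hX hβ hH hH).1
  have hD' : (0 : ℝ) < (D : ℝ) := by exact_mod_cast hD
  have hs' : ∀ i, (0 : ℝ) ≤ (s i : ℝ) := fun i => by exact_mod_cast hs0 i
  refine ⟨x, ?_, fun I hi hd hI => ?_, hxC⟩
  · have e : β x x = (D : ℝ) * β x h := by
      nth_rw 2 [show x = (D : ℝ) • h + ∑ i, (s i : ℝ) • kcl k C i from rfl]
      simp only [map_add, map_sum, map_smul, smul_eq_mul, hxC, mul_zero, Finset.sum_const_zero, add_zero]
    rw [e, hxI]
    refine mul_pos hD' (add_pos_of_pos_of_nonneg (mul_pos hD' hhh) (Finset.sum_nonneg fun i _ => ?_))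
    rw [hsymm]
    exact mul_nonneg (hs' i) (bil_h_curve_pos k hX hβ hH hE i).le
  · by_cases hmem : ∃ i, (C i).1 = I
    · obtain ⟨i, rfl⟩ := hmem
      exact (hxC i).ge
    · haveI := hi
      have hI' := isEffCartier_curve k hX hreg I (cast_dim hd)
      rw [hxI]
      refine add_nonneg (mul_nonneg hD'.le ?_) (Finset.sum_nonneg fun i _ => mul_nonneg (hs' i) ?_)
      · exact (ample_curve_pos k hX hreg hβ (ample_mem k hH) hi hd hI).le
      · haveI := (C i).2.1
        rw [bil_curve_curve k hX hβ (hE i) hI']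
        exact_mod_cast B_curve_ne_nonneg k hX.le (hE i) hI' (cast_dim (C i).2.2.1) (cast_dim hd)
          fun e => hmem ⟨i, e⟩

end Groth.Agent.Surf15
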