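import Groth.Agent.Surf15.RatTensor
import Groth.Agent.Coherent.FlatBaseChangeMain
import Groth.Agent.EulerLib.FieldExt
import Groth.Agent.DimLib.BaseChange

/-!
# Surf15: the base change of an integral scheme to `k(t)` is integral
-/

set_option autoImplicit false
set_option linter.style.haveILetI false
set_option backward.isDefEq.respectTransparency.types false

universe u

open CategoryTheory CategoryTheory.Limits AlgebraicGeometry Opposite TopologicalSpace
open Groth.Agent.Coherent Groth.Agent.EulerLib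
open scoped TensorProduct

namespace Groth.Agent.Surf15.BaseRat

variable (k : Type u) [Field k] (X : Scheme.{u}) [X.Over (Spec (CommRingCat.of k))]

/-- The base change to `k(t)`. -/
noncomputable abbrev XK : Scheme.{u} := Curv2.bc k X (RatFunc k)

noncomputable instance overXK : (XK k X).Over (Spec (CommRingCat.of (RatFunc k))) :=
  ⟨Curv2.bcSnd k X (RatFunc k)⟩

/-- The projection. -/
noncomputable abbrev pr : XK k X ⟶ X := Curv2.bcFst k X (RatFunc k)

theorem isPullback : IsPullback (pr k X) (XK k X ↘ Spec (CommRingCat.of (RatFunc k)))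
    (X ↘ Spec (CommRingCat.of k)) (Spec.map (CommRingCat.ofHom (algebraMap k (RatFunc k)))) :=
  isPullback_bc k X (RatFunc k)

instance : IsAffineHom (pr k X) :=
  MorphismProperty.IsStableUnderBaseChange.of_isPullback (P := @IsAffineHom) (isPullback k X).flip
    inferInstance

instance [IsProper (X ↘ Spec (CommRingCat.of k))] :
    IsProper (XK k X ↘ Spec (CommRingCat.of (RatFunc k))) :=
  MorphismProperty.of_isPullback (P := @IsProper) (isPullback k X) inferInstance

variable {X}

/-- The structure map on an open. -/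
noncomputable def resK (U : X.Opens) : k →+* Γ(X, U) :=
  (X.presheaf.map (homOfLE (le_top (a := U))).op).hom.comp (Coh.toGlobal (X ↘ Spec (CommRingCat.of k)))

/-- The structure map of the base change on an open. -/
noncomputable def resT (V : (XK k X).Opens) : RatFunc k →+* Γ(XK k X, V) :=
  ((XK k X).presheaf.map (homOfLE (le_top (a := V))).op).hom.comp
    (Coh.toGlobal (XK k X ↘ Spec (CommRingCat.of (RatFunc k))))

/-- Sections over the preimage of an affine open. -/
theorem exists_sectionEquiv {U : X.Opens} (hU : IsAffineOpen U) :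
    letI := (resK k U).toAlgebra
    ∃ e : Γ(X, U) ⊗[k] RatFunc k ≃+* Γ(XK k X, pr k X ⁻¹ᵁ U),
      (∀ r, e (r ⊗ₜ 1) = (pr k X).app U r) ∧
        ∀ c, e (1 ⊗ₜ c) = resT k (pr k X ⁻¹ᵁ U) c := by
  let g := pr k X
  let U' : (XK k X).Opens := g ⁻¹ᵁ U
  have hp : IsBCPushout g (Coh.toGlobal (X ↘ Spec (CommRingCat.of k)))
      (Coh.toGlobal (XK k X ↘ Spec (CommRingCat.of (RatFunc k)))) U :=
    isBCPushout_of_isPullback g (isPullback k X) hU
  rw [IsBCPushout] at hp
  let _ : Algebra k Γ(X, U) := (resK k U).toAlgebra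
  let _ : Algebra Γ(X, U) Γ(XK k X, U') := (g.app U).hom.toAlgebra
  let _ : Algebra (RatFunc k) Γ(XK k X, U') := (resT k U').toAlgebra
  let _ : Algebra k Γ(XK k X, U') := ((g.app U).hom.comp (resK k U)).toAlgebra
  have : IsScalarTower k Γ(X, U) Γ(XK k X, U') := .of_algebraMap_eq fun _ => rfl
  have : IsScalarTower k (RatFunc k) Γ(XK k X, U') :=
    .of_algebraMap_eq fun r => ConcreteCategory.congr_hom hp.w r
  haveI : Algebra.IsPushout k Γ(X, U) (RatFunc k) Γ(XK k X, U') := CommRingCat.isPushout_iff_isPushout.1 hp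
  refine ⟨(Algebra.IsPushout.equiv k Γ(X, U) (RatFunc k) Γ(XK k X, U')).toRingEquiv, fun r => ?_, fun c => ?_⟩
  · refine (Algebra.IsPushout.equiv_tmul k Γ(X, U) (RatFunc k) Γ(XK k X, U') r 1).trans ?_
    rw [map_one, mul_one]
    rfl
  · refine (Algebra.IsPushout.equiv_tmul k Γ(X, U) (RatFunc k) Γ(XK k X, U') 1 c).trans ?_
    rw [map_one, one_mul]
    rfl

variable [IsIntegral X]

theorem genericPoint_mem {U : X.Opens} (hU : Nonempty U) : genericPoint X ∈ U :=
  (genericPoint_spec X).mem_open_set_iff U.2 |>.2 ⟨hU.some.1, trivial, hU.some.2⟩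

theorem isIntegral_preimage {U : X.Opens} (hU : IsAffineOpen U) (hne : Nonempty U) :
    IsIntegral ((pr k X ⁻¹ᵁ U : (XK k X).Opens) : Scheme.{u}) := by
  haveI := hne
  letI := (resK k U).toAlgebra
  obtain ⟨e, -, -⟩ := exists_sectionEquiv k hU
  haveI := RatTensor.isDomain k Γ(X, U)
  haveI hd : IsDomain Γ(XK k X, pr k X ⁻¹ᵁ U) := e.symm.toMulEquiv.isDomain _
  haveI hd' : IsDomain Γ((pr k X ⁻¹ᵁ U : (XK k X).Opens), ⊤) :=
    (pr k X ⁻¹ᵁ U).topIso.commRingCatIsoToRingEquiv.toMulEquiv.isDomain _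
  haveI : IsAffine ((pr k X ⁻¹ᵁ U : (XK k X).Opens) : Scheme.{u}) := hU.preimage (pr k X)
  obtain ⟨w, hw⟩ := (pr k X).surjective (genericPoint X)
  haveI : Nonempty ((pr k X ⁻¹ᵁ U : (XK k X).Opens) : Scheme.{u}) :=
    ⟨⟨w, show pr k X w ∈ U from hw.symm ▸ genericPoint_mem hne⟩⟩
  exact isIntegral_of_isAffine_of_isDomain _

theorem isReduced : IsReduced (XK k X) := by
  haveI : ∀ z : XK k X, _root_.IsReduced ((XK k X).presheaf.stalk z) := fun z => by
    obtain ⟨U, hU, hzU, -⟩ := exists_isAffineOpen_mem_and_subset (x := pr k X z) (U := ⊤) trivial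
    haveI := isIntegral_preimage k hU ⟨⟨_, hzU⟩⟩
    exact isReduced_of_injective _
      ((pr k X ⁻¹ᵁ U).stalkIso ⟨z, hzU⟩).commRingCatIsoToRingEquiv.symm.injective
  exact isReduced_of_isReduced_stalk _

theorem irreducibleSpace : IrreducibleSpace (XK k X) := by
  obtain ⟨U, hU, hηU, -⟩ := exists_isAffineOpen_mem_and_subset (x := genericPoint X) (U := ⊤) trivial
  haveI := isIntegral_preimage k hU ⟨⟨_, hηU⟩⟩
  let V := pr k X ⁻¹ᵁ U
  let ξ : XK k X := V.ι (genericPoint (V : Scheme.{u}))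
  have hξ : ∀ z ∈ V, ξ ⤳ z := fun z hz =>
    (genericPoint_specializes (α := V.toScheme) ⟨z, hz⟩).map V.ι.continuous
  have key : ∀ z, ξ ⤳ z := by
    intro z
    obtain ⟨U', hU', hzU', -⟩ := exists_isAffineOpen_mem_and_subset (x := pr k X z) (U := ⊤) trivial
    haveI := isIntegral_preimage k hU' ⟨⟨_, hzU'⟩⟩
    let V' := pr k X ⁻¹ᵁ U'
    obtain ⟨w, hw⟩ := (pr k X).surjective (genericPoint X)
    have hwV' : w ∈ V' := show pr k X w ∈ U' from hw.symm ▸ genericPoint_mem ⟨⟨_, hzU'⟩⟩
    have hwV : w ∈ V := show pr k X w ∈ U from hw.symm ▸ hηU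
    let ξ' : XK k X := V'.ι (genericPoint (V' : Scheme.{u}))
    have hξ' : ∀ y ∈ V', ξ' ⤳ y := fun y hy =>
      (genericPoint_specializes (α := V'.toScheme) ⟨y, hy⟩).map V'.ι.continuous
    exact (hξ ξ' ((hξ' w hwV').mem_open V.2 hwV)).trans (hξ' z hzU')
  haveI : Nonempty (XK k X) := ⟨ξ⟩
  have hgen : IsGenericPoint ξ (Set.univ : Set (XK k X)) :=
    Set.eq_univ_of_forall fun z => specializes_iff_mem_closure.1 (key z)
  exact { isPreirreducible_univ := hgen.isIrreducible.2, toNonempty := inferInstance }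

theorem isIntegral : IsIntegral (XK k X) :=
  haveI := isReduced k (X := X)
  haveI := irreducibleSpace k (X := X)
  isIntegral_of_irreducibleSpace_of_isReduced _

end Groth.Agent.Surf15.BaseRat
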