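import Groth.Agent.Surf15.Curve
import Groth.Agent.CurveRR24.DegOne
import Groth.Agent.VarietyLib.DivisorCut
import Groth.Agent.Coherent.Serre.Vanishing

/-!
# Surf15: cutting a surface by a nonzero section; vanishing of `H²` through an irreducible member
-/

set_option autoImplicit false
set_option linter.style.haveILetI false
set_option backward.isDefEq.respectTransparency.types false

universe u

open CategoryTheory CategoryTheory.Limits AlgebraicGeometry Opposite TopologicalSpace
open Groth.Agent.Coherent Groth.Agent.PicLib Groth.Agent.AmpleLib Groth.Agent.EulerLib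
open Groth.Agent.CurveRR24 Groth.Agent.DimLib Groth.Agent.AssSch12 Groth.Agent.AbCubeLib

namespace Groth.Agent.Surf15

variable {X : Scheme.{u}} (k : Type u) [Field k] [X.Over (Spec (CommRingCat.of k))]
  [IsProper (X ↘ Spec (CommRingCat.of k))]

theorem unitDesc_eq_mulSec {P : X.Modules} (s : Γ(P, ⊤)) :
    unitDesc P s = mulSec (Coh.structureModule X) s ≫ (unitTensorIso P).hom := by
  refine hom_ext_one _ _ fun V => ?_
  rw [unitDesc_app, one_smul, Scheme.Modules.Hom.comp_app, ConcreteCategory.comp_apply, mulSec_app]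
  exact ((CurveRR24.unitTensorIso_tmul' V (1 : Γ(X, V)) (resM P le_top s)).trans (one_smul _ _)).symm

/-- The cokernel of the multiplication by a nonzero section on an integral surface. -/
theorem exists_cut [IsIntegral X] (hX : topologicalKrullDim X ≤ ((2 : ℕ) : WithBot ℕ∞))
    {P : X.Modules} (hP : PicF.IsInvertible P) {s : Γ(P, ⊤)} (hs : s ≠ 0) :
    ∃ S : ShortComplex X.Modules, S.ShortExact ∧ Nonempty (S.X₁ ≅ Coh.structureModule X) ∧
      Nonempty (S.X₂ ≅ P) ∧ Coh.IsCoh S.X₃ ∧ CohB1.support S.X₃ = (glocus P s : Set X)ᶜ ∧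
      topologicalKrullDim (CohB1.support S.X₃) ≤ ((1 : ℕ) : WithBot ℕ∞) ∧
      ∀ a : InvCl X, deg k S.X₃ a = B k (InvCl.mk P hP) a := by
  haveI := isNoetherian_of_proper (X := X) k
  haveI := mono_unitDesc_of_mono hP (𝟙 P) hs
  have hO : Coh.IsCoh (Coh.structureModule X) := isCoh_O k
  have hPc : Coh.IsCoh P := isCoh_iso (unitTensorIso P) (isCoh_twist hP hO)
  let S := ShortComplex.mk (unitDesc P s) (cokernel.π _) (cokernel.condition _)
  have hS : S.ShortExact :=
    { exact := ShortComplex.exact_of_g_is_cokernel _ (cokernelIsCokernel _) }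
  have hQ : Coh.IsCoh (cokernel (unitDesc P s)) := isCoh_cokernel _ hO.1 hPc
  have hsub : CohB1.support (cokernel (unitDesc P s)) ⊆ (glocus P s : Set X)ᶜ :=
    support_cokernel_unitDesc_of_mono (𝟙 P) s
  have hsup : (glocus P s : Set X)ᶜ ⊆ CohB1.support (cokernel (unitDesc P s)) := by
    intro z hz hsub'
    refine not_surjective_stalk_mulSec (Coh.structureModule X) s hP hO hz
      (by rw [support_structureModule_eq_univ]; trivial) fun w => ?_
    have hsurj : Function.Surjective ((DerSch.stalkFunctor X z).map (unitDesc P s) : _ → (P.presheaf.stalk z)) := fun v =>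
      ((ShortComplex.ShortExact.moduleCat_exact_iff_function_exact _).1
          ((ShortComplex.exact_cokernel (unitDesc P s)).map (DerSch.stalkFunctor X z)) v).1
        (hsub'.elim _ _)
    obtain ⟨v, hv⟩ := hsurj ((DerSch.stalkFunctor X z).map (unitTensorIso P).hom w)
    refine ⟨v, ?_⟩
    have hinj : Function.Injective ((DerSch.stalkFunctor X z).map (unitTensorIso P).hom) :=
      (ModuleCat.mono_iff_injective _).1 inferInstance
    apply hinj
    rw [← hv, unitDesc_eq_mulSec, Functor.map_comp]
    rfl
  have heq := hsub.antisymm hsup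
  have hη : genericPoint X ∉ CohB1.support (cokernel (unitDesc P s)) := fun h => hsub h
    (genericPoint_mem_glocus hP hs)
  have hlt := dim_lt_of_notMem (isClosed_support _ (locallyFinGen_of_isFT _ hQ.2)) (Set.subset_univ _)
    isClosed_univ (genericPoint_spec X : closure ({genericPoint X} : Set X) = Set.univ) hη
    ((IsHomeomorph.topologicalKrullDim_eq _ (Homeomorph.Set.univ X).isHomeomorph).le.trans hX)
  have hd : topologicalKrullDim (CohB1.support (cokernel (unitDesc P s))) ≤ ((1 : ℕ) : WithBot ℕ∞) := by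
    generalize topologicalKrullDim (CohB1.support (cokernel (unitDesc P s))) = t at hlt
    match t with
    | ⊥ => exact bot_le
    | (t : ℕ∞) => exact WithBot.coe_le_coe.2 (ENat.lt_natCast_add_one_iff.1 (WithBot.coe_lt_coe.1 hlt))
  refine ⟨S, hS, ⟨Iso.refl _⟩, ⟨Iso.refl _⟩, hQ, heq, hd, fun a => ?_⟩
  have h := chiCl_additive k S hS hO hPc hQ
  have e : ∀ x, chiCl k P x = chiCl k (Coh.structureModule X) (InvCl.mk P hP * x) := fun x => by
    rw [chiCl_mul k (Coh.structureModule X) hP x, chiCl_congr k (unitTensorIso P)]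
  have h1 := congrFun h a
  have h2 := congrFun h 1
  change chiCl k P a = chiCl k (Coh.structureModule X) a + chiCl k (cokernel (unitDesc P s)) a at h1
  change chiCl k P 1 = chiCl k (Coh.structureModule X) 1 + chiCl k (cokernel (unitDesc P s)) 1 at h2
  rw [e] at h1 h2
  rw [mul_one] at h2
  show chiCl k (cokernel (unitDesc P s)) a - chiCl k (cokernel (unitDesc P s)) 1 = _
  rw [B]
  linarith

include k in
/-- Ample classes have positive square on a surface. -/
theorem B_ample_pos [IsIntegral X] (hX : topologicalKrullDim X = ((2 : ℕ) : WithBot ℕ∞)) {P R : X.Modules}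
    (hP : CohB1.IsAmple P) (hR : CohB1.IsAmple R) :
    0 < B k (InvCl.mk P hP.1) (InvCl.mk R hR.1) := by
  haveI := isNoetherian_of_proper (X := X) k
  have h := interDeg_pos k 2 ![P, R] (fun i => by fin_cases i <;> assumption) (Coh.structureModule X)
    (isCoh_O k) (by
      rw [support_structureModule_eq_univ]
      exact (IsHomeomorph.topologicalKrullDim_eq _ (Homeomorph.Set.univ X).isHomeomorph).trans hX)
  rw [B_eq_interDeg]
  convert h using 2
  funext i
  fin_cases i <;> rfl

include k in
/-- A nonzero section of a module `P` gives, for `H¹`-acyclic cokernel, injectivity on `H²`. -/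
theorem subsingleton_h2_of_twist {S : ShortComplex X.Modules} (hS : S.ShortExact)
    {P : X.Modules} (e₁ : S.X₁ ≅ Coh.structureModule X) (e₂ : S.X₂ ≅ P)
    {N : X.Modules} (hN : PicF.IsInvertible N)
    (h₃ : Subsingleton (Coh.HH X (CohB1.tensorMod S.X₃ N) 1))
    (h₂ : Subsingleton (Coh.HH X (CohB1.tensorMod P N) 2)) :
    Subsingleton (Coh.HH X N 2) := by
  have h2' : Subsingleton (Coh.HH X (CohB1.tensorMod S.X₂ N) 2) :=
    (HHCongr k (AmpleLib.tensorIso e₂ (Iso.refl N)) 2).toEquiv.subsingleton
  haveI : Subsingleton (Coh.HH X (CohB1.tensorMod S.X₁ N) 2) :=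
    subsingleton_HH_X₁ (twistSeq_shortExact hN hS) 1 h₃ h2'
  exact (HHCongr k ((unitTensorIso N).symm ≪≫ AmpleLib.tensorIso e₁.symm (Iso.refl N)) 2).toEquiv.subsingleton

include k in
/-- **Vanishing of `H²`**: if a nonzero section of an ample module has irreducible zero locus then
`H²(L) = 0` as soon as the intersection number with it is large. -/
theorem exists_h2_bound_of_irreducible [IsIntegral X]
    (hX : topologicalKrullDim X = ((2 : ℕ) : WithBot ℕ∞)) {P : X.Modules} (hP : CohB1.IsAmple P)
    {s : Γ(P, ⊤)} (hs : s ≠ 0) (η : X) (hηT : (glocus P s : Set X)ᶜ ⊆ closure {η})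
    (hη : η ∉ glocus P s) :
    ∃ n₀ : ℤ, ∀ (L : X.Modules) (hL : PicF.IsInvertible L),
      n₀ < B k (InvCl.mk P hP.1) (InvCl.mk L hL) → Subsingleton (Coh.HH X L 2) := by
  haveI := isNoetherian_of_proper (X := X) k
  obtain ⟨S, hS, ⟨e₁⟩, ⟨e₂⟩, hQ, hsupp, hd, hdeg⟩ := exists_cut k hX.le hP.1 hs
  have hclη : closure {η} = (glocus P s : Set X)ᶜ :=
    ((glocus P s).2.isClosed_compl.closure_subset_iff.2 (Set.singleton_subset_iff.2 hη)).antisymm hηT
  have hdη : topologicalKrullDim (closure {η} : Set X) ≤ ((1 : ℕ) : WithBot ℕ∞) := by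
    rw [hclη, ← hsupp]; exact hd
  obtain ⟨m, hm⟩ := exists_deg_eq_mult k hdη hQ (hsupp.le.trans hηT)
  set p := InvCl.mk P hP.1
  have hpp : 0 < B k p p := B_ample_pos k hX hP hP
  have hmp : B k p p = m * deg k (clM η) p := by rw [← hdeg, hm]
  have hm0 : (0 : ℤ) < m := by
    rcases Nat.eq_zero_or_pos m with h | h
    · rw [hmp, h] at hpp; simp at hpp
    · exact_mod_cast h
  obtain ⟨b, hb⟩ := exists_vanish_bound k hQ hd
  refine ⟨m * max b 0, fun L hL hbig => ?_⟩
  have hdL : max b 0 < deg k (clM η) (InvCl.mk L hL) := by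
    rw [← hdeg, hm] at hbig
    exact lt_of_mul_lt_mul_left hbig hm0.le
  have hdp : 0 ≤ deg k (clM η) p := by
    by_contra h
    push Not at h
    nlinarith
  obtain ⟨n₁, hn₁⟩ := Serre.exists_subsingleton_HH_twist (A := CommRingCat.of k) hP L
    (isCoh_iso (unitTensorIso L) (isCoh_twist hL (isCoh_O k)))
  have key : ∀ d j : ℕ, n₁ ≤ d + j →
      Subsingleton (Coh.HH X (CohB1.tensorMod L (CohB1.tensorPow P j)) 2) := by
    intro d
    induction d with
    | zero => exact fun j hj => hn₁ j (by omega) 2 two_pos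
    | succ d ih =>
      intro j hj
      have hN : PicF.IsInvertible (CohB1.tensorMod L (CohB1.tensorPow P j)) :=
        isInvertible_tensorMod hL (isInvertible_tensorPow hP.1 j)
      refine subsingleton_h2_of_twist k hS e₁ e₂ hN (hb _ hN fun y hy hy1 => ?_) ?_
      · have hye : y = η := by
          have hyc : y ∈ closure {η} := hηT (hsupp.le hy)
          by_contra hne
          have hlt := ptDim_lt_of_specializes (X ↘ Spec (CommRingCat.of k))
            (specializes_iff_mem_closure.2 hyc) (Ne.symm hne)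
          rw [topologicalKrullDim_eq_ptDim_of_isGenericPoint (X ↘ Spec (CommRingCat.of k))
            isGenericPoint_closure] at hy1 hdη
          have h1 : ptDim (X ↘ Spec (CommRingCat.of k)) y = 1 := by exact_mod_cast hy1
          have h2 : ptDim (X ↘ Spec (CommRingCat.of k)) η ≤ 1 := by exact_mod_cast hdη
          omega
        subst hye
        have hcl : topologicalKrullDim (CohB1.support (clM y)) ≤ ((1 : ℕ) : WithBot ℕ∞) := by
          rw [support_clM]; exact hdη
        rw [← InvCl.mk_mul hL (isInvertible_tensorPow hP.1 j), InvCl.mk_tensorPow hP.1,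
          deg_mul k (isCoh_clM y) hcl, deg_pow k (isCoh_clM y) hcl]
        have : (0 : ℤ) ≤ (j : ℤ) * deg k (clM y) p := by positivity
        have := le_max_left b 0
        linarith
      · have e : CohB1.tensorMod P (CohB1.tensorMod L (CohB1.tensorPow P j)) ≅
            CohB1.tensorMod L (CohB1.tensorPow P (j + 1)) :=
          AmpleLib.tensorComm _ _ ≪≫ (exists_assocIso' L (isInvertible_tensorPow hP.1 j) hP.1).some
        haveI := ih (j + 1) (by omega)
        exact (HHCongr k e 2).toEquiv.subsingleton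
  haveI : Subsingleton (Coh.HH X (CohB1.tensorMod L (Coh.structureModule X)) 2) := key n₁ 0 le_rfl
  exact (HHCongr k ((unitTensorIso L).symm ≪≫ tensorComm _ _) 2).toEquiv.subsingleton

end Groth.Agent.Surf15
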