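import Groth.Agent.Canon15.ExtPowPull
import Groth.Agent.EulerLib.Twist
import Groth.Agent.TwistLib.G.RelMulIso
import Groth.Agent.Coherent.QcohLocal
import Groth.Agent.Coherent.FiniteType

/-!
# Surf15: the determinant of an extension of invertible modules
-/

set_option autoImplicit false
set_option linter.style.haveILetI false
set_option maxHeartbeats 1000000
set_option backward.isDefEq.respectTransparency.types false

universe u

open CategoryTheory CategoryTheory.Limits AlgebraicGeometry TopologicalSpace Opposite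
open Groth.Agent.Coherent Groth.Agent.PicLib Groth.Agent.AmpleLib Groth.Agent.EulerLib

namespace Groth.Agent.Surf15.DetSES

variable {X : Scheme.{u}} {E L : X.Modules}
  (φ : ∀ U : X.affineOpens, (L.val.obj (op U.1)) ≃ₗ[Γ(X, U.1)] ↥(⋀[Γ(X, U.1)]^2 (E.val.obj (op U.1))))
  (hφ : ∀ (U V : X.affineOpens) (h : V.1 ≤ U.1) (e : Fin 2 → E.val.obj (op U.1)),
      L.val.map (homOfLE h).op ((φ U).symm (exteriorPower.ιMulti _ 2 e)) =
        (φ V).symm (exteriorPower.ιMulti _ 2 (fun j => E.val.map (homOfLE h).op (e j))))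

/-- The wedge of two sections over an affine open. -/
noncomputable def wedge2 (V : X.affineOpens) (a b : Γ(E, V.1)) : Γ(L, V.1) :=
  (φ V).symm (exteriorPower.ιMulti _ 2 ![(show E.val.obj (op V.1) from a), b])

include hφ in
theorem wedge2_res {V W : X.affineOpens} (h : W.1 ≤ V.1) (a b : Γ(E, V.1)) :
    resM L h (wedge2 φ V a b) = wedge2 φ W (resM E h a) (resM E h b) := by
  refine (hφ V W h _).trans ?_
  show (φ W).symm _ = (φ W).symm _
  congr 2

/-- A characterisation of the wedge of two sections. -/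
def IsW {U : X.Opens} (a b : Γ(E, U)) (s : Γ(L, U)) : Prop :=
  ∀ (V : X.affineOpens) (h : V.1 ≤ U), resM L h s = wedge2 φ V (resM E h a) (resM E h b)

theorem isW_unique {U : X.Opens} {a b : Γ(E, U)} {s t : Γ(L, U)} (hs : IsW φ a b s) (ht : IsW φ a b t) :
    s = t := by
  refine TopCat.Sheaf.eq_of_locally_eq' (⟨L.presheaf, L.isSheaf⟩ : TopCat.Sheaf Ab X)
    (fun i : {V : X.affineOpens // V.1 ≤ U} => i.1.1) U (fun i => homOfLE i.2) (fun y hy => ?_) _ _
    fun i => (hs i.1 i.2).trans (ht i.1 i.2).symm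
  obtain ⟨V, hV, hyV, hle⟩ := exists_isAffineOpen_mem_and_subset (x := y) (U := U) hy
  exact Opens.mem_iSup.2 ⟨⟨⟨V, hV⟩, hle⟩, hyV⟩

include hφ in
theorem exists_isW {U : X.Opens} (a b : Γ(E, U)) : ∃ s, IsW φ a b s := by
  obtain ⟨s, hs, -⟩ := TopCat.Sheaf.existsUnique_gluing' (⟨L.presheaf, L.isSheaf⟩ : TopCat.Sheaf Ab X)
    (fun i : {V : X.affineOpens // V.1 ≤ U} => i.1.1) U (fun i => homOfLE i.2)
    (fun y hy => by
      obtain ⟨V, hV, hyV, hle⟩ := exists_isAffineOpen_mem_and_subset (x := y) (U := U) hy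
      exact Opens.mem_iSup.2 ⟨⟨⟨V, hV⟩, hle⟩, hyV⟩)
    (fun i => wedge2 φ i.1 (resM E i.2 a) (resM E i.2 b)) (fun i j => by
      show resM L inf_le_left (wedge2 φ i.1 _ _) = resM L inf_le_right (wedge2 φ j.1 _ _)
      refine TopCat.Sheaf.eq_of_locally_eq' (⟨L.presheaf, L.isSheaf⟩ : TopCat.Sheaf Ab X)
        (fun l : {V : X.affineOpens // V.1 ≤ i.1.1 ⊓ j.1.1} => l.1.1) (i.1.1 ⊓ j.1.1) (fun l => homOfLE l.2)
        (fun y hy => ?_) _ _ fun l => ?_
      · obtain ⟨V, hV, hyV, hle⟩ := exists_isAffineOpen_mem_and_subset (x := y) (U := i.1.1 ⊓ j.1.1) hy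
        exact Opens.mem_iSup.2 ⟨⟨⟨V, hV⟩, hle⟩, hyV⟩
      · show resM L l.2 (resM L inf_le_left _) = resM L l.2 (resM L inf_le_right _)
        rw [resM_resM, resM_resM, wedge2_res φ hφ, wedge2_res φ hφ]
        simp only [resM_resM])
  exact ⟨s, fun V h => hs ⟨V, h⟩⟩

include hφ in
/-- The wedge as a bilinear map. -/
theorem exists_bilin : ∃ β : Bilin E E L, ∀ (U : X.Opens) (a b : Γ(E, U)), IsW φ a b (β.app U a b) := by
  choose s hs using fun (U : X.Opens) (a b : Γ(E, U)) => exists_isW φ hφ a b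
  refine ⟨⟨s, ?_, ?_, ?_, ?_, ?_⟩, hs⟩
  · intro U a a' b
    refine isW_unique φ (hs U _ _) fun V h => ?_
    rw [map_add, hs U a b V h, hs U a' b V h, map_add]
    simp only [wedge2]
    refine ((φ V).symm.map_add _ _).symm.trans (congrArg (φ V).symm ?_)
    exact ((exteriorPower.ιMulti Γ(X, V.1) 2 (M := E.val.obj (op V.1))).map_vecCons_add
      (m := ![(show E.val.obj (op V.1) from resM E h b)]) _ _).symm
  · intro U a b b'
    refine isW_unique φ (hs U _ _) fun V h => ?_
    rw [map_add, hs U a b V h, hs U a b' V h, map_add]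
    simp only [wedge2]
    refine ((φ V).symm.map_add _ _).symm.trans (congrArg (φ V).symm ?_)
    have := ((exteriorPower.ιMulti Γ(X, V.1) 2 (M := E.val.obj (op V.1)))).map_update_add
      ![(show E.val.obj (op V.1) from resM E h a), 0] 1 (resM E h b) (resM E h b')
    convert this.symm using 3 <;> · funext j; fin_cases j <;> rfl
  · intro U r a b
    refine isW_unique φ (hs U _ _) fun V h => ?_
    rw [resM_smul, hs U a b V h, resM_smul]
    simp only [wedge2]
    refine ((φ V).symm.map_smul _ _).symm.trans (congrArg (φ V).symm ?_)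
    exact ((exteriorPower.ιMulti Γ(X, V.1) 2 (M := E.val.obj (op V.1))).map_vecCons_smul
      (m := ![(show E.val.obj (op V.1) from resM E h b)]) _ _).symm
  · intro U r a b
    refine isW_unique φ (hs U _ _) fun V h => ?_
    rw [resM_smul, hs U a b V h, resM_smul]
    simp only [wedge2]
    refine ((φ V).symm.map_smul _ _).symm.trans (congrArg (φ V).symm ?_)
    have := ((exteriorPower.ιMulti Γ(X, V.1) 2 (M := E.val.obj (op V.1)))).map_update_smul
      ![(show E.val.obj (op V.1) from resM E h a), 0] 1 (PicLib.res h r) (resM E h b)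
    convert this.symm using 3 <;> · funext j; fin_cases j <;> rfl
  · intro U V h a b
    refine isW_unique φ (fun W hW => ?_) (hs V _ _)
    rw [resM_resM, resM_resM, resM_resM]
    exact hs U a b W (hW.trans h)

end Groth.Agent.Surf15.DetSES

namespace Groth.Agent.Surf15

variable {X : Scheme.{u}}

open DetSES in
/-- The determinant of an extension of invertible modules is their tensor product. -/
theorem nonempty_det_ses {L A E B : X.Modules} (hA : PicF.IsInvertible A) (hB : PicF.IsInvertible B)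
    (a : A ⟶ E) (c : E ⟶ B) (w : a ≫ c = 0) (hS : (ShortComplex.mk a c w).ShortExact)
    (hL : ExtPow.IsExtPow 2 E L) : Nonempty (CohB1.tensorMod B A ≅ L) := by
  classical
  obtain ⟨φ, hφ⟩ := hL
  obtain ⟨β, hβ⟩ := exists_bilin φ hφ
  let γ : Bilin E A L :=
    { app := fun U e α => β.app U (a.app U α) e
      add_left := fun U e e' α => β.add_right U _ e e'
      add_right := fun U e α α' => by rw [map_add]; exact β.add_left U _ _ e
      smul_left := fun U r e α => β.smul_right U r _ e
      smul_right := fun U r e α => by rw [Scheme.Modules.Hom.app_smul]; exact β.smul_left U r _ e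
      res := fun U V h e α => by rw [app_resM]; exact β.res U V h _ e }
  have hT := twistSeq_shortExact hA hS
  have hzero : (twistSeq (ShortComplex.mk a c w) A).f ≫ γ.desc = 0 := by
    refine AmpleLib.hom_ext fun U α' α => ?_
    show γ.desc.app U ((tensorMap a (𝟙 A)).app U (tmul α' α)) = (0 : Γ(L, U))
    refine ((congrArg (γ.desc.app U) (tensorMap_tmul a (𝟙 A) α' α)).trans (Bilin.desc_tmul γ U _ _)).trans ?_
    show β.app U (a.app U α) (a.app U α') = (0 : Γ(L, U))
    refine sec_ext L _ 0 fun y hy => ?_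
    obtain ⟨U₀, hy₀, g, hg⟩ := exists_isGen hA y
    obtain ⟨V, hV, hyV, hle⟩ := exists_isAffineOpen_mem_and_subset (x := y) (U := U ⊓ U₀) ⟨hy, hy₀⟩
    have hVU : V ≤ U := fun z hz => (hle hz).1
    have hgV := hg.restrict (show V ≤ U₀ from fun z hz => (hle hz).2)
    refine ⟨V, hVU, hyV, ?_⟩
    obtain ⟨r, hr⟩ := (hgV V le_rfl).2 (resM A hVU α)
    obtain ⟨r', hr'⟩ := (hgV V le_rfl).2 (resM A hVU α')
    beta_reduce at hr hr'
    rw [β.res, ← app_resM, ← app_resM, ← hr, ← hr', Scheme.Modules.Hom.app_smul, Scheme.Modules.Hom.app_smul,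
      β.smul_left, β.smul_right, map_zero]
    have h0 : β.app V (a.app V (resM A le_rfl (resM A (show V ≤ U₀ from fun z hz => (hle hz).2) g)))
        (a.app V (resM A le_rfl (resM A (show V ≤ U₀ from fun z hz => (hle hz).2) g))) = 0 := by
      have := hβ V (a.app V (resM A le_rfl (resM A (show V ≤ U₀ from fun z hz => (hle hz).2) g)))
        (a.app V (resM A le_rfl (resM A (show V ≤ U₀ from fun z hz => (hle hz).2) g))) ⟨V, hV⟩ le_rfl
      simp only [resM_self] at this ⊢
      rw [this]
      show (φ ⟨V, hV⟩).symm _ = 0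
      rw [show exteriorPower.ιMulti Γ(X, V) 2 ![_, _] = 0 from
        (exteriorPower.ιMulti Γ(X, V) 2).map_eq_zero_of_eq _ (i := 0) (j := 1) rfl (by decide), map_zero]
    rw [h0, smul_zero, smul_zero]
  haveI := hT.epi_g
  let g : CohB1.tensorMod B A ⟶ L := hT.exact.desc γ.desc hzero
  have hg : tensorMap c (𝟙 A) ≫ g = γ.desc := hT.exact.g_desc γ.desc hzero
  have key : ∀ y : X, ∃ (V : X.Opens) (t : Γ(CohB1.tensorMod B A, V)), y ∈ V ∧ IsGen _ V t ∧
      IsGen L V (g.app V t) := by
    intro y
    obtain ⟨UA, hyA, α, hα⟩ := exists_isGen hA y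
    obtain ⟨UB, hyB, δ, hδ⟩ := exists_isGen hB y
    haveI : Epi c := hS.epi_g
    obtain ⟨W, hWB, hyW, ε, hε⟩ := exists_lift_of_epi c (UA ⊓ UB) (resM B inf_le_right δ) y ⟨hyA, hyB⟩
    obtain ⟨V, hV, hyV, hle⟩ := exists_isAffineOpen_mem_and_subset (x := y) (U := W) hyW
    have hαV := hα.restrict (show V ≤ UA from fun z hz => (hWB (hle hz)).1)
    have hδV := hδ.restrict (show V ≤ UB from fun z hz => (hWB (hle hz)).2)
    set α₀ := resM A (show V ≤ UA from fun z hz => (hWB (hle hz)).1) α
    set δ₀ := resM B (show V ≤ UB from fun z hz => (hWB (hle hz)).2) δ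
    have hε₀ : c.app V (resM E hle ε) = δ₀ := by
      rw [app_resM, hε, resM_resM, resM_resM]
    refine ⟨V, tmul δ₀ α₀, hyV, isGen_tmul hδV hαV, ?_⟩
    have hval : g.app V (tmul δ₀ α₀) = wedge2 φ ⟨V, hV⟩ (a.app V α₀) (resM E hle ε) := by
      have h1 : (tensorMap c (𝟙 A) ≫ g).app V (tmul (resM E hle ε) α₀) = γ.desc.app V (tmul (resM E hle ε) α₀) := by
        rw [hg]
      rw [Scheme.Modules.Hom.comp_app, ConcreteCategory.comp_apply, tensorMap_tmul, Bilin.desc_tmul] at h1
      rw [hε₀] at h1
      refine h1.trans ?_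
      have := hβ V (a.app V α₀) (resM E hle ε) ⟨V, hV⟩ le_rfl
      simp only [resM_self] at this
      exact this
    rw [hval]
    refine Lift15.isGen_of_affine _ fun V' hV' h => ?_
    rw [wedge2_res φ hφ (V := ⟨V, hV⟩) (W := ⟨V', hV'⟩) h, ← app_resM]
    set α₁ := resM A h α₀
    set ε₁ := resM E h (resM E hle ε)
    have hε₁ : c.app V' ε₁ = resM B h δ₀ := by rw [app_resM, hε₀]
    let T : (Fin 2 → Γ(X, V')) →ₗ[Γ(X, V')] E.val.obj (op V') :=
      Fintype.linearCombination Γ(X, V') ![(show E.val.obj (op V') from a.app V' α₁), ε₁]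
    have hTa : ∀ r, T r = (show E.val.obj (op V') from r 0 • a.app V' α₁ + r 1 • ε₁) := fun r => by
      simp only [T, Fintype.linearCombination_apply, Fin.sum_univ_two]; rfl
    have hTb : Function.Bijective T := by
      constructor
      · rw [injective_iff_map_eq_zero]
        intro r hr
        rw [hTa] at hr
        have hc : c.app V' (r 0 • a.app V' α₁ + r 1 • ε₁) = 0 := by
          rw [show r 0 • a.app V' α₁ + r 1 • ε₁ = (0 : Γ(E, V')) from hr, map_zero]
        rw [map_add, Scheme.Modules.Hom.app_smul, Scheme.Modules.Hom.app_smul,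
          show c.app V' (a.app V' α₁) = 0 from sections_zero (S := ShortComplex.mk a c w) V' α₁, smul_zero, zero_add, hε₁] at hc
        have h1 : r 1 = 0 := (hδV V' h).1 (hc.trans (zero_smul _ _).symm)
        have h0' : a.app V' (r 0 • α₁) = 0 := by
          rw [Scheme.Modules.Hom.app_smul]
          rw [h1, zero_smul, add_zero] at hr
          exact hr
        have h0 : r 0 = 0 := (hαV V' h).1 ((sections_injective hS V' (h0'.trans (map_zero _).symm)).trans
          (zero_smul _ _).symm)
        funext j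
        fin_cases j <;> assumption
      · intro e
        obtain ⟨s, hs⟩ := (hδV V' h).2 (c.app V' (show Γ(E, V') from e))
        beta_reduce at hs
        obtain ⟨t, ht⟩ := sections_exact hS (U := V') ((show Γ(E, V') from e) - s • ε₁) (by
          show c.app V' ((show Γ(E, V') from e) - s • ε₁) = 0
          rw [map_sub, Scheme.Modules.Hom.app_smul, hε₁, hs, sub_self])
        obtain ⟨r, hr⟩ := (hαV V' h).2 t
        beta_reduce at hr
        refine ⟨![r, s], ?_⟩
        rw [hTa]
        show (show Γ(E, V') from r • a.app V' α₁ + s • ε₁) = e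
        rw [← Scheme.Modules.Hom.app_smul, hr]
        change a.app V' t = _ at ht
        rw [ht, sub_add_cancel]
    let b : Module.Basis (Fin 2) Γ(X, V') (E.val.obj (op V')) :=
      Module.Basis.ofEquivFun (LinearEquiv.ofBijective T hTb).symm
    have hb : ⇑b = ![(show E.val.obj (op V') from a.app V' α₁), ε₁] := funext fun i => by
      simp [b, T, Fintype.linearCombination_apply, Module.Basis.coe_ofEquivFun, LinearEquiv.ofBijective_apply,
        Pi.single_apply, ite_smul]
    have hbij := (φ ⟨V', hV'⟩).symm.bijective.comp (Frob15.bijective_smul_ιMulti b)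
    rw [hb] at hbij
    refine Eq.mpr (congrArg Function.Bijective (funext fun r => ?_)) hbij
    exact ((φ ⟨V', hV'⟩).symm.map_smul r _).symm
  choose V t hyV ht hgt using key
  haveI : IsIso g := TwistLib.G.isIso_of_gen_to_gen g V (fun x => ⟨x, hyV x⟩) t ht hgt
  exact ⟨asIso g⟩

end Groth.Agent.Surf15
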