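import Groth.Agent.Surf15.Fundamental
import Groth.Agent.BlowUpLib.BiratCoords
import Groth.Agent.DimLib.Algebra
import Groth.Agent.DimLib.Sub

/-!
# Surf15: growth of the sections of a module trivialized on an affine open of a surface

Powers of a module with a section whose nonvanishing locus is an affine surface have quadratically many
sections, while nonpositive degrees on the zero locus allow only linearly many.
-/

set_option autoImplicit false
set_option linter.style.haveILetI false
set_option backward.isDefEq.respectTransparency.types false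

universe u

open CategoryTheory CategoryTheory.Limits AlgebraicGeometry Opposite TopologicalSpace
open Groth.Agent.Coherent Groth.Agent.PicLib Groth.Agent.AmpleLib Groth.Agent.EulerLib
open Groth.Agent.CurveRR24 Groth.Agent.DimLib Groth.Agent.AssSch12

namespace Groth.Agent.Surf15

variable {X : Scheme.{u}} (k : Type u) [Field k] [X.Over (Spec (CommRingCat.of k))]
  [IsProper (X ↘ Spec (CommRingCat.of k))]

include k in
/-- An affine open of an integral surface contains two algebraically independent functions. -/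
theorem exists_two_functions [IsIntegral X] (hX : topologicalKrullDim X = ((2 : ℕ) : WithBot ℕ∞))
    {U : X.Opens} (hU : IsAffineOpen U) (hne : Nonempty U) :
    ∃ φ : MvPolynomial (Fin 2) k →+* Γ(X, U), Function.Injective φ ∧
      ∀ c : k, φ (MvPolynomial.C c) = X.presheaf.map (homOfLE (le_top (a := U))).op (baseHom k X c) := by
  let ρ : k →+* Γ(X, U) := (X.presheaf.map (homOfLE (le_top (a := U))).op).hom.comp (baseHom k X)
  letI := ρ.toAlgebra
  haveI : Algebra.FiniteType k Γ(X, U) := by
    have h := (X ↘ Spec (CommRingCat.of k)).finiteType_appLE (isAffineOpen_top _) hU (by exact fun _ _ => trivial)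
    have e : ρ = ((X ↘ Spec (CommRingCat.of k)).appLE ⊤ U (fun _ _ => trivial)).hom.comp
        (Scheme.ΓSpecIso (CommRingCat.of k)).inv.hom := rfl
    show ρ.FiniteType
    rw [e]
    exact h.comp (RingHom.FiniteType.of_surjective _
      (ConcreteCategory.bijective_of_isIso (Scheme.ΓSpecIso (CommRingCat.of k)).inv).2)
  obtain ⟨s, g, hinj, -, hs, -⟩ := DimLib.exists_normalization (k := k) (A := Γ(X, U))
  have hd : ringKrullDim Γ(X, U) = ((2 : ℕ) : WithBot ℕ∞) := by
    rw [← PrimeSpectrum.topologicalKrullDim_eq_ringKrullDim]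
    have e := hU.isoSpec.hom.homeomorph.isHomeomorph.topologicalKrullDim_eq
    refine e.symm.trans ?_
    change topologicalKrullDim (U : Set X) = _
    show topologicalKrullDim ((U.carrier : Set X)) = _
    rw [topologicalKrullDim_locallyClosed_eq_iSup (X ↘ Spec (CommRingCat.of k)) (S := U.carrier) U.2.isLocallyClosed]
    have hη : genericPoint X ∈ U :=
      (genericPoint_spec X).mem_open_set_iff U.2 |>.2 (let ⟨⟨z, hz⟩⟩ := hne; ⟨z, trivial, hz⟩)
    refine le_antisymm (iSup_le fun z => ?_) (le_iSup_of_le ⟨_, hη⟩ ?_)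
    · have h := DimLib.ptDim_le_of_specializes (X ↘ Spec (CommRingCat.of k)) (genericPoint_specializes z.1)
      rw [ptDim_genericPoint k hX] at h
      exact_mod_cast h
    · rw [ptDim_genericPoint k hX]
  rw [hs] at hd
  obtain rfl : s = 2 := by exact_mod_cast hd
  exact ⟨g.toRingHom, hinj, fun c => g.commutes c⟩

include k in
/-- Quadratically many sections. -/
theorem exists_lower_bound [IsIntegral X] (hX : topologicalKrullDim X = ((2 : ℕ) : WithBot ℕ∞))
    {L : X.Modules} (hL : PicF.IsInvertible L) {a : Γ(L, ⊤)} (hU : IsAffineOpen (glocus L a))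
    (hne : Nonempty (glocus L a)) :
    ∃ m : ℕ, ∀ N : ℕ, (N + 1) * (N + 1) ≤
      Module.finrank k (Coh.HH X (CohB1.tensorPow (CohB1.tensorPow L m) (2 * N)) 0) := by
  classical
  haveI := isNoetherian_of_proper (X := X) k
  haveI := isSeparated_of_proper (X := X) k
  obtain ⟨φ, hφ, hC⟩ := exists_two_functions k hX hU hne
  obtain ⟨m, T, hT⟩ := BlowUpLib.Birat.exists_extend_pow_finite hL a (fun i : Fin 2 => φ (MvPolynomial.X i))
  refine ⟨m, fun N => ?_⟩
  let L₁ := CohB1.tensorPow L m
  let U := glocus L a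
  let b : Γ(L₁, U) := powSec (resM L le_top a) m
  have hb : IsGen L₁ U b := isGen_powSec (isGen_glocus a) m
  have hone : resM L₁ (le_top : U ≤ ⊤) (powSec a m) = b := resM_powSec _ _ _
  -- sections for the monomials
  have hmono : ∀ (d i j : ℕ), i + j ≤ d → ∃ σ : Γ(CohB1.tensorPow L₁ d, ⊤),
      resM _ (le_top : U ≤ ⊤) σ = (φ (MvPolynomial.X 0) ^ i * φ (MvPolynomial.X 1) ^ j) • powSec b d := by
    intro d
    induction d with
    | zero =>
      intro i j h
      obtain ⟨rfl, rfl⟩ : i = 0 ∧ j = 0 := by omega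
      refine ⟨oneSec ⊤, ?_⟩
      rw [pow_zero, pow_zero, one_mul, one_smul]
      exact resM_oneSec _
    | succ d ih =>
      intro i j h
      have step : ∀ (i' j' : ℕ) (r : Γ(X, U)) (τ : Γ(L₁, ⊤)), i' + j' ≤ d →
          resM L₁ (le_top : U ≤ ⊤) τ = r • b →
          ∃ σ : Γ(CohB1.tensorPow L₁ (d + 1), ⊤), resM _ (le_top : U ≤ ⊤) σ =
            (φ (MvPolynomial.X 0) ^ i' * φ (MvPolynomial.X 1) ^ j' * r) • powSec b (d + 1) := by
        intro i' j' r τ h' hτ
        obtain ⟨σ, hσ⟩ := ih i' j' h'
        refine ⟨tmul σ τ, ?_⟩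
        exact (resM_tmul (L := CohB1.tensorPow L₁ d) (M := L₁) le_top σ τ).trans
          ((congrArg₂ tmul hσ hτ).trans (tmul_smul_smul _ _ _ _))
      rcases Nat.eq_zero_or_pos i with hi | hi
      · rcases Nat.eq_zero_or_pos j with hj | hj
        · obtain ⟨σ, hσ⟩ := step 0 0 1 (powSec a m) (Nat.zero_le _) (by rw [hone, one_smul])
          refine ⟨σ, hσ.trans ?_⟩
          rw [hi, hj, mul_one]
        · obtain ⟨σ, hσ⟩ := step i (j - 1) (φ (MvPolynomial.X 1)) (T 1) (by omega) (hT 1)
          refine ⟨σ, hσ.trans ?_⟩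
          rw [mul_assoc, ← pow_succ, Nat.sub_add_cancel hj]
      · obtain ⟨σ, hσ⟩ := step (i - 1) j (φ (MvPolynomial.X 0)) (T 0) (by omega) (hT 0)
        refine ⟨σ, hσ.trans ?_⟩
        rw [mul_right_comm, ← pow_succ, Nat.sub_add_cancel hi]
  choose σ hσ using fun p : Fin (N + 1) × Fin (N + 1) =>
    hmono (2 * N) p.1.1 p.2.1 (by have := p.1.2; have := p.2.2; omega)
  let M := CohB1.tensorPow L₁ (2 * N)
  have hM : PicF.IsInvertible M := AmpleLib.isInvertible_tensorPow (AmpleLib.isInvertible_tensorPow hL m) _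
  haveI : Module.Finite k (Coh.HH X M 0) := finite_HH_of_isCoh k (CurveRR24.isCoh_of_isInvertible k hM) 0
  haveI : Module.Finite k (GA (baseHom k X) M) := Module.Finite.equiv (hhZero k M)
  let σg : Fin (N + 1) × Fin (N + 1) → GA (baseHom k X) M := σ
  let R : GA (baseHom k X) M →+ Γ(M, U) :=
    { toFun := fun x => resM M (le_top : U ≤ ⊤) x
      map_zero' := map_zero (resM M (le_top : U ≤ ⊤))
      map_add' := fun x y => map_add (resM M (le_top : U ≤ ⊤)) x y }
  have hR : ∀ (c : k) (p : Fin (N + 1) × Fin (N + 1)), R (c • σg p) =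
      φ (MvPolynomial.C c * (MvPolynomial.X 0 ^ p.1.1 * MvPolynomial.X 1 ^ p.2.1)) • powSec b (2 * N) := by
    intro c p
    refine (resM_smul M (le_top : U ≤ ⊤) (baseHom k X c) (σ p)).trans ?_
    rw [hσ p, smul_smul, map_mul, map_mul, map_pow, map_pow, hC]
  have hli : LinearIndependent k σg := by
    rw [Fintype.linearIndependent_iff]
    intro c hc
    have h0 := congrArg R hc
    rw [map_sum, map_zero] at h0
    simp only [hR, ← Finset.sum_smul] at h0
    rw [← map_sum] at h0
    have hz := ((isGen_powSec hb (2 * N)) U le_rfl).1 (a₁ := φ (∑ p, MvPolynomial.C (c p) *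
      (MvPolynomial.X 0 ^ p.1.1 * MvPolynomial.X 1 ^ p.2.1))) (a₂ := 0) (by
        simp only [resM_self, zero_smul]
        exact h0)
    rw [map_eq_zero_iff φ hφ] at hz
    intro p
    have h1 := congrArg (MvPolynomial.coeff (Finsupp.single 0 p.1.1 + Finsupp.single 1 p.2.1)) hz
    rw [MvPolynomial.coeff_sum, MvPolynomial.coeff_zero, Finset.sum_eq_single p] at h1
    · rw [MvPolynomial.coeff_C_mul, MvPolynomial.X_pow_eq_monomial, MvPolynomial.X_pow_eq_monomial,
        MvPolynomial.monomial_mul, MvPolynomial.coeff_monomial, if_pos rfl, one_mul, mul_one] at h1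
      exact h1
    · intro q _ hq
      rw [MvPolynomial.coeff_C_mul, MvPolynomial.X_pow_eq_monomial, MvPolynomial.X_pow_eq_monomial,
        MvPolynomial.monomial_mul, MvPolynomial.coeff_monomial, if_neg, mul_zero]
      intro he
      have e0 := congrArg (fun f => f 0) he
      have e1 := congrArg (fun f => f 1) he
      simp at e0 e1
      exact hq (Prod.ext (Fin.ext e0) (Fin.ext e1))
    · simp
  have := hli.fintype_card_le_finrank
  rw [Fintype.card_prod, Fintype.card_fin, ← finrank_GA_eq k M] at this
  exact this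

include k in
/-- Linearly many sections when the degrees on the zero locus are nonpositive. -/
theorem exists_upper_bound [IsIntegral X] (hX : topologicalKrullDim X = ((2 : ℕ) : WithBot ℕ∞))
    {I : X.IdealSheafData} (hI : BlowUp.IsEffCartierIdeal I) {L : X.Modules} (hL : PicF.IsInvertible L)
    (hLI : ClSub.IsInverseOf L (ClSub.idealMod I))
    (hdeg : ∀ y : X, y ∈ (I.support : Set X) → topologicalKrullDim (closure {y} : Set X) = ((1 : ℕ) : WithBot ℕ∞) →
      deg k (clM y) (InvCl.mk L hL) ≤ 0) :
    ∃ h C : ℕ, ∀ (j : ℕ) (M : X.Modules) (hM : PicF.IsInvertible M), InvCl.mk M hM = InvCl.mk L hL ^ j →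
      Module.finrank k (Coh.HH X M 0) ≤ h + j * C := by
  haveI := isNoetherian_of_proper (X := X) k
  have hsupp := support_quotMod_subset I
  obtain ⟨C, hC⟩ := exists_h0_bound k (isCoh_quotMod I)
    ((dim_mono hsupp).trans (VarietyLib.dim_support_le_of_effCartier k (e := 1) hX.le hI)) 0
  refine ⟨Module.finrank k (Coh.HH X (Coh.structureModule X) 0), C, fun j => ?_⟩
  induction j with
  | zero =>
    intro M hM hcl
    rw [pow_zero] at hcl
    obtain ⟨e⟩ : Nonempty (M ≅ Coh.structureModule X) := Quotient.exact hcl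
    rw [finrank_HH_congr k e 0]
    omega
  | succ j ih =>
    intro M hM hcl
    have hIi := FlatMor12.IdealModGen.isInvertible_idealMod I hI
    have hM1 := isInvertible_tensorMod hIi hM
    have hcl1 : InvCl.mk (CohB1.tensorMod (ClSub.idealMod I) M) hM1 = InvCl.mk L hL ^ j := by
      rw [← InvCl.mk_mul hIi hM, hcl, pow_succ', ← mul_assoc,
        show InvCl.mk (ClSub.idealMod I) hIi * InvCl.mk L hL = 1 from mk_inverse_clI' hI hL hLI, one_mul]
    have h1 := ih (CohB1.tensorMod (ClSub.idealMod I) M) hM1 hcl1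
    have h3 := hC M hM fun y hy hy1 => by
      have hd : topologicalKrullDim (CohB1.support (clM y)) ≤ ((1 : ℕ) : WithBot ℕ∞) := by
        rw [support_clM]; exact hy1.le
      rw [hcl, deg_pow k (isCoh_clM y) hd]
      exact mul_nonpos_of_nonneg_of_nonpos (Nat.cast_nonneg _) (hdeg y (hsupp hy) hy1)
    have h2 := (h0_le k (twistSeq_shortExact hM (shortExact_ideal I)) (isCoh_twist hM (isCoh_idealMod' I))
      (isCoh_twist hM (isCoh_structureModule X)) (isCoh_twist hM (isCoh_quotMod I))).2
    rw [show Module.finrank k (Coh.HH X (twistSeq (ShortComplex.mk (ClSub.idealModι I) (ClSub.toSubscheme I)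
      (kernel.condition (ClSub.toSubscheme I))) M).X₂ 0) = Module.finrank k (Coh.HH X M 0) from
        finrank_HH_congr k (unitTensorIso M) 0] at h2
    refine h2.trans ((add_le_add h1 h3).trans ?_)
    rw [add_mul, one_mul, add_assoc]

end Groth.Agent.Surf15
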