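import Groth.Agent.Surf15.Pencil
import Groth.Agent.CurveRR24.BCField

/-!
# Surf15: vanishing of `H²` of invertible modules of large degree on a surface
-/

set_option autoImplicit false
set_option linter.style.haveILetI false
set_option backward.isDefEq.respectTransparency.types false

universe u

open CategoryTheory CategoryTheory.Limits AlgebraicGeometry Opposite TopologicalSpace
open Groth.Agent.Coherent Groth.Agent.PicLib Groth.Agent.AmpleLib Groth.Agent.EulerLib

namespace Groth.Agent.Surf15

open BaseRat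

variable (k : Type u) [Field k] {X : Scheme.{u}} [X.Over (Spec (CommRingCat.of k))]
  [IsProper (X ↘ Spec (CommRingCat.of k))]

include k in
theorem isQCoh_invertible {L : X.Modules} (hL : PicF.IsInvertible L) : Coh.IsQCoh L :=
  isQCoh_of_isInvertible hL

include k in
/-- The pairing is invariant under the extension to `k(t)`. -/
theorem B_bc (hX : topologicalKrullDim X ≤ ((2 : ℕ) : WithBot ℕ∞)) {L M : X.Modules}
    (hL : PicF.IsInvertible L) (hM : PicF.IsInvertible M) :
    B (RatFunc k) (InvCl.mk _ (PicLoc.isInvertible_pullback (pr k X) hL))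
      (InvCl.mk _ (PicLoc.isInvertible_pullback (pr k X) hM)) =
      B k (InvCl.mk L hL) (InvCl.mk M hM) := by
  haveI := isNoetherian_of_proper (X := X) k
  have hX' : topologicalKrullDim (XK k X) ≤ ((2 : ℕ) : WithBot ℕ∞) :=
    (DimLib.topologicalKrullDim_bc (X ↘ Spec (CommRingCat.of k)) (RatFunc k)).trans_le hX
  have key : ∀ {N : X.Modules} {N' : (XK k X).Modules} (hN : PicF.IsInvertible N)
      (hN' : PicF.IsInvertible N'), ((Scheme.Modules.pullback (pr k X)).obj N ≅ N') →
      chiCl (RatFunc k) (Coh.structureModule (XK k X)) (InvCl.mk N' hN') =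
        chiCl k (Coh.structureModule X) (InvCl.mk N hN) := by
    intro N N' hN hN' e
    haveI := isQCoh_of_isInvertible hN
    rw [← euler_eq_chiCl k hX hN, ← euler_eq_chiCl (RatFunc k) hX' hN',
      ← euler_congr (RatFunc k) (XK k X) e, CurveRR24.euler_bc (isPullback k X) N]
  obtain ⟨e⟩ := exists_pullTensorIso (pr k X) hL hM
  obtain ⟨eO⟩ := exists_pullStructureIso (pr k X) (X := X)
  have h1 : chiCl (RatFunc k) (Coh.structureModule (XK k X)) 1 = chiCl k (Coh.structureModule X) 1 := by
    haveI : Coh.IsQCoh (Coh.structureModule X) := isQCoh_structureModule (X := X)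
    rw [chiCl_one, chiCl_one, ← euler_congr (RatFunc k) (XK k X) eO,
      CurveRR24.euler_bc (isPullback k X) (Coh.structureModule X)]
  rw [B, B, InvCl.mk_mul (PicLoc.isInvertible_pullback (pr k X) hL) (PicLoc.isInvertible_pullback (pr k X) hM),
    InvCl.mk_mul hL hM]
  rw [key (isInvertible_tensorMod hL hM) _ e, key hL _ (Iso.refl _), key hM _ (Iso.refl _), h1]

include k in
/-- **Vanishing of `H²` in large degree** on an integral proper surface with an ample module. -/
theorem exists_h2_bound [IsIntegral X] (hX : topologicalKrullDim X = ((2 : ℕ) : WithBot ℕ∞))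
    {H : X.Modules} (hH : CohB1.IsAmple H) :
    ∃ n₀ : ℤ, ∀ (L : X.Modules) (hL : PicF.IsInvertible L),
      n₀ < B k (InvCl.mk H hH.1) (InvCl.mk L hL) → Subsingleton (Coh.HH X L 2) := by
  haveI := isNoetherian_of_proper (X := X) k
  obtain ⟨N, hN, t₀, t₁, hU, hη, hbase⟩ := exists_pencil k hX hH
  have hP : CohB1.IsAmple (CohB1.tensorPow H N) := (isAmple_pow_iff hH.1 N hN).2 hH
  haveI := BaseRat.isIntegral k (X := X)
  obtain ⟨s, hs, η, hη', hηT⟩ := exists_irreducible_section k hX hP t₀ t₁ hU hη hbase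
  have hX' : topologicalKrullDim (XK k X) = ((2 : ℕ) : WithBot ℕ∞) :=
    (DimLib.topologicalKrullDim_bc (X ↘ Spec (CommRingCat.of k)) (RatFunc k)).trans hX
  obtain ⟨n₀, hn₀⟩ := exists_h2_bound_of_irreducible (RatFunc k) hX'
    (isAmple_pullback_of_isAffineHom (pr k X) hP) hs η hηT hη'
  refine ⟨max n₀ 0, fun L hL hbig => ?_⟩
  have h1 : n₀ < (N : ℤ) * B k (InvCl.mk H hH.1) (InvCl.mk L hL) := by
    have : 0 < B k (InvCl.mk H hH.1) (InvCl.mk L hL) := (le_max_right _ _).trans_lt hbig
    have h2 : n₀ < B k (InvCl.mk H hH.1) (InvCl.mk L hL) := (le_max_left _ _).trans_lt hbig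
    have h3 : (1 : ℤ) ≤ N := by exact_mod_cast hN
    nlinarith
  have hK := hn₀ _ (PicLoc.isInvertible_pullback (pr k X) hL) (by
    rw [B_bc k hX.le hP.1 hL, InvCl.mk_tensorPow hH.1, B_pow_left k hX.le]
    exact h1)
  haveI := isQCoh_of_isInvertible hL
  haveI : Module.Finite k (Coh.HH X L 2) := (finite_HH_iff k L 2).2
    (finCoh_of_isProper (X ↘ Spec (CommRingCat.of k)) L
      (isCoh_iso (unitTensorIso L) (isCoh_twist hL (isCoh_O k))) 2)
  haveI := hK
  have h0 := CurveRR24.finrank_HH_bc (isPullback k X) L 2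
  rw [Module.finrank_zero_of_subsingleton] at h0
  exact Module.finrank_zero_iff.1 h0.symm

end Groth.Agent.Surf15
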