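import Groth.Agent.Surf15.BaseRat
import Groth.Agent.Surf15.Cut
import Groth.Agent.AmpleLib.Ample

/-!
# Surf15: a generic member of a pencil of ample divisors on a surface is irreducible
-/

set_option autoImplicit false
set_option linter.style.haveILetI false
set_option backward.isDefEq.respectTransparency.types false

universe u

open CategoryTheory CategoryTheory.Limits AlgebraicGeometry Opposite TopologicalSpace
open Groth.Agent.Coherent Groth.Agent.PicLib Groth.Agent.AmpleLib Groth.Agent.EulerLib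
open Groth.Agent.CurveRR24 Groth.Agent.DimLib Groth.Agent.AssSch12 Groth.Agent.AbCubeLib
open scoped TensorProduct

namespace Groth.Agent.Surf15

variable (k : Type u) [Field k] {X : Scheme.{u}} [X.Over (Spec (CommRingCat.of k))]
  [IsProper (X ↘ Spec (CommRingCat.of k))]

include k in
theorem ptDim_genericPoint [IsIntegral X] {n : ℕ} (hX : topologicalKrullDim X = ((n : ℕ) : WithBot ℕ∞)) :
    ptDim (X ↘ Spec (CommRingCat.of k)) (genericPoint X) = n := by
  have h := topologicalKrullDim_eq_ptDim_of_isGenericPoint (X ↘ Spec (CommRingCat.of k))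
    (genericPoint_spec X)
  rw [(IsHomeomorph.topologicalKrullDim_eq _ (Homeomorph.Set.univ X).isHomeomorph), hX] at h
  exact_mod_cast h.symm

include k in
/-- Two sections of a power of an ample module whose common zeros are finitely many closed points. -/
theorem exists_pencil [IsIntegral X] (hX : topologicalKrullDim X = ((2 : ℕ) : WithBot ℕ∞))
    {H : X.Modules} (hH : CohB1.IsAmple H) :
    ∃ N : ℕ, 0 < N ∧ ∃ t₀ t₁ : Γ(CohB1.tensorPow H N, ⊤), IsAffineOpen (glocus _ t₁) ∧
      genericPoint X ∈ glocus _ t₁ ∧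
      ∀ x, x ∉ glocus _ t₀ → x ∉ glocus _ t₁ → ptDim (X ↘ Spec (CommRingCat.of k)) x = 0 := by
  classical
  haveI := isNoetherian_of_proper (X := X) k
  let p := X ↘ Spec (CommRingCat.of k)
  obtain ⟨a, ha, b₁, hηb₁, -, hb₁⟩ :=
    exists_affine_glocus_finite (U := ⊤) hH {genericPoint X} (Set.finite_singleton _) (Set.subset_univ _)
  replace hηb₁ : genericPoint X ∈ glocus _ b₁ := hηb₁ rfl
  let T : Set X := (glocus _ b₁ : Set X)ᶜ
  have hT : IsClosed T := (glocus _ b₁).2.isClosed_compl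
  have hle : ∀ z ∈ T, ptDim p z ≤ 1 := by
    intro z hz
    have hlt := ptDim_lt_of_specializes p (genericPoint_specializes z)
      (fun h => hz (h ▸ hηb₁))
    rw [ptDim_genericPoint k hX] at hlt
    omega
  let M : Set X := {z ∈ T | ptDim p z = 1}
  have hM : M.Finite := by
    haveI : QuasiSober T := hT.isClosedEmbedding_subtypeVal.quasiSober
    refine Set.Finite.of_finite_image (f := fun z => closure ({z} : Set X)) ?_ ?_
    · refine (NoetherianSpace.finite_irreducibleComponents (α := T)).image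
        (fun Z => closure (Subtype.val '' Z)) |>.subset ?_
      rintro _ ⟨z, ⟨hz, h1⟩, rfl⟩
      refine ⟨closure ({⟨z, hz⟩} : Set T), (mem_components_iff _).2 fun y hy => ?_, ?_⟩
      · have h' : (y : X) ⤳ z := hy.map continuous_subtype_val
        have he := eq_of_specializes_of_ptDim_le p h' (by rw [h1]; exact hle _ y.2)
        exact (Subtype.ext he.symm : (⟨z, hz⟩ : T) = y) ▸ specializes_rfl
      · show closure (Subtype.val '' closure ({⟨z, hz⟩} : Set T)) = closure {z}
        rw [closure_image_closure continuous_subtype_val, Set.image_singleton]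
    · intro x _ y _ h
      have h1 : IsGenericPoint x (closure {x}) := isGenericPoint_closure
      have h2 : IsGenericPoint y (closure {x}) := by rw [show closure {x} = closure {y} from h]; exact isGenericPoint_closure
      exact h1.eq h2
  obtain ⟨m, hm, b₀, hMb₀, -, -⟩ :=
    exists_affine_glocus_finite (U := ⊤) hH M hM (Set.subset_univ _)
  have key : ∀ l, l = a * m → ∀ b : Γ(CohB1.tensorPow H l, ⊤),
      ∃ c : Γ(CohB1.tensorPow H (a * m), ⊤), glocus _ c = glocus _ b := by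
    rintro _ rfl b; exact ⟨b, rfl⟩
  obtain ⟨c₁, hc₁⟩ := exists_glocus_pow hH.1 a b₁ m hm
  obtain ⟨c₀', hc₀'⟩ := exists_glocus_pow hH.1 m b₀ a ha
  obtain ⟨c₀, hc₀⟩ := key _ (mul_comm m a) c₀'
  refine ⟨a * m, Nat.mul_pos ha hm, c₀, c₁, hc₁ ▸ hb₁, hc₁ ▸ hηb₁, fun x h0 h1 => ?_⟩
  rw [hc₁] at h1
  rw [hc₀, hc₀'] at h0
  have h := hle x h1
  by_contra hne
  exact h0 (hMb₀ ⟨h1, le_antisymm h (Nat.one_le_iff_ne_zero.2 hne)⟩)

open BaseRat in
include k in
/-- The generic member of the pencil has irreducible zero locus. -/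
theorem exists_irreducible_section [IsIntegral X] [IsIntegral (XK k X)]
    (hX : topologicalKrullDim X = ((2 : ℕ) : WithBot ℕ∞))
    {P : X.Modules} (hP : CohB1.IsAmple P) (t₀ t₁ : Γ(P, ⊤)) (hU : IsAffineOpen (glocus P t₁))
    (hη : genericPoint X ∈ glocus P t₁)
    (hbase : ∀ x, x ∉ glocus P t₀ → x ∉ glocus P t₁ → ptDim (X ↘ Spec (CommRingCat.of k)) x = 0) :
    ∃ s : Γ((Scheme.Modules.pullback (pr k X)).obj P, ⊤), s ≠ 0 ∧
      ∃ η, η ∉ glocus _ s ∧ (glocus _ s : Set (XK k X))ᶜ ⊆ closure {η} := by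
  classical
  let g := pr k X
  let q := XK k X ↘ Spec (CommRingCat.of (RatFunc k))
  let P' := (Scheme.Modules.pullback g).obj P
  let τ : Γ(XK k X, ⊤) := Coh.toGlobal q RatFunc.X
  let a₀ : Γ(P', ⊤) := pullSec g t₀
  let a₁ : Γ(P', ⊤) := pullSec g t₁
  let σ : Γ(P', ⊤) := a₀ + τ • a₁
  have hP' : CohB1.IsAmple P' := isAmple_pullback_of_isAffineHom g hP
  have hX' : topologicalKrullDim (XK k X) = ((2 : ℕ) : WithBot ℕ∞) :=
    (DimLib.topologicalKrullDim_bc (X ↘ Spec (CommRingCat.of k)) (RatFunc k)).trans hX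
  -- the local equation
  have coefσ : ∀ {W : X.Opens} {h : Γ(P, W)} (hh : IsGen P W h),
      glocus P' σ ⊓ g ⁻¹ᵁ W = (XK k X).basicOpen
        (g.app W (hh.coef le_rfl (resM P le_top t₀)) + resT k (g ⁻¹ᵁ W) RatFunc.X *
          g.app W (hh.coef le_rfl (resM P le_top t₁))) := by
    intro W h hh
    have hh' : IsGen P' (g ⁻¹ᵁ W) (pullSec g h) := isGen_pullSec g hh hP.1
    rw [glocus_inf σ hh']
    congr 1
    refine IsGen.coef_eq _ _ ?_
    have e : ∀ t : Γ(P, ⊤), g.app W (hh.coef le_rfl (resM P le_top t)) • pullSec g h =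
        resM P' (le_top : g ⁻¹ᵁ W ≤ ⊤) (show Γ(P', ⊤) from pullSec g t) := by
      intro t
      have e1 := hh.coef_spec le_rfl (resM P le_top t)
      rw [resM_self] at e1
      rw [← pullSec_smul, e1]
      exact (resM_pullSec g (le_top : W ≤ ⊤) t).symm
    rw [resM_self, add_smul, mul_smul, e, e]
    show resM P' le_top a₀ + resT k (g ⁻¹ᵁ W) RatFunc.X • resM P' le_top a₁ = resM P' le_top (a₀ + τ • a₁)
    rw [map_add, resM_smul]
    rfl
  -- over the base locus
  have hout : ∀ z, z ∉ glocus P' σ → g z ∉ glocus P t₁ → g z ∉ glocus P t₀ := by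
    intro z hz h1 h0
    obtain ⟨W, hzW, h, hh⟩ := exists_isGen hP.1 (g z)
    have e := coefσ hh
    let f := fun t => hh.coef le_rfl (resM P le_top t)
    have hb : ∀ t, g z ∈ glocus P t ↔ z ∈ (XK k X).basicOpen (g.app W (f t)) := by
      intro t
      rw [← Scheme.preimage_basicOpen]
      show _ ↔ g z ∈ X.basicOpen (f t)
      rw [← glocus_inf t hh]
      exact ⟨fun h => ⟨h, hzW⟩, fun h => h.1⟩
    have hzW' : z ∈ g ⁻¹ᵁ W := hzW
    have hsum : z ∈ (XK k X).basicOpen
        (g.app W (f t₀) + resT k (g ⁻¹ᵁ W) RatFunc.X * g.app W (f t₁)) := by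
      rw [Scheme.mem_basicOpen _ _ _ hzW', map_add, map_mul]
      have u0 := (Scheme.mem_basicOpen _ _ _ hzW').1 ((hb t₀).1 h0)
      have u1 : (XK k X).presheaf.germ (g ⁻¹ᵁ W) z hzW' (g.app W (f t₁)) ∈
          IsLocalRing.maximalIdeal ((XK k X).presheaf.stalk z) := fun hu =>
        h1 ((hb t₁).2 ((Scheme.mem_basicOpen _ _ _ hzW').2 hu))
      by_contra hu
      have := Ideal.sub_mem _ ((IsLocalRing.mem_maximalIdeal _).2 hu) (Ideal.mul_mem_left _
        ((XK k X).presheaf.germ (g ⁻¹ᵁ W) z hzW' (resT k (g ⁻¹ᵁ W) RatFunc.X)) u1)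
      rw [add_sub_cancel_right] at this
      exact this u0
    exact hz (e.ge hsum).1
  -- inside the affine open
  let U := glocus P t₁
  let V : (XK k X).Opens := g ⁻¹ᵁ U
  have hV : IsAffineOpen V := hU.preimage g
  have hhU : IsGen P U (resM P le_top t₁) := isGen_glocus t₁
  let R := Γ(X, U)
  letI : Algebra k R := (resK k U).toAlgebra
  haveI : Nonempty U := ⟨⟨_, hη⟩⟩
  let f : R := hhU.coef le_rfl (resM P le_top t₀)
  obtain ⟨e, he₁, he₂⟩ := exists_sectionEquiv k hU
  let r₀ : R ⊗[k] RatFunc k := (1 : R) ⊗ₜ RatFunc.X + f ⊗ₜ 1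
  have hin : glocus P' σ ⊓ V = (XK k X).basicOpen (e r₀) := by
    rw [coefσ hhU]
    congr 1
    have h1 : hhU.coef le_rfl (resM P le_top t₁) = 1 := hhU.coef_eq _ (by rw [one_smul, resM_self])
    rw [h1, map_one, mul_one, map_add, he₁, he₂, add_comm]
  have hσ0 : σ ≠ 0 := by
    intro h0
    refine RatTensor.X_add_ne_zero k R f (e.injective ?_)
    rw [map_zero]
    have hh' : IsGen P' V (pullSec g (resM P le_top t₁)) := isGen_pullSec g hhU hP.1
    haveI : IsIntegral (V : Scheme.{u}) := isIntegral_preimage k hU inferInstance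
    refine (basicOpen_eq_bot_iff _).1 ?_
    rw [← hin, glocus_inf σ hh', h0, map_zero, hh'.coef_eq _ (zero_smul _ _), Scheme.basicOpen_zero]
  have hmax : ∀ z, z ∉ glocus P' σ → ∃ w, w ∉ glocus P' σ ∧ w ⤳ z ∧ w ∈ V := by
    intro z hz
    obtain ⟨w, hw, hwz, hwmax⟩ := exists_maximal_mem q (S := (glocus P' σ : Set (XK k X))ᶜ)
      (η := genericPoint (XK k X)) hz (fun w _ _ => genericPoint_specializes w)
    refine ⟨w, hw, hwz, ?_⟩
    by_contra hwV
    have hw0 := hbase (g w) (hout w hw hwV) hwV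
    have hle : ptDim q w ≤ ptDim (X ↘ Spec (CommRingCat.of k)) (g w) :=
      ptDim_bc_le (X ↘ Spec (CommRingCat.of k)) (RatFunc k) w
    obtain ⟨W₀, hwW₀, g₀, hg₀⟩ := exists_isGen hP'.1 w
    obtain ⟨W, hW, hwW, hWW₀⟩ := exists_isAffineOpen_mem_and_subset (x := w) (U := W₀) hwW₀
    have hg := hg₀.restrict (show W ≤ W₀ from hWW₀)
    let c := hg.coef le_rfl (resM P' le_top σ)
    have hbo : glocus P' σ ⊓ W = (XK k X).basicOpen c := glocus_inf σ hg
    have h1 := ptDim_le_add_of_minimal_zero q hW {c} (genericPoint_specializes w) hwW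
      (fun r hr => by
        rw [Finset.mem_singleton.1 hr]
        intro h
        rw [← hbo] at h
        exact hw h.1)
      (fun y _ hyw hyW hyc => (hwmax y (fun hyU =>
        hyc c (Finset.mem_singleton_self c) (hbo ▸ ⟨hyU, hyW⟩)) hyw).symm)
    rw [Finset.card_singleton, ptDim_genericPoint (RatFunc k) hX'] at h1
    omega
  have hne : ∃ z, z ∉ glocus P' σ := by
    by_contra h
    push Not at h
    obtain ⟨S, -, -, -, hQ, hsupp, -, hdeg⟩ := exists_cut (RatFunc k) hX'.le hP'.1 hσ0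
    have hemp : CohB1.support S.X₃ = ∅ := hsupp.trans (Set.eq_empty_iff_forall_notMem.2 fun z hz => hz (h z))
    have hd : topologicalKrullDim (CohB1.support S.X₃) < ((1 : ℕ) : WithBot ℕ∞) := by
      rw [hemp]
      haveI : IsEmpty (IrreducibleCloseds (∅ : Set (XK k X))) := ⟨fun A => A.2.1.elim fun a _ => a.2⟩
      show Order.krullDim _ < _
      rw [Order.krullDim_eq_bot]
      exact WithBot.bot_lt_coe _
    have := B_ample_pos (RatFunc k) hX' hP' hP'
    rw [← hdeg, deg_eq_zero_of_dim (RatFunc k) hQ hd] at this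
    exact lt_irrefl _ this
  -- points of the affine piece are primes
  have hpt : ∀ (Q : PrimeSpectrum Γ(XK k X, V)),
      hV.fromSpec Q ∈ glocus P' σ ↔ e r₀ ∉ Q.asIdeal := by
    intro Q
    have hQV : hV.fromSpec Q ∈ V := hV.range_fromSpec.le ⟨Q, rfl⟩
    refine Iff.trans ⟨fun h => hin.le ⟨h, hQV⟩, fun h => (hin.ge h).1⟩ ?_
    exact iff_of_eq (congrArg (Q ∈ ·) (hV.fromSpec_preimage_basicOpen (e r₀)))
  obtain ⟨z₀, hz₀⟩ := hne
  obtain ⟨w₀, hw₀, -, hw₀V⟩ := hmax z₀ hz₀
  obtain ⟨Q₀, hQ₀⟩ : w₀ ∈ Set.range hV.fromSpec := by rw [hV.range_fromSpec]; exact hw₀V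
  obtain ⟨q₀, hq₀, hrq₀, hleast⟩ := RatTensor.exists_least_prime k R f
    ⟨Ideal.comap e.toRingHom (show PrimeSpectrum Γ(XK k X, V) from Q₀).asIdeal, inferInstance, by
      have := (hpt Q₀).not.1 (hQ₀ ▸ hw₀)
      exact not_not.1 this⟩
  let Qη : PrimeSpectrum Γ(XK k X, V) := ⟨Ideal.comap e.symm.toRingHom q₀, inferInstance⟩
  refine ⟨σ, hσ0, hV.fromSpec Qη, (hpt Qη).not.2 (not_not.2 ?_), fun z hz => ?_⟩
  · show e.symm (e r₀) ∈ q₀
    rwa [e.symm_apply_apply]
  · obtain ⟨w, hw, hwz, hwV⟩ := hmax z hz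
    obtain ⟨Q, rfl⟩ : w ∈ Set.range hV.fromSpec := by rw [hV.range_fromSpec]; exact hwV
    refine specializes_iff_mem_closure.1 (Specializes.trans ?_ hwz)
    refine ((PrimeSpectrum.le_iff_specializes Qη Q).1 fun x hx => ?_).map hV.fromSpec.continuous
    have h2 := hleast (Ideal.comap e.toRingHom (show PrimeSpectrum Γ(XK k X, V) from Q).asIdeal)
      inferInstance (not_not.1 ((hpt Q).not.1 hw)) hx
    have h3 : e (e.symm x) ∈ (show PrimeSpectrum Γ(XK k X, V) from Q).asIdeal := h2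
    rwa [e.apply_symm_apply] at h3

end Groth.Agent.Surf15
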