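import Mathlib.FieldTheory.RatFunc.AsPolynomial
import Mathlib.RingTheory.TensorProduct.Basic
import Mathlib.RingTheory.PolynomialAlgebra
import Mathlib.RingTheory.Flat.Basic
import Mathlib.RingTheory.Localization.FractionRing
import Mathlib.RingTheory.Ideal.Maps

/-!
# Surf15: the base change of a domain to a rational function field
-/

set_option autoImplicit false

universe u

open scoped TensorProduct Polynomial

namespace Groth.Agent.Surf15.RatTensor

variable (k : Type u) [Field k] (R : Type u) [CommRing R] [Algebra k R]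

/-- Polynomials over `R` inside `R ⊗ k(t)`, the variable going to `t`. -/
noncomputable def emb : R[X] →+* R ⊗[k] RatFunc k :=
  Polynomial.eval₂RingHom (Algebra.TensorProduct.includeLeftRingHom : R →+* R ⊗[k] RatFunc k)
    ((1 : R) ⊗ₜ RatFunc.X)

theorem emb_C (r : R) : emb k R (Polynomial.C r) = r ⊗ₜ 1 := by
  simp [emb]

theorem emb_X : emb k R Polynomial.X = (1 : R) ⊗ₜ RatFunc.X := by
  simp [emb]

theorem emb_map (d : k[X]) :
    emb k R (d.map (algebraMap k R)) = (1 : R) ⊗ₜ algebraMap k[X] (RatFunc k) d := by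
  induction d using Polynomial.induction_on' with
  | add p q hp hq => rw [Polynomial.map_add, map_add, hp, hq, map_add, TensorProduct.tmul_add]
  | monomial n a =>
    rw [← Polynomial.C_mul_X_pow_eq_monomial, Polynomial.map_mul, Polynomial.map_C,
      Polynomial.map_pow, Polynomial.map_X, map_mul, map_mul, map_pow, map_pow, emb_C, emb_X,
      RatFunc.algebraMap_C, RatFunc.algebraMap_X, Algebra.TensorProduct.tmul_pow, one_pow,
      Algebra.TensorProduct.tmul_mul_tmul, mul_one, one_mul, ← RatFunc.algebraMap_eq_C,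
      Algebra.algebraMap_eq_smul_one (R := k) (A := R), TensorProduct.smul_tmul, Algebra.smul_def]

/-- Every element becomes a polynomial after multiplication by a nonzero polynomial in `t`. -/
theorem exists_poly (z : R ⊗[k] RatFunc k) :
    ∃ (d : k[X]) (p : R[X]), d ≠ 0 ∧ z * emb k R (d.map (algebraMap k R)) = emb k R p := by
  induction z using TensorProduct.induction_on with
  | zero => exact ⟨1, 0, one_ne_zero, by simp⟩
  | tmul r q =>
    refine ⟨q.denom, Polynomial.C r * q.num.map (algebraMap k R), RatFunc.denom_ne_zero q, ?_⟩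
    rw [map_mul, emb_C, emb_map, emb_map, Algebra.TensorProduct.tmul_mul_tmul,
      Algebra.TensorProduct.tmul_mul_tmul, one_mul, mul_one]
    congr 1
    exact ((div_eq_iff (RatFunc.algebraMap_ne_zero (RatFunc.denom_ne_zero q))).1
      (RatFunc.num_div_denom q)).symm
  | add a b ha hb =>
    obtain ⟨d, p, hd, hp⟩ := ha
    obtain ⟨e, q, he, hq⟩ := hb
    refine ⟨d * e, p * e.map (algebraMap k R) + q * d.map (algebraMap k R), mul_ne_zero hd he, ?_⟩
    rw [Polynomial.map_mul, map_mul, map_add, map_mul, map_mul, ← hp, ← hq]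
    ring

theorem isUnit_emb {d : k[X]} (hd : d ≠ 0) : IsUnit (emb k R (d.map (algebraMap k R))) := by
  rw [emb_map]
  exact (isUnit_iff_ne_zero.2 (RatFunc.algebraMap_ne_zero hd)).map
    (Algebra.TensorProduct.includeRight : RatFunc k →ₐ[k] R ⊗[k] RatFunc k)

theorem emb_injective : Function.Injective (emb k R) := by
  let ι : k[X] →ₐ[k] RatFunc k := IsScalarTower.toAlgHom k k[X] (RatFunc k)
  let φ : R ⊗[k] k[X] →ₐ[k] R ⊗[k] RatFunc k := Algebra.TensorProduct.map (AlgHom.id k R) ι
  have hφ : Function.Injective φ :=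
    Module.Flat.lTensor_preserves_injective_linearMap (M := R) ι.toLinearMap
      (RatFunc.algebraMap_injective k)
  have h : φ.toRingHom.comp (polyEquivTensor k R).toAlgHom.toRingHom = emb k R := by
    refine Polynomial.ringHom_ext (fun r => ?_) ?_
    · rw [emb_C]
      show φ (polyEquivTensor k R (Polynomial.C r)) = _
      simp [φ]
    · rw [emb_X]
      show φ (polyEquivTensor k R Polynomial.X) = _
      simp [φ, ι]
  rw [← h]
  exact hφ.comp (polyEquivTensor k R).injective

/-- `t + f` is not zero. -/
theorem X_add_ne_zero [Nontrivial R] (f : R) : (1 : R) ⊗ₜ[k] (RatFunc.X : RatFunc k) + f ⊗ₜ 1 ≠ 0 := by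
  intro h
  refine Polynomial.X_add_C_ne_zero f (emb_injective k R ?_)
  rw [map_add, emb_X, emb_C, h, map_zero]

variable [IsDomain R]

theorem isDomain : IsDomain (R ⊗[k] RatFunc k) := by
  let W := FractionRing R[X]
  let α : R[X] →+* W := algebraMap R[X] W
  have hinj : Function.Injective (α.comp (Polynomial.mapRingHom (algebraMap k R))) :=
    (IsFractionRing.injective R[X] W).comp (Polynomial.map_injective _ (algebraMap k R).injective)
  let ρ : RatFunc k →+* W := RatFunc.liftRingHom (α.comp (Polynomial.mapRingHom (algebraMap k R)))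
    (nonZeroDivisors_le_comap_nonZeroDivisors_of_injective _ hinj)
  have hρ : ∀ d : k[X], ρ (algebraMap k[X] (RatFunc k) d) = α (d.map (algebraMap k R)) := fun d =>
    RatFunc.liftRingHom_algebraMap _ _ d
  letI : Algebra k W := (α.comp (Polynomial.C.comp (algebraMap k R))).toAlgebra
  let fR : R →ₐ[k] W := { α.comp Polynomial.C with commutes' := fun a => rfl }
  let fK : RatFunc k →ₐ[k] W :=
    { ρ with
      commutes' := fun a => by
        show ρ (algebraMap k (RatFunc k) a) = _
        rw [IsScalarTower.algebraMap_apply k k[X] (RatFunc k), hρ, Polynomial.algebraMap_eq,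
          Polynomial.map_C]
        rfl }
  let Φ : R ⊗[k] RatFunc k →ₐ[k] W := Algebra.TensorProduct.productMap fR fK
  have hΦ : ∀ p : R[X], Φ (emb k R p) = α p := by
    intro p
    have : (Φ.toRingHom.comp (emb k R)) = α := by
      refine Polynomial.ringHom_ext (fun r => ?_) ?_
      · show Φ (emb k R (Polynomial.C r)) = _
        rw [emb_C, Algebra.TensorProduct.productMap_apply_tmul, map_one, mul_one]
        rfl
      · show Φ (emb k R Polynomial.X) = _
        rw [emb_X, Algebra.TensorProduct.productMap_apply_tmul, map_one, one_mul]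
        show ρ RatFunc.X = _
        rw [← RatFunc.algebraMap_X, hρ, Polynomial.map_X]
    exact RingHom.congr_fun this p
  have hΦinj : Function.Injective Φ := by
    rw [injective_iff_map_eq_zero]
    intro z hz
    obtain ⟨d, p, hd, hp⟩ := exists_poly k R z
    have h1 := congrArg Φ hp
    rw [map_mul, hz, zero_mul, hΦ] at h1
    have hp0 : p = 0 := IsFractionRing.injective R[X] W (h1.symm.trans (map_zero α).symm)
    rw [hp0, map_zero] at hp
    exact ((isUnit_emb k R hd).mul_left_eq_zero).1 hp
  exact Function.Injective.isDomain Φ.toRingHom hΦinj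

/-- At most one prime containing `t + f` is minimal: it is contained in every other one. -/
theorem exists_least_prime (f : R)
    (h : ∃ q : Ideal (R ⊗[k] RatFunc k), q.IsPrime ∧ (1 : R) ⊗ₜ RatFunc.X + f ⊗ₜ 1 ∈ q) :
    ∃ q₀ : Ideal (R ⊗[k] RatFunc k), q₀.IsPrime ∧ (1 : R) ⊗ₜ RatFunc.X + f ⊗ₜ 1 ∈ q₀ ∧
      ∀ q : Ideal (R ⊗[k] RatFunc k), q.IsPrime → (1 : R) ⊗ₜ RatFunc.X + f ⊗ₜ 1 ∈ q → q₀ ≤ q := by
  classical
  let g : R ⊗[k] RatFunc k := (1 : R) ⊗ₜ RatFunc.X + f ⊗ₜ 1
  let ev : R[X] →+* R := Polynomial.evalRingHom (-f)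
  -- modulo `g` every polynomial is its value at `-f`
  have key : ∀ (q : Ideal (R ⊗[k] RatFunc k)), g ∈ q → ∀ p : R[X],
      emb k R p - emb k R (Polynomial.C (ev p)) ∈ q := by
    intro q hq p
    obtain ⟨r, hr⟩ : Polynomial.X - Polynomial.C (-f) ∣ p - Polynomial.C (ev p) := by
      rw [Polynomial.dvd_iff_isRoot]
      simp [Polynomial.IsRoot, ev]
    rw [← map_sub, hr, map_mul]
    refine q.mul_mem_right _ ?_
    rw [map_sub, emb_X, emb_C, TensorProduct.neg_tmul, sub_neg_eq_add]
    exact hq
  obtain ⟨q, hq, hgq⟩ := h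
  have hne : ∀ d : k[X], d ≠ 0 → ev (d.map (algebraMap k R)) ≠ 0 := by
    intro d hd h0
    refine hq.ne_top (Ideal.eq_top_of_isUnit_mem _ ?_ (isUnit_emb k R hd))
    have := key q hgq (d.map (algebraMap k R))
    rwa [h0, map_zero, map_zero, sub_zero] at this
  let F := FractionRing R
  let σ : k[X] →+* F := (algebraMap R F).comp (ev.comp (Polynomial.mapRingHom (algebraMap k R)))
  have hσ : Function.Injective σ := by
    rw [injective_iff_map_eq_zero]
    intro d hd
    by_contra hd0
    exact hne d hd0 (IsFractionRing.injective R F (hd.trans (map_zero _).symm))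
  let ρ : RatFunc k →+* F := RatFunc.liftRingHom σ
    (nonZeroDivisors_le_comap_nonZeroDivisors_of_injective _ hσ)
  have hρ : ∀ d : k[X], ρ (algebraMap k[X] (RatFunc k) d) = σ d := fun d =>
    RatFunc.liftRingHom_algebraMap _ _ d
  let fR : R →ₐ[k] F := IsScalarTower.toAlgHom k R F
  let fK : RatFunc k →ₐ[k] F :=
    { ρ with
      commutes' := fun a => by
        show ρ (algebraMap k (RatFunc k) a) = _
        rw [IsScalarTower.algebraMap_apply k k[X] (RatFunc k), hρ, Polynomial.algebraMap_eq,
          IsScalarTower.algebraMap_apply k R F]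
        simp [σ, ev] }
  let Φ : R ⊗[k] RatFunc k →ₐ[k] F := Algebra.TensorProduct.productMap fR fK
  have hΦ : ∀ p : R[X], Φ (emb k R p) = algebraMap R F (ev p) := by
    intro p
    have : (Φ.toRingHom.comp (emb k R)) = (algebraMap R F).comp ev := by
      refine Polynomial.ringHom_ext (fun r => ?_) ?_
      · show Φ (emb k R (Polynomial.C r)) = _
        rw [emb_C, Algebra.TensorProduct.productMap_apply_tmul, map_one, mul_one]
        simp [ev, fR]
      · show Φ (emb k R Polynomial.X) = _
        rw [emb_X, Algebra.TensorProduct.productMap_apply_tmul, map_one, one_mul]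
        show ρ RatFunc.X = _
        rw [← RatFunc.algebraMap_X, hρ]
        simp [σ, ev]
    exact RingHom.congr_fun this p
  refine ⟨RingHom.ker Φ.toRingHom, RingHom.ker_isPrime _, ?_, fun q hq hgq z hz => ?_⟩
  · show Φ g = 0
    rw [show g = emb k R (Polynomial.X + Polynomial.C f) by rw [map_add, emb_X, emb_C], hΦ]
    simp [ev]
  · obtain ⟨d, p, hd, hp⟩ := exists_poly k R z
    have h1 := congrArg Φ hp
    rw [map_mul, show Φ z = 0 from hz, zero_mul, hΦ] at h1
    have hp0 : ev p = 0 := IsFractionRing.injective R F (h1.symm.trans (map_zero _).symm)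
    have h2 := key q hgq p
    rw [hp0, map_zero, map_zero, sub_zero, ← hp] at h2
    exact (hq.mem_or_mem h2).resolve_right fun h3 =>
      hq.ne_top (Ideal.eq_top_of_isUnit_mem _ h3 (isUnit_emb k R hd))

end Groth.Agent.Surf15.RatTensor
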